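import Mathlib

/-!
# S5749, S5750, box E11: arithmetic in characteristic 11 (helper14)

* `four_ne`, `dv` : the powers of 4, non-divisibility;
* `Nop U = - ∑ n ^ 9 U n`; `Nop_eq` : `U n = ∑ j ≤ 10, (n ^ j / j!) N ^ j` for all `n < 11` implies `Nop U = N`.
-/

set_option autoImplicit false
set_option linter.unusedSectionVars false

namespace Cfsg.Agent.R2.H14.E11

variable {k : Type*} [Field k] [CharP k 11]

theorem e11 (k : Type*) [Field k] [CharP k 11] : (11 : k) = 0 := by
  have h := CharP.cast_eq_zero k 11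
  exact_mod_cast h

theorem ne_of (n : ℕ) (h : ¬ 11 ∣ n) : (n : k) ≠ 0 := fun h0 => h ((CharP.cast_eq_zero_iff k 11 n).1 h0)

theorem two_ne : (2 : k) ≠ 0 := by exact_mod_cast ne_of (k := k) 2 (by decide)

theorem three_ne : (3 : k) ≠ 0 := by exact_mod_cast ne_of (k := k) 3 (by decide)

theorem four_ne0 : (4 : k) ≠ 0 := by exact_mod_cast ne_of (k := k) 4 (by decide)

theorem four_five : (4 : k) ^ 5 = 1 := by
  have h := e11 k
  linear_combination 93 * h

theorem four_add (i : ℕ) : (4 : k) ^ (i + 5) = 4 ^ i := by rw [pow_add, four_five, mul_one]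

theorem four_mod (i : ℕ) : (4 : k) ^ i = 4 ^ (i % 5) := by
  conv_lhs => rw [← Nat.div_add_mod i 5, pow_add, pow_mul, four_five, one_pow, one_mul]

theorem four_ne {i j : ℕ} (h : i % 5 ≠ j % 5) : (4 : k) ^ i ≠ 4 ^ j := by
  rw [four_mod i, four_mod j]
  have hi := Nat.mod_lt i (show 0 < 5 by norm_num)
  have hj := Nat.mod_lt j (show 0 < 5 by norm_num)
  generalize i % 5 = i at *
  generalize j % 5 = j at *
  intro he
  wlog hij : i < j generalizing i j
  · exact this j hj i hi h.symm he.symm (by omega)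
  have h1 : ((4 ^ j - 4 ^ i : ℕ) : k) = 0 := by
    rw [Nat.cast_sub (Nat.pow_le_pow_right (by norm_num) hij.le)]
    push_cast
    rw [he, sub_self]
  rw [CharP.cast_eq_zero_iff k 11] at h1
  interval_cases j <;> interval_cases i <;> revert h1 <;> decide

/-- power sums -/
theorem psum (m : ℕ) (h : 11 ∣ ∑ n ∈ Finset.range 11, n ^ m) : ∑ n ∈ Finset.range 11, (n : k) ^ m = 0 := by
  have h1 := (CharP.cast_eq_zero_iff k 11 _).2 h
  push_cast at h1
  exact h1

theorem psum10 : ∑ n ∈ Finset.range 11, (n : k) ^ 10 = -1 := by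
  have h1 := (CharP.cast_eq_zero_iff k 11 (∑ n ∈ Finset.range 11, n ^ 10 + 1)).2 (by decide)
  push_cast at h1
  linear_combination h1

variable {V : Type*} [AddCommGroup V] [Module k V]

/-- the logarithm of the unipotent group -/
def Nop (U : ℕ → V →ₗ[k] V) : V →ₗ[k] V := -∑ n ∈ Finset.range 11, ((n : k) ^ 9) • U n

theorem Nop_apply (U : ℕ → V →ₗ[k] V) (v : V) : Nop U v = -∑ n ∈ Finset.range 11, ((n : k) ^ 9) • U n v := by
  unfold Nop
  rw [LinearMap.neg_apply, LinearMap.sum_apply]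
  rfl

theorem Nop_eq {U : ℕ → V →ₗ[k] V} {N : V →ₗ[k] V}
    (h : ∀ n < 11, ∀ v, U n v = ∑ j ∈ Finset.range 11, ((n : k) ^ j * ((j.factorial : k))⁻¹) • (N ^ j) v) : Nop U = N := by
  refine LinearMap.ext fun v => ?_
  rw [Nop_apply]
  have h1 : ∀ n ∈ Finset.range 11, ((n : k) ^ 9) • U n v =
      ∑ j ∈ Finset.range 11, ((n : k) ^ (9 + j) * ((j.factorial : k))⁻¹) • (N ^ j) v := by
    intro n hn
    rw [h n (Finset.mem_range.1 hn), Finset.smul_sum]
    refine Finset.sum_congr rfl fun j _ => ?_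
    rw [smul_smul, pow_add, mul_assoc]
  rw [Finset.sum_congr rfl h1, Finset.sum_comm]
  simp only [← Finset.sum_smul, ← Finset.sum_mul]
  rw [Finset.sum_eq_single 1]
  · rw [psum10, Nat.factorial_one, Nat.cast_one, inv_one, mul_one, neg_one_smul, neg_neg, pow_one]
  · intro j hj hj1
    rw [Finset.mem_range] at hj
    rw [psum, zero_mul, zero_smul]
    interval_cases j
    · decide
    · exact absurd rfl hj1
    all_goals decide
  · intro h1
    exact absurd (Finset.mem_range.2 (by norm_num)) h1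

/-- semilinear maps commuting with the unipotent elements commute with `Nop` -/
theorem Nop_comm {V₂ : Type*} [AddCommGroup V₂] [Module k V₂] {U : ℕ → V →ₗ[k] V} {U₂ : ℕ → V₂ →ₗ[k] V₂} {s : k →+* k}
    (f : V →ₛₗ[s] V₂) (h : ∀ n < 11, ∀ v, f (U n v) = U₂ n (f v)) (v : V) : f (Nop U v) = Nop U₂ (f v) := by
  rw [Nop_apply, Nop_apply, map_neg, map_sum]
  congr 1
  refine Finset.sum_congr rfl fun n hn => ?_
  rw [f.map_smulₛₗ, map_pow, map_natCast, h n (Finset.mem_range.1 hn)]

/-- forms invariant under the unipotent elements -/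
theorem Nop_skew {V₂ : Type*} [AddCommGroup V₂] [Module k V₂] {U : ℕ → V →ₗ[k] V} {U₂ : ℕ → V₂ →ₗ[k] V₂}
    (f : V →ₗ[k] V₂ →ₗ[k] k) (h : ∀ n < 11, ∀ v w, f (U n v) (U₂ n w) = f v w)
    (hU : ∀ n < 11, ∀ v, U₂ n (U₂ ((11 - n) % 11) v) = v)
    (v : V) (w : V₂) : f (Nop U v) w = -f v (Nop U₂ w) := by
  rw [Nop_apply, Nop_apply, map_neg, map_neg, map_sum, map_sum, LinearMap.neg_apply, LinearMap.sum_apply, neg_neg,
    ← Finset.sum_neg_distrib]
  have h1 : ∀ n ∈ Finset.range 11, -(f (((n : k) ^ 9) • U n v)) w =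
      (fun m : ℕ => f v (((m : k) ^ 9) • U₂ m w)) ((11 - n) % 11) := by
    intro n hn
    rw [Finset.mem_range] at hn
    have h2 : f (U n v) w = f v (U₂ ((11 - n) % 11) w) := by
      conv_lhs => rw [← hU n hn w]
      rw [h n hn]
    simp only [map_smul, LinearMap.smul_apply, smul_eq_mul]
    rw [h2]
    have h3 : (((11 - n) % 11 : ℕ) : k) = -(n : k) := by
      have h4 : (((11 - n) % 11 + n : ℕ) : k) = 0 := by
        rw [CharP.cast_eq_zero_iff k 11]
        omega
      push_cast at h4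
      linear_combination h4
    rw [h3]
    ring
  rw [Finset.sum_congr rfl h1]
  refine Finset.sum_nbij' (fun n => (11 - n) % 11) (fun n => (11 - n) % 11) ?_ ?_ ?_ ?_ ?_
  · intro n hn
    rw [Finset.mem_range] at hn ⊢
    omega
  · intro n hn
    rw [Finset.mem_range] at hn ⊢
    omega
  · intro n hn
    rw [Finset.mem_range] at hn
    omega
  · intro n hn
    rw [Finset.mem_range] at hn
    omega
  · intro n hn
    rfl

end Cfsg.Agent.R2.H14.E11
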