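import Cfsg.Agent.R2.H14.E11.Ar

/-!
# S5749, S5750, box E11: the module `T(12) ⊕ L(4)` of `SL(2, 11)` (helper14)

`Bs N H W p r c` : the explicit basis `p n = N ^ n P₀`, `r n = N ^ n R₀`, `c n = N ^ n C₀`.

* `Bs.A`, `Bs.B`, `Bs.C` : coordinates; `Bs.expand`, `Bs.ext`, `Bs.lift`;
* `sk`, `wt_zero` : skew forms, weights.
-/

set_option autoImplicit false
set_option linter.unusedSectionVars false

namespace Cfsg.Agent.R2.H14.E11

open Module

variable {k : Type*} [Field k] [CharP k 11] {V : Type*} [AddCommGroup V] [Module k V]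

/-- the explicit structure -/
structure Bs (N H W : V →ₗ[k] V) (p r c : ℕ → V) : Prop where
  Np : ∀ n, N (p n) = p (n + 1)
  Nr : ∀ n, N (r n) = r (n + 1)
  Nc : ∀ n, N (c n) = c (n + 1)
  zp : p 11 = 0
  zr : r 11 = 0
  zc : c 5 = 0
  Hp : ∀ n, H (p n) = (4 : k) ^ (n + 1) • p n
  Hr : ∀ n, H (r n) = (4 : k) ^ (n + 4) • r n
  Hc : ∀ n, H (c n) = (4 : k) ^ (n + 3) • c n
  Wp0 : W (p 0) = (9 : k) • p 8 + (8 : k) • r 10
  Wp1 : W (p 1) = (5 : k) • p 7 + (6 : k) • r 9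
  Wp2 : W (p 2) = (7 : k) • p 6 + (5 : k) • r 8
  Wp3 : W (p 3) = (6 : k) • p 5 + (6 : k) • r 7
  Wp4 : W (p 4) = p 4
  Wp5 : W (p 5) = (2 : k) • p 3 + (9 : k) • r 5
  Wp6 : W (p 6) = (8 : k) • p 2 + (10 : k) • r 4
  Wp7 : W (p 7) = (9 : k) • p 1 + (9 : k) • r 3
  Wp8 : W (p 8) = (5 : k) • p 0 + (7 : k) • p 10 + (9 : k) • r 2
  Wp9 : W (p 9) = p 9 + r 1
  Wp10 : W (p 10) = (10 : k) • r 0
  Wr0 : W (r 0) = (10 : k) • p 10
  Wr1 : W (r 1) = (10 : k) • r 1
  Wr2 : W (r 2) = (2 : k) • r 0 + (9 : k) • r 10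
  Wr3 : W (r 3) = (5 : k) • r 9
  Wr4 : W (r 4) = (7 : k) • r 8
  Wr5 : W (r 5) = (6 : k) • r 7
  Wr6 : W (r 6) = r 6
  Wr7 : W (r 7) = (2 : k) • r 5
  Wr8 : W (r 8) = (8 : k) • r 4
  Wr9 : W (r 9) = (9 : k) • r 3
  Wr10 : W (r 10) = (10 : k) • p 10 + (5 : k) • r 2
  Wc0 : W (c 0) = (6 : k) • c 4
  Wc1 : W (c 1) = (9 : k) • c 3
  Wc2 : W (c 2) = c 2
  Wc3 : W (c 3) = (5 : k) • c 1
  Wc4 : W (c 4) = (2 : k) • c 0
  li : ∀ a b e : ℕ → k, ∑ n ∈ Finset.range 11, a n • p n + ∑ n ∈ Finset.range 11, b n • r n +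
    ∑ n ∈ Finset.range 5, e n • c n = 0 → (∀ n < 11, a n = 0) ∧ (∀ n < 11, b n = 0) ∧ ∀ n < 5, e n = 0
  sp : ∀ v : V, ∃ a b e : ℕ → k, v = ∑ n ∈ Finset.range 11, a n • p n + ∑ n ∈ Finset.range 11, b n • r n +
    ∑ n ∈ Finset.range 5, e n • c n

variable {N H W : V →ₗ[k] V} {p r c : ℕ → V}

theorem chain_zero {q : ℕ → V} (hq : ∀ n, N (q n) = q (n + 1)) {m : ℕ} (h0 : q m = 0) {n : ℕ} (h : m ≤ n) : q n = 0 := by
  obtain ⟨d, rfl⟩ := Nat.exists_eq_add_of_le h
  induction d with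
  | zero => exact h0
  | succ d ih => rw [← add_assoc, ← hq, ih (by omega), map_zero]

theorem Bs.p0 (h : Bs N H W p r c) {n : ℕ} (hn : 11 ≤ n) : p n = 0 := chain_zero h.Np h.zp hn

theorem Bs.r0 (h : Bs N H W p r c) {n : ℕ} (hn : 11 ≤ n) : r n = 0 := chain_zero h.Nr h.zr hn

theorem Bs.c0 (h : Bs N H W p r c) {n : ℕ} (hn : 5 ≤ n) : c n = 0 := chain_zero h.Nc h.zc hn

/-- the family -/
def fam (p r c : ℕ → V) : Fin 11 ⊕ Fin 11 ⊕ Fin 5 → V :=
  Sum.elim (fun i => p i) (Sum.elim (fun i => r i) (fun i => c i))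

/-- extension by zero -/
def ex {n : ℕ} (f : Fin n → k) (i : ℕ) : k := if h : i < n then f ⟨i, h⟩ else 0

theorem ex_coe {n : ℕ} (f : Fin n → k) (i : Fin n) : ex f i = f i := by
  unfold ex
  rw [dif_pos i.2]

theorem sum_ex {n : ℕ} (f : Fin n → k) (q : ℕ → V) : ∑ i : Fin n, f i • q i = ∑ i ∈ Finset.range n, ex f i • q i := by
  rw [← Fin.sum_univ_eq_sum_range (fun i => ex f i • q i)]
  exact Finset.sum_congr rfl fun i _ => by rw [ex_coe]

theorem fam_li (h : Bs N H W p r c) : LinearIndependent k (fam p r c) := by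
  rw [Fintype.linearIndependent_iff]
  intro g hg
  rw [Fintype.sum_sum_type, Fintype.sum_sum_type] at hg
  have h1 := h.li (ex fun i => g (Sum.inl i)) (ex fun i => g (Sum.inr (Sum.inl i))) (ex fun i => g (Sum.inr (Sum.inr i))) (by
    rw [← sum_ex, ← sum_ex, ← sum_ex, ← hg, add_assoc]
    rfl)
  rintro (i | i | i)
  · have := h1.1 i i.2
    rwa [ex_coe] at this
  · have := h1.2.1 i i.2
    rwa [ex_coe] at this
  · have := h1.2.2 i i.2
    rwa [ex_coe] at this

theorem fam_sp (h : Bs N H W p r c) : ⊤ ≤ Submodule.span k (Set.range (fam p r c)) := by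
  intro v _
  obtain ⟨a, b, e, rfl⟩ := h.sp v
  refine Submodule.add_mem _ (Submodule.add_mem _ ?_ ?_) ?_
  · refine Submodule.sum_mem _ fun n hn => Submodule.smul_mem _ _ (Submodule.subset_span ?_)
    exact ⟨Sum.inl ⟨n, Finset.mem_range.1 hn⟩, rfl⟩
  · refine Submodule.sum_mem _ fun n hn => Submodule.smul_mem _ _ (Submodule.subset_span ?_)
    exact ⟨Sum.inr (Sum.inl ⟨n, Finset.mem_range.1 hn⟩), rfl⟩
  · refine Submodule.sum_mem _ fun n hn => Submodule.smul_mem _ _ (Submodule.subset_span ?_)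
    exact ⟨Sum.inr (Sum.inr ⟨n, Finset.mem_range.1 hn⟩), rfl⟩

/-- the basis -/
noncomputable def Bs.bas (h : Bs N H W p r c) : Basis (Fin 11 ⊕ Fin 11 ⊕ Fin 5) k V := Basis.mk (fam_li h) (fam_sp h)

/-- coordinates -/
noncomputable def Bs.A (h : Bs N H W p r c) (n : ℕ) : V →ₗ[k] k := if hn : n < 11 then h.bas.coord (Sum.inl ⟨n, hn⟩) else 0

/-- coordinates -/
noncomputable def Bs.B (h : Bs N H W p r c) (n : ℕ) : V →ₗ[k] k :=
  if hn : n < 11 then h.bas.coord (Sum.inr (Sum.inl ⟨n, hn⟩)) else 0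

/-- coordinates -/
noncomputable def Bs.C (h : Bs N H W p r c) (n : ℕ) : V →ₗ[k] k :=
  if hn : n < 5 then h.bas.coord (Sum.inr (Sum.inr ⟨n, hn⟩)) else 0

theorem Bs.bas_apply (h : Bs N H W p r c) (i : Fin 11 ⊕ Fin 11 ⊕ Fin 5) : h.bas i = fam p r c i := by
  unfold Bs.bas
  rw [Basis.mk_apply]

theorem Bs.A_p (h : Bs N H W p r c) (i j : ℕ) : h.A i (p j) = if i = j ∧ i < 11 then 1 else 0 := by
  unfold Bs.A
  by_cases hi : i < 11
  · rw [dif_pos hi]
    by_cases hj : j < 11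
    · have h1 : p j = h.bas (Sum.inl ⟨j, hj⟩) := by rw [h.bas_apply]; rfl
      rw [h1, Basis.coord_apply, Basis.repr_self, Finsupp.single_apply]
      simp [hi, eq_comm]
    · rw [h.p0 (by omega), map_zero, if_neg (by omega)]
  · rw [dif_neg hi, LinearMap.zero_apply, if_neg (by omega)]

theorem Bs.A_r (h : Bs N H W p r c) (i j : ℕ) : h.A i (r j) = 0 := by
  unfold Bs.A
  by_cases hi : i < 11
  · rw [dif_pos hi]
    by_cases hj : j < 11
    · have h1 : r j = h.bas (Sum.inr (Sum.inl ⟨j, hj⟩)) := by rw [h.bas_apply]; rfl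
      rw [h1, Basis.coord_apply, Basis.repr_self, Finsupp.single_apply]
      simp
    · rw [h.r0 (by omega), map_zero]
  · rw [dif_neg hi, LinearMap.zero_apply]

theorem Bs.A_c (h : Bs N H W p r c) (i j : ℕ) : h.A i (c j) = 0 := by
  unfold Bs.A
  by_cases hi : i < 11
  · rw [dif_pos hi]
    by_cases hj : j < 5
    · have h1 : c j = h.bas (Sum.inr (Sum.inr ⟨j, hj⟩)) := by rw [h.bas_apply]; rfl
      rw [h1, Basis.coord_apply, Basis.repr_self, Finsupp.single_apply]
      simp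
    · rw [h.c0 (by omega), map_zero]
  · rw [dif_neg hi, LinearMap.zero_apply]

theorem Bs.B_r (h : Bs N H W p r c) (i j : ℕ) : h.B i (r j) = if i = j ∧ i < 11 then 1 else 0 := by
  unfold Bs.B
  by_cases hi : i < 11
  · rw [dif_pos hi]
    by_cases hj : j < 11
    · have h1 : r j = h.bas (Sum.inr (Sum.inl ⟨j, hj⟩)) := by rw [h.bas_apply]; rfl
      rw [h1, Basis.coord_apply, Basis.repr_self, Finsupp.single_apply]
      simp [hi, eq_comm]
    · rw [h.r0 (by omega), map_zero, if_neg (by omega)]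
  · rw [dif_neg hi, LinearMap.zero_apply, if_neg (by omega)]

theorem Bs.B_p (h : Bs N H W p r c) (i j : ℕ) : h.B i (p j) = 0 := by
  unfold Bs.B
  by_cases hi : i < 11
  · rw [dif_pos hi]
    by_cases hj : j < 11
    · have h1 : p j = h.bas (Sum.inl ⟨j, hj⟩) := by rw [h.bas_apply]; rfl
      rw [h1, Basis.coord_apply, Basis.repr_self, Finsupp.single_apply]
      simp
    · rw [h.p0 (by omega), map_zero]
  · rw [dif_neg hi, LinearMap.zero_apply]

theorem Bs.B_c (h : Bs N H W p r c) (i j : ℕ) : h.B i (c j) = 0 := by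
  unfold Bs.B
  by_cases hi : i < 11
  · rw [dif_pos hi]
    by_cases hj : j < 5
    · have h1 : c j = h.bas (Sum.inr (Sum.inr ⟨j, hj⟩)) := by rw [h.bas_apply]; rfl
      rw [h1, Basis.coord_apply, Basis.repr_self, Finsupp.single_apply]
      simp
    · rw [h.c0 (by omega), map_zero]
  · rw [dif_neg hi, LinearMap.zero_apply]

theorem Bs.C_c (h : Bs N H W p r c) (i j : ℕ) : h.C i (c j) = if i = j ∧ i < 5 then 1 else 0 := by
  unfold Bs.C
  by_cases hi : i < 5
  · rw [dif_pos hi]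
    by_cases hj : j < 5
    · have h1 : c j = h.bas (Sum.inr (Sum.inr ⟨j, hj⟩)) := by rw [h.bas_apply]; rfl
      rw [h1, Basis.coord_apply, Basis.repr_self, Finsupp.single_apply]
      simp [hi, eq_comm]
    · rw [h.c0 (by omega), map_zero, if_neg (by omega)]
  · rw [dif_neg hi, LinearMap.zero_apply, if_neg (by omega)]

theorem Bs.C_p (h : Bs N H W p r c) (i j : ℕ) : h.C i (p j) = 0 := by
  unfold Bs.C
  by_cases hi : i < 5
  · rw [dif_pos hi]
    by_cases hj : j < 11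
    · have h1 : p j = h.bas (Sum.inl ⟨j, hj⟩) := by rw [h.bas_apply]; rfl
      rw [h1, Basis.coord_apply, Basis.repr_self, Finsupp.single_apply]
      simp
    · rw [h.p0 (by omega), map_zero]
  · rw [dif_neg hi, LinearMap.zero_apply]

theorem Bs.C_r (h : Bs N H W p r c) (i j : ℕ) : h.C i (r j) = 0 := by
  unfold Bs.C
  by_cases hi : i < 5
  · rw [dif_pos hi]
    by_cases hj : j < 11
    · have h1 : r j = h.bas (Sum.inr (Sum.inl ⟨j, hj⟩)) := by rw [h.bas_apply]; rfl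
      rw [h1, Basis.coord_apply, Basis.repr_self, Finsupp.single_apply]
      simp
    · rw [h.r0 (by omega), map_zero]
  · rw [dif_neg hi, LinearMap.zero_apply]

/-- the expansion of a vector -/
theorem Bs.expand (h : Bs N H W p r c) (v : V) : v = ∑ n ∈ Finset.range 11, h.A n v • p n +
    ∑ n ∈ Finset.range 11, h.B n v • r n + ∑ n ∈ Finset.range 5, h.C n v • c n := by
  conv_lhs => rw [← h.bas.sum_repr v]
  rw [Fintype.sum_sum_type, Fintype.sum_sum_type, ← add_assoc, ← Fin.sum_univ_eq_sum_range (fun i => h.A i v • p i),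
    ← Fin.sum_univ_eq_sum_range (fun i => h.B i v • r i), ← Fin.sum_univ_eq_sum_range (fun i => h.C i v • c i)]
  congr 1
  · congr 1
    · refine Finset.sum_congr rfl fun i _ => ?_
      rw [h.bas_apply]
      unfold Bs.A
      rw [dif_pos i.2]
      rfl
    · refine Finset.sum_congr rfl fun i _ => ?_
      rw [h.bas_apply]
      unfold Bs.B
      rw [dif_pos i.2]
      rfl
  · refine Finset.sum_congr rfl fun i _ => ?_
    rw [h.bas_apply]
    unfold Bs.C
    rw [dif_pos i.2]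
    rfl

/-- linear maps are determined by the values on the chains -/
theorem Bs.ext {V₂ : Type*} [AddCommGroup V₂] [Module k V₂] (h : Bs N H W p r c) {f g : V →ₗ[k] V₂}
    (hp : ∀ n, f (p n) = g (p n)) (hr : ∀ n, f (r n) = g (r n)) (hc : ∀ n, f (c n) = g (c n)) : f = g := by
  refine LinearMap.ext fun v => ?_
  obtain ⟨a, b, e, rfl⟩ := h.sp v
  simp only [map_add, map_sum, map_smul, hp, hr, hc]

/-- linear maps with given values -/
theorem Bs.lift {V₂ : Type*} [AddCommGroup V₂] [Module k V₂] (h : Bs N H W p r c) (x y z : ℕ → V₂) :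
    ∃ f : V →ₗ[k] V₂, (∀ n < 11, f (p n) = x n) ∧ (∀ n < 11, f (r n) = y n) ∧ ∀ n < 5, f (c n) = z n := by
  refine ⟨h.bas.constr k (Sum.elim (fun i => x i) (Sum.elim (fun i => y i) fun i => z i)), fun n hn => ?_, fun n hn => ?_,
    fun n hn => ?_⟩
  · have h1 : p n = h.bas (Sum.inl ⟨n, hn⟩) := by rw [h.bas_apply]; rfl
    rw [h1, Basis.constr_basis]
    rfl
  · have h1 : r n = h.bas (Sum.inr (Sum.inl ⟨n, hn⟩)) := by rw [h.bas_apply]; rfl
    rw [h1, Basis.constr_basis]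
    rfl
  · have h1 : c n = h.bas (Sum.inr (Sum.inr ⟨n, hn⟩)) := by rw [h.bas_apply]; rfl
    rw [h1, Basis.constr_basis]
    rfl

/-! ### eigenvectors of `H` -/

theorem Bs.A_H (h : Bs N H W p r c) (n : ℕ) (v : V) : h.A n (H v) = 4 ^ (n + 1) * h.A n v := by
  have h1 : (h.A n).comp H = ((4 : k) ^ (n + 1)) • h.A n := by
    refine h.ext (fun m => ?_) (fun m => ?_) fun m => ?_
    · rw [LinearMap.comp_apply, h.Hp, map_smul, LinearMap.smul_apply, h.A_p]
      by_cases hnm : n = m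
      · rw [hnm]
      · rw [if_neg (fun h => hnm h.1), smul_zero, smul_zero]
    · rw [LinearMap.comp_apply, h.Hr, map_smul, LinearMap.smul_apply, h.A_r, smul_zero, smul_zero]
    · rw [LinearMap.comp_apply, h.Hc, map_smul, LinearMap.smul_apply, h.A_c, smul_zero, smul_zero]
  exact LinearMap.congr_fun h1 v

theorem Bs.B_H (h : Bs N H W p r c) (n : ℕ) (v : V) : h.B n (H v) = 4 ^ (n + 4) * h.B n v := by
  have h1 : (h.B n).comp H = ((4 : k) ^ (n + 4)) • h.B n := by
    refine h.ext (fun m => ?_) (fun m => ?_) fun m => ?_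
    · rw [LinearMap.comp_apply, h.Hp, map_smul, LinearMap.smul_apply, h.B_p, smul_zero, smul_zero]
    · rw [LinearMap.comp_apply, h.Hr, map_smul, LinearMap.smul_apply, h.B_r]
      by_cases hnm : n = m
      · rw [hnm]
      · rw [if_neg (fun h => hnm h.1), smul_zero, smul_zero]
    · rw [LinearMap.comp_apply, h.Hc, map_smul, LinearMap.smul_apply, h.B_c, smul_zero, smul_zero]
  exact LinearMap.congr_fun h1 v

theorem Bs.C_H (h : Bs N H W p r c) (n : ℕ) (v : V) : h.C n (H v) = 4 ^ (n + 3) * h.C n v := by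
  have h1 : (h.C n).comp H = ((4 : k) ^ (n + 3)) • h.C n := by
    refine h.ext (fun m => ?_) (fun m => ?_) fun m => ?_
    · rw [LinearMap.comp_apply, h.Hp, map_smul, LinearMap.smul_apply, h.C_p, smul_zero, smul_zero]
    · rw [LinearMap.comp_apply, h.Hr, map_smul, LinearMap.smul_apply, h.C_r, smul_zero, smul_zero]
    · rw [LinearMap.comp_apply, h.Hc, map_smul, LinearMap.smul_apply, h.C_c]
      by_cases hnm : n = m
      · rw [hnm]
      · rw [if_neg (fun h => hnm h.1), smul_zero, smul_zero]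
  exact LinearMap.congr_fun h1 v

theorem Bs.A_eig (h : Bs N H W p r c) {v : V} {s : ℕ} (hv : H v = (4 : k) ^ s • v) {n : ℕ} (hn : (n + 1) % 5 ≠ s % 5) :
    h.A n v = 0 := by
  have h1 := h.A_H n v
  rw [hv, map_smul, smul_eq_mul] at h1
  have h2 : ((4 : k) ^ (n + 1) - 4 ^ s) * h.A n v = 0 := by rw [sub_mul, h1, sub_self]
  exact (mul_eq_zero.1 h2).resolve_left (sub_ne_zero.2 (four_ne hn))

theorem Bs.B_eig (h : Bs N H W p r c) {v : V} {s : ℕ} (hv : H v = (4 : k) ^ s • v) {n : ℕ} (hn : (n + 4) % 5 ≠ s % 5) :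
    h.B n v = 0 := by
  have h1 := h.B_H n v
  rw [hv, map_smul, smul_eq_mul] at h1
  have h2 : ((4 : k) ^ (n + 4) - 4 ^ s) * h.B n v = 0 := by rw [sub_mul, h1, sub_self]
  exact (mul_eq_zero.1 h2).resolve_left (sub_ne_zero.2 (four_ne hn))

theorem Bs.C_eig (h : Bs N H W p r c) {v : V} {s : ℕ} (hv : H v = (4 : k) ^ s • v) {n : ℕ} (hn : (n + 3) % 5 ≠ s % 5) :
    h.C n v = 0 := by
  have h1 := h.C_H n v
  rw [hv, map_smul, smul_eq_mul] at h1
  have h2 : ((4 : k) ^ (n + 3) - 4 ^ s) * h.C n v = 0 := by rw [sub_mul, h1, sub_self]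
  exact (mul_eq_zero.1 h2).resolve_left (sub_ne_zero.2 (four_ne hn))

theorem Bs.N_H (h : Bs N H W p r c) (v : V) : H (N v) = (4 : k) • N (H v) := by
  have h1 : H.comp N = (4 : k) • N.comp H := by
    refine h.ext (fun m => ?_) (fun m => ?_) fun m => ?_
    · rw [LinearMap.comp_apply, LinearMap.smul_apply, LinearMap.comp_apply, h.Np, h.Hp, h.Hp, map_smul, h.Np, smul_smul,
        ← pow_succ']
    · rw [LinearMap.comp_apply, LinearMap.smul_apply, LinearMap.comp_apply, h.Nr, h.Hr, h.Hr, map_smul, h.Nr, smul_smul,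
        ← pow_succ']
    · rw [LinearMap.comp_apply, LinearMap.smul_apply, LinearMap.comp_apply, h.Nc, h.Hc, h.Hc, map_smul, h.Nc, smul_smul,
        ← pow_succ']
  exact LinearMap.congr_fun h1 v

/-- the coordinates of `N v` -/
theorem Bs.A_N (h : Bs N H W p r c) {n : ℕ} (hn : n < 10) (v : V) : h.A (n + 1) (N v) = h.A n v := by
  have h1 : (h.A (n + 1)).comp N = h.A n := by
    refine h.ext (fun m => ?_) (fun m => ?_) fun m => ?_
    · rw [LinearMap.comp_apply, h.Np, h.A_p, h.A_p]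
      by_cases hnm : n = m
      · rw [if_pos (by omega), if_pos (by omega)]
      · rw [if_neg (by omega), if_neg (by omega)]
    · rw [LinearMap.comp_apply, h.Nr, h.A_r, h.A_r]
    · rw [LinearMap.comp_apply, h.Nc, h.A_c, h.A_c]
  exact LinearMap.congr_fun h1 v

theorem Bs.B_N (h : Bs N H W p r c) {n : ℕ} (hn : n < 10) (v : V) : h.B (n + 1) (N v) = h.B n v := by
  have h1 : (h.B (n + 1)).comp N = h.B n := by
    refine h.ext (fun m => ?_) (fun m => ?_) fun m => ?_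
    · rw [LinearMap.comp_apply, h.Np, h.B_p, h.B_p]
    · rw [LinearMap.comp_apply, h.Nr, h.B_r, h.B_r]
      by_cases hnm : n = m
      · rw [if_pos (by omega), if_pos (by omega)]
      · rw [if_neg (by omega), if_neg (by omega)]
    · rw [LinearMap.comp_apply, h.Nc, h.B_c, h.B_c]
  exact LinearMap.congr_fun h1 v

theorem Bs.C_N (h : Bs N H W p r c) {n : ℕ} (hn : n < 4) (v : V) : h.C (n + 1) (N v) = h.C n v := by
  have h1 : (h.C (n + 1)).comp N = h.C n := by
    refine h.ext (fun m => ?_) (fun m => ?_) fun m => ?_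
    · rw [LinearMap.comp_apply, h.Np, h.C_p, h.C_p]
    · rw [LinearMap.comp_apply, h.Nr, h.C_r, h.C_r]
    · rw [LinearMap.comp_apply, h.Nc, h.C_c, h.C_c]
      by_cases hnm : n = m
      · rw [if_pos (by omega), if_pos (by omega)]
      · rw [if_neg (by omega), if_neg (by omega)]
  exact LinearMap.congr_fun h1 v

/-- the kernel of `N` -/
theorem Bs.ker_N (h : Bs N H W p r c) {v : V} (hv : N v = 0) : v = h.A 10 v • p 10 + h.B 10 v • r 10 + h.C 4 v • c 4 := by
  have hA : ∀ n < 10, h.A n v = 0 := fun n hn => by rw [← h.A_N hn, hv, map_zero]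
  have hB : ∀ n < 10, h.B n v = 0 := fun n hn => by rw [← h.B_N hn, hv, map_zero]
  have hC : ∀ n < 4, h.C n v = 0 := fun n hn => by rw [← h.C_N hn, hv, map_zero]
  conv_lhs => rw [h.expand v]
  rw [Finset.sum_range_succ, Finset.sum_range_succ (fun n => h.B n v • r n), Finset.sum_range_succ (fun n => h.C n v • c n),
    Finset.sum_eq_zero fun n hn => by rw [hA n (Finset.mem_range.1 hn), zero_smul],
    Finset.sum_eq_zero fun n hn => by rw [hB n (Finset.mem_range.1 hn), zero_smul],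
    Finset.sum_eq_zero fun n hn => by rw [hC n (Finset.mem_range.1 hn), zero_smul], zero_add, zero_add, zero_add]

/-- the line of `p 10` -/
theorem Bs.line (h : Bs N H W p r c) {v : V} (hv : N v = 0) (hH : H v = (4 : k) • v) : ∃ d : k, v = d • p 10 := by
  have hH' : H v = (4 : k) ^ 1 • v := by rw [pow_one, hH]
  refine ⟨h.A 10 v, ?_⟩
  conv_lhs => rw [h.ker_N hv]
  rw [h.B_eig hH' (by norm_num), h.C_eig hH' (by norm_num), zero_smul, zero_smul, add_zero, add_zero]

/-! ### skew forms -/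

theorem sk {b : V →ₗ[k] V →ₗ[k] k} (hb : ∀ v w, b (N v) w = -b v (N w)) {q q' : ℕ → V} (hq : ∀ n, N (q n) = q (n + 1))
    (hq' : ∀ n, N (q' n) = q' (n + 1)) (i j : ℕ) : b (q i) (q' j) = (-1) ^ i * b (q 0) (q' (i + j)) := by
  induction i generalizing j with
  | zero => rw [pow_zero, one_mul, zero_add]
  | succ i ih =>
    rw [← hq, hb, hq', ih, show i + (j + 1) = i + 1 + j by ring]
    ring

theorem wt_zero {b : V →ₗ[k] V →ₗ[k] k} {s : ℕ} (hb : ∀ v w, b (H v) (H w) = 4 ^ s * b v w) {x y : V} {i j : ℕ}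
    (hx : H x = (4 : k) ^ i • x) (hy : H y = (4 : k) ^ j • y) (hij : (i + j) % 5 ≠ s % 5) : b x y = 0 := by
  have h1 := hb x y
  rw [hx, hy, map_smul, map_smul, LinearMap.smul_apply, smul_eq_mul, smul_eq_mul, ← mul_assoc, mul_comm (4 ^ j),
    ← pow_add] at h1
  have h2 : ((4 : k) ^ (i + j) - 4 ^ s) * b x y = 0 := by rw [sub_mul, h1, sub_self]
  exact (mul_eq_zero.1 h2).resolve_left (sub_ne_zero.2 (four_ne hij))

end Cfsg.Agent.R2.H14.E11
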