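import Cfsg.Agent.R2.H14.E11.Xop

/-!
# S5749, S5750, box E11: the coefficients of `x` (helper14)
-/

set_option autoImplicit false
set_option linter.unusedSectionVars false
set_option linter.unusedSimpArgs false

namespace Cfsg.Agent.R2.H14.E11

open Module Matrix Cfsg.Lie Cfsg.Agent.H943.SL2Rel
open Cfsg.Agent.H952.F4 (sh cr tf)
open Cfsg.Agent.H952.F4.Jord
open Cfsg.Agent.R2.GEO (crB crB_apply tfB tfB_apply kr finrank_kr_white)
open Cfsg.Agent.R2.H9.E6 (Dop Dop_apply tf_zero_left tf_zero_right cr_zero_left cr_zero_right tf_Dop Dop_add_left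
  Dop_add_right Dop_smul_left Dop_smul_right Dop_cr tf_sh_Dop')

universe v w

section gen

variable {k : Type*} [Field k] [CharP k 11] {V : Type*} [AddCommGroup V] [Module k V] {N H W : V →ₗ[k] V} {p r c : ℕ → V}

theorem Bs.A_pow (h : Bs N H W p r c) (j : ℕ) {n : ℕ} (hn : n + j < 11) (v : V) : h.A (n + j) ((N ^ j) v) = h.A n v := by
  induction j generalizing v with
  | zero => rw [add_zero, pow_zero, Module.End.one_apply]
  | succ j ih => rw [pow_succ', Module.End.mul_apply, ← add_assoc, h.A_N (by omega), ih (by omega)]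

theorem Bs.B_pow (h : Bs N H W p r c) (j : ℕ) {n : ℕ} (hn : n + j < 11) (v : V) : h.B (n + j) ((N ^ j) v) = h.B n v := by
  induction j generalizing v with
  | zero => rw [add_zero, pow_zero, Module.End.one_apply]
  | succ j ih => rw [pow_succ', Module.End.mul_apply, ← add_assoc, h.B_N (by omega), ih (by omega)]

theorem pow_chain {q : ℕ → V} (hq : ∀ n, N (q n) = q (n + 1)) (j n : ℕ) : (N ^ j) (q n) = q (n + j) := by
  induction j generalizing n with
  | zero => rw [pow_zero, Module.End.one_apply, add_zero]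
  | succ j ih =>
    rw [pow_succ, Module.End.mul_apply, hq, ih]
    congr 1
    ring

theorem pow_comm {x : V →ₗ[k] V} (hx : ∀ v, x (N v) = N (x v)) (j : ℕ) (v : V) : x ((N ^ j) v) = (N ^ j) (x v) := by
  induction j generalizing v with
  | zero => rw [pow_zero, Module.End.one_apply, Module.End.one_apply]
  | succ j ih => rw [pow_succ, Module.End.mul_apply, Module.End.mul_apply, ih, hx]

end gen

variable {k : Type v} [Field k] [CharP k 11] {K : Type w} [Field K] [CharP K 11]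
variable {ι : K →+* k} {ρ ρ' : Representation k (SpecialLinearGroup (Fin 2) K) (I27 → k)}
variable {F G : (I27 → k) →ₗ[k] (I27 → k)} {p r c : ℕ → I27 → k} {α β γ δ η : k} {y : I27 → k}

section cx

variable (X : Cx ι ρ ρ' F G p r c α β γ δ η y)
include X

theorem Cx.xpn (n : ℕ) : Dop (p 10) y (p n) = (Nr ρ ^ n) (Dop (p 10) y (p 0)) := by
  rw [← pow_comm X.xN, pow_chain X.hM.bs.Np, zero_add]

theorem Cx.xrn (n : ℕ) : Dop (p 10) y (r n) = (Nr ρ ^ n) (Dop (p 10) y (r 0)) := by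
  rw [← pow_comm X.xN, pow_chain X.hM.bs.Nr, zero_add]

theorem Cx.xcn (n : ℕ) : Dop (p 10) y (c n) = (Nr ρ ^ n) (Dop (p 10) y (c 0)) := by
  rw [← pow_comm X.xN, pow_chain X.hM.bs.Nc, zero_add]

/-- **the coefficients of `x`** -/
theorem Cx.expl : ∃ p1 p2 p5 q1 q2 q3 q4 s : k, Dop (p 10) y (p 0) = p1 • p 7 + p2 • r 9 + p5 • c 0 ∧
    Dop (p 10) y (r 0) = q1 • p 5 + q2 • r 7 + q3 • c 3 + q4 • p 10 ∧ Dop (p 10) y (c 0) = s • p 9 ∧ p5 * s = 0 := by
  have h := X.hM.bs
  -- `x P₀`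
  have hP : ρ (Cfsg.Agent.H943.SL2Rel.h tw) (Dop (p 10) y (p 0)) = (4 : k) ^ 3 • Dop (p 10) y (p 0) := by
    rw [X.xH, h.Hp, map_smul, smul_smul, ← pow_add]
  have hP5 : (Nr ρ ^ 5) (Dop (p 10) y (p 0)) = 0 := by rw [← X.xpn, X.xp le_rfl]
  have aP : ∀ n, n ≠ 7 → n < 11 → h.A n (Dop (p 10) y (p 0)) = 0 := by
    intro n hn hn'
    by_cases h3 : (n + 1) % 5 = 3
    · have h2 : n = 2 := by omega
      rw [h2, ← h.A_pow 5 (by norm_num), hP5, map_zero]
    · exact h.A_eig hP h3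
  have bP : ∀ n, n ≠ 9 → n < 11 → h.B n (Dop (p 10) y (p 0)) = 0 := by
    intro n hn hn'
    by_cases h3 : (n + 4) % 5 = 3
    · have h2 : n = 4 := by omega
      rw [h2, ← h.B_pow 5 (by norm_num), hP5, map_zero]
    · exact h.B_eig hP h3
  have cP : ∀ n, n ≠ 0 → n < 5 → h.C n (Dop (p 10) y (p 0)) = 0 := fun n hn hn' => h.C_eig hP (by omega)
  -- `x R₀`
  have hR : ρ (Cfsg.Agent.H943.SL2Rel.h tw) (Dop (p 10) y (r 0)) = (4 : k) ^ 6 • Dop (p 10) y (r 0) := by
    rw [X.xH, h.Hr, map_smul, smul_smul, ← pow_add]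
  have hR7 : (Nr ρ ^ 7) (Dop (p 10) y (r 0)) = 0 := by rw [← X.xrn, X.xr le_rfl]
  have aR : ∀ n, n ≠ 5 → n ≠ 10 → n < 11 → h.A n (Dop (p 10) y (r 0)) = 0 := by
    intro n hn hn1 hn'
    by_cases h3 : (n + 1) % 5 = 1
    · have h2 : n = 0 := by omega
      rw [h2, ← h.A_pow 7 (by norm_num), hR7, map_zero]
    · exact h.A_eig hR h3
  have bR : ∀ n, n ≠ 7 → n < 11 → h.B n (Dop (p 10) y (r 0)) = 0 := by
    intro n hn hn'
    by_cases h3 : (n + 4) % 5 = 1
    · have h2 : n = 2 := by omega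
      rw [h2, ← h.B_pow 7 (by norm_num), hR7, map_zero]
    · exact h.B_eig hR h3
  have cR : ∀ n, n ≠ 3 → n < 5 → h.C n (Dop (p 10) y (r 0)) = 0 := fun n hn hn' => h.C_eig hR (by omega)
  -- `x C₀`
  have hC : ρ (Cfsg.Agent.H943.SL2Rel.h tw) (Dop (p 10) y (c 0)) = (4 : k) ^ 5 • Dop (p 10) y (c 0) := by
    rw [X.xH, h.Hc, map_smul, smul_smul, ← pow_add]
  have hC3 : (Nr ρ ^ 3) (Dop (p 10) y (c 0)) = 0 := by rw [← X.xcn, X.xc le_rfl]
  have aC : ∀ n, n ≠ 9 → n < 11 → h.A n (Dop (p 10) y (c 0)) = 0 := by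
    intro n hn hn'
    by_cases h3 : (n + 1) % 5 = 0
    · have h2 : n = 4 := by omega
      rw [h2, ← h.A_pow 3 (by norm_num), hC3, map_zero]
    · exact h.A_eig hC h3
  have bC : ∀ n, n < 11 → h.B n (Dop (p 10) y (c 0)) = 0 := by
    intro n hn'
    by_cases h3 : (n + 4) % 5 = 0
    · have h2 : n = 1 ∨ n = 6 := by omega
      rcases h2 with h2 | h2
      · rw [h2, ← h.B_pow 3 (by norm_num), hC3, map_zero]
      · rw [h2, ← h.B_pow 3 (by norm_num), hC3, map_zero]
    · exact h.B_eig hC h3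
  have cC : ∀ n, n ≠ 2 → n < 5 → h.C n (Dop (p 10) y (c 0)) = 0 := fun n hn hn' => h.C_eig hC (by omega)
  have eP : Dop (p 10) y (p 0) = h.A 7 (Dop (p 10) y (p 0)) • p 7 + h.B 9 (Dop (p 10) y (p 0)) • r 9 +
      h.C 0 (Dop (p 10) y (p 0)) • c 0 := by
    conv_lhs => rw [h.expand (Dop (p 10) y (p 0))]
    rw [Finset.sum_eq_single 7 (fun n hn hn' => by rw [aP n hn' (Finset.mem_range.1 hn), zero_smul]) (by simp),
      Finset.sum_eq_single 9 (fun n hn hn' => by rw [bP n hn' (Finset.mem_range.1 hn), zero_smul]) (by simp),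
      Finset.sum_eq_single 0 (fun n hn hn' => by rw [cP n hn' (Finset.mem_range.1 hn), zero_smul]) (by simp)]
  have eR : Dop (p 10) y (r 0) = h.A 5 (Dop (p 10) y (r 0)) • p 5 + h.B 7 (Dop (p 10) y (r 0)) • r 7 +
      h.C 3 (Dop (p 10) y (r 0)) • c 3 + h.A 10 (Dop (p 10) y (r 0)) • p 10 := by
    conv_lhs => rw [h.expand (Dop (p 10) y (r 0))]
    rw [Finset.sum_range_succ, Finset.sum_eq_single 5 (fun n hn hn' => by
        have hn := Finset.mem_range.1 hn
        rw [aR n hn' (by omega) (by omega), zero_smul]) (by simp),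
      Finset.sum_eq_single 7 (fun n hn hn' => by rw [bR n hn' (Finset.mem_range.1 hn), zero_smul]) (by simp),
      Finset.sum_eq_single 3 (fun n hn hn' => by rw [cR n hn' (Finset.mem_range.1 hn), zero_smul]) (by simp)]
    abel
  have eC : Dop (p 10) y (c 0) = h.A 9 (Dop (p 10) y (c 0)) • p 9 + h.C 2 (Dop (p 10) y (c 0)) • c 2 := by
    conv_lhs => rw [h.expand (Dop (p 10) y (c 0))]
    rw [Finset.sum_eq_single 9 (fun n hn hn' => by rw [aC n hn' (Finset.mem_range.1 hn), zero_smul]) (by simp),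
      Finset.sum_eq_zero (fun n hn => by rw [bC n (Finset.mem_range.1 hn), zero_smul]),
      Finset.sum_eq_single 2 (fun n hn hn' => by rw [cC n hn' (Finset.mem_range.1 hn), zero_smul]) (by simp), add_zero]
  generalize h.A 7 (Dop (p 10) y (p 0)) = p1 at eP
  generalize h.B 9 (Dop (p 10) y (p 0)) = p2 at eP
  generalize h.C 0 (Dop (p 10) y (p 0)) = p5 at eP
  generalize h.A 5 (Dop (p 10) y (r 0)) = q1 at eR
  generalize h.B 7 (Dop (p 10) y (r 0)) = q2 at eR
  generalize h.C 3 (Dop (p 10) y (r 0)) = q3 at eR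
  generalize h.A 10 (Dop (p 10) y (r 0)) = q4 at eR
  generalize h.A 9 (Dop (p 10) y (c 0)) = s at eC
  generalize h.C 2 (Dop (p 10) y (c 0)) = s' at eC
  have hc2 : Dop (p 10) y (c 2) = s' • c 4 := by
    rw [X.xcn, eC, map_add, map_smul, map_smul, pow_chain h.Np, pow_chain h.Nc, h.zp, smul_zero, zero_add]
  have hs' : s' = 0 := by
    have h1 := X.xx (c 0)
    rw [eC, map_add, map_smul, map_smul, X.xp (by norm_num), smul_zero, zero_add, hc2, smul_smul] at h1
    have h2 := congrArg (h.C 4) h1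
    rw [map_smul, h.C_c, if_pos (by norm_num), map_zero, smul_eq_mul, mul_one] at h2
    exact mul_self_eq_zero.1 h2
  rw [hs', zero_smul, add_zero] at eC
  refine ⟨p1, p2, p5, q1, q2, q3, q4, s, eP, eR, eC, ?_⟩
  have h1 := X.xx (p 0)
  rw [eP, map_add, map_add, map_smul, map_smul, map_smul, X.xp (by norm_num), X.xr (by norm_num), smul_zero, smul_zero,
    zero_add, zero_add, eC, smul_smul] at h1
  have h2 := congrArg (h.A 9) h1
  rw [map_smul, h.A_p, if_pos (by norm_num), map_zero, smul_eq_mul, mul_one] at h2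
  exact h2

theorem Cx.tw3 (v z : I27 → k) : 10 * tf (cr (r 0) (ρ Cfsg.Agent.H943.SL2Rel.w v)) (ρ Cfsg.Agent.H943.SL2Rel.w z) =
    bF (p 10) v z := by
  rw [bF_apply, ← X.hP.swap.pt Cfsg.Agent.H943.SL2Rel.w (cr (p 10) v) z, ← X.hP.pc, X.hM.bs.Wp10, cr_smul_left, tf_smul_left]

/-- **`q₄ = 0`** -/
theorem Cx.q4 {q1 q2 q3 q4 : k} (hq : Dop (p 10) y (r 0) = q1 • p 5 + q2 • r 7 + q3 • c 3 + q4 • p 10) : q4 = 0 := by
  have h := X.hM.bs
  have e := e11 k
  have hne : NeZero (2 : k) := ⟨two_ne⟩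
  have hsh : sh (r 0) = 0 := by
    have h1 := X.hP.pc Cfsg.Agent.H943.SL2Rel.w (p 10) (p 10)
    rw [cr_self (p 10), X.hM.white X.hP, smul_zero, map_zero, h.Wp10, cr_smul_left, cr_smul_right, smul_smul, cr_self,
      smul_smul] at h1
    refine (smul_eq_zero.1 h1).resolve_left ?_
    have h2 := ne_of (k := k) 200 (by decide)
    intro h3
    apply h2
    push_cast
    linear_combination h3
  have key : ∀ v, tf (cr (r 0) v) (Dop (p 10) y (r 0)) = 0 := by
    intro v
    have h1 := tf_sh_Dop' X.tfpy (r 0) v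
    rwa [hsh, tf_zero_left, zero_add] at h1
  have hz : Dop (p 10) y (r 0) = ρ Cfsg.Agent.H943.SL2Rel.w (q1 • ((2 : k) • p 3 + (9 : k) • r 5) + (2 * q2) • r 5 +
      (5 * q3) • c 1 + (10 * q4) • r 0) := by
    rw [hq]
    simp only [map_add, map_smul, h.Wp3, h.Wr5, h.Wc1, h.Wr0, smul_add, smul_smul]
    have e1 : (q1 * 2 * 6 : k) = q1 := by linear_combination q1 * e
    have e2 : (2 * q2 * 6 : k) = q2 := by linear_combination q2 * e
    have e3 : (5 * q3 * 9 : k) = q3 := by linear_combination 4 * q3 * e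
    have e4 : (10 * q4 * 10 : k) = q4 := by linear_combination 9 * q4 * e
    have e5 : (q1 * 9 * 6 : k) = -q1 := by linear_combination 5 * q1 * e
    rw [e1, e2, e3, e4, e5]
    module
  have h4 : q4 * bF (p 10) (p 4) (r 0) = 0 := by
    have h1 := X.tw3 (p 4) (q1 • ((2 : k) • p 3 + (9 : k) • r 5) + (2 * q2) • r 5 + (5 * q3) • c 1 + (10 * q4) • r 0)
    rw [← hz, h.Wp4, key, mul_zero] at h1
    simp only [map_add, map_smul, smul_eq_mul] at h1
    rw [X.hb.pp, X.hb.pr0, X.hb.pc, if_neg (by norm_num), if_neg (by norm_num), if_neg (by norm_num)] at h1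
    linear_combination h1 + q4 * bF (p 10) (p 4) (r 0) * e
  have h6 : q4 * bF (p 10) (r 6) (r 0) = 0 := by
    have h1 := X.tw3 (r 6) (q1 • ((2 : k) • p 3 + (9 : k) • r 5) + (2 * q2) • r 5 + (5 * q3) • c 1 + (10 * q4) • r 0)
    rw [← hz, h.Wr6, key, mul_zero] at h1
    simp only [map_add, map_smul, smul_eq_mul] at h1
    rw [X.hb.rp0, X.hb.rr 6 5, X.hb.rc, if_neg (by norm_num), if_neg (by norm_num), if_neg (by norm_num)] at h1
    linear_combination h1 + q4 * bF (p 10) (r 6) (r 0) * e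
  rw [X.hb.pr0, if_pos (by norm_num)] at h4
  rw [X.hb.rr, if_pos (by norm_num)] at h6
  by_contra hq4
  have h7 := (mul_eq_zero.1 h4).resolve_left hq4
  have h8 := (mul_eq_zero.1 h6).resolve_left hq4
  apply X.hΔ
  have h9 : β = 0 := by linear_combination h7
  have h10 : γ = 0 := by linear_combination h8
  rw [h9, h10]
  ring

end cx

end Cfsg.Agent.R2.H14.E11
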