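import Cfsg.Agent.R2.H14.E11.FWt

/-!
# S5749, S5750, box E11: `Ms` from the structure `S11` (helper14)

* `low_of_cf` : lowest weight vectors in the quotient `V / L`;
* `Hyp ι a m ρ` : the facts;
* `exists_ms` : the basis.
-/

set_option autoImplicit false
set_option linter.unusedSectionVars false

namespace Cfsg.Agent.R2.H14.E11X

open Module Matrix Cfsg.Agent.H943.SL2Rel Cfsg.Agent.H943.SL2Mod Cfsg.Agent.H943.RepAdd
open Cfsg.Agent.R2.H28.SL2
open Cfsg.Agent.R2.H14.E11 (Wt Uf Zf ZZ Ms C4 Q_one Q_two a_pos exists_zz ms_of_zz lift10)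
open Cfsg.Lie

universe u v w

section low

variable {k : Type u} [Field k] {K : Type w} [Field K] [Fintype K] [DecidableEq K] (τ : K →+* k)

theorem mk_Dm {V : Type*} [AddCommGroup V] [Module k V] (ρ : Representation k (SpecialLinearGroup (Fin 2) K) V)
    {W : Submodule k V} (hW : ∀ g, ∀ x ∈ W, ρ g x ∈ W) (n : ℕ) (x : V) :
    Dm τ (quotRep ρ W hW) n (W.mkQ x) = W.mkQ (Dm τ ρ n x) := by
  rw [Dm_apply, Dm_apply, map_neg, map_sum]
  refine congrArg Neg.neg (Finset.sum_congr rfl fun t _ => ?_)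
  rw [quotRep_mk, map_smul]

variable [DecidableEq k] [CharP k 11] [CharP K 11] [Fact (Nat.Prime 11)]

theorem lift_low {V : Type*} [AddCommGroup V] [Module k V] (ρ : Representation k (SpecialLinearGroup (Fin 2) K) V)
    {W : Submodule k V} (hW : ∀ g, ∀ x ∈ W, ρ g x ∈ W) {e n : ℕ} {y : V ⧸ W} (h1 : Wt τ (quotRep ρ W hW) e y)
    (h2 : Dm τ (quotRep ρ W hW) n y ≠ 0) : ∃ x, Wt τ ρ e x ∧ Dm τ ρ n x ∉ W := by
  obtain ⟨x, rfl⟩ := W.mkQ_surjective y
  have h3 : ∀ c : Kˣ, ρ (h c) x - τ (c : K) ^ e • x ∈ W := by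
    intro c
    rw [← Submodule.ker_mkQ W, LinearMap.mem_ker, map_sub, map_smul, ← quotRep_mk (hW := hW), h1 c, sub_self]
  obtain ⟨x₀, h4, h5⟩ := exists_tavg τ 11 ρ W h3
  refine ⟨x₀, h5, fun h6 => h2 ?_⟩
  have h7 : W.mkQ x = W.mkQ x₀ := by
    have h8 : W.mkQ (x₀ - x) = 0 := by
      rw [← LinearMap.mem_ker, Submodule.ker_mkQ]
      exact h4
    rw [map_sub, sub_eq_zero] at h8
    exact h8.symm
  rw [h7, mk_Dm, ← LinearMap.mem_ker, Submodule.ker_mkQ]
  exact h6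

end low

variable {k : Type u} [Field k] [DecidableEq k] [CharP k 11] [Fact (Nat.Prime 11)]
variable {K : Type w} [Field K] [Fintype K] [DecidableEq K] [CharP K 11] (ι : K →+* k)
variable {a : ℕ} (hK : Fintype.card K = 11 ^ a)

include hK in
theorem Q_ge : 10 ≤ Fintype.card K - 1 := by
  rcases Nat.lt_or_ge 1 a with h | h
  · have := Q_two hK h
    omega
  · have h1 := a_pos hK
    have := Q_one hK (by omega)
    omega

include hK in
/-- lowest weight vectors of `V₈` -/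
theorem low_irr {V : Type*} [AddCommGroup V] [Module k V] {ρ : Representation k (SpecialLinearGroup (Fin 2) K) V} {m : ℕ}
    (hV : IsV ι 11 ρ (8 * 11 ^ m)) :
    ∃ x, Wt (tau ι m) ρ (Fintype.card K - 1 - 8) x ∧ Dm (tau ι m) ρ 8 x ≠ 0 := by
  obtain ⟨v, hv⟩ := hV.basS ι 11 (by norm_num)
  have hQ := Q_ge hK
  obtain ⟨Q, hQd⟩ : ∃ Q, Q = Fintype.card K - 1 := ⟨_, rfl⟩
  refine ⟨v 0, fun c => ?_, ?_⟩
  · have h1 := hv.h 0 (by norm_num) c
    rw [h1, pow_zero, one_mul, Nat.sub_zero, ← tau_apply]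
    congr 1
    rw [inv_pow]
    apply inv_eq_of_mul_eq_one_right
    rw [← pow_add, show 8 + (Fintype.card K - 1 - 8) = Fintype.card K - 1 by omega]
    exact powQ (tau ι m) c.ne_zero
  · have h1 : ∀ t : K, tau ι m t ^ (Fintype.card K - 1 - 8) • ρ (u t) (v 0) =
        ∑ j ∈ Finset.range 9, ((8 : ℕ).choose j : k) • (tau ι m t ^ (Q - 8 + j) • v j) := by
      intro t
      rw [hv.u 0 (by norm_num), Finset.smul_sum]
      refine Finset.sum_congr rfl fun j _ => ?_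
      rw [smul_smul, smul_smul, tau_apply, ← hQd, zero_add, Nat.sub_zero, pow_add]
      congr 1
      ring
    have h8 : Dm (tau ι m) ρ 8 (v 0) = v 8 := by
      rw [Dm_apply, Finset.sum_congr rfl fun t _ => h1 t, Finset.sum_comm, Finset.sum_eq_single 8]
      · rw [← Finset.smul_sum, ← Finset.sum_smul, Cfsg.Agent.R2.H28.SL2.psum (tau ι m) (by omega), if_pos (by omega),
          Nat.choose_self, Nat.cast_one, one_smul, neg_smul, one_smul, neg_neg]
      · intro j hj hj8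
        rw [Finset.mem_range] at hj
        rw [← Finset.smul_sum, ← Finset.sum_smul, Cfsg.Agent.R2.H28.SL2.psum (tau ι m) (by omega), if_neg (by omega),
          zero_smul, smul_zero]
      · intro h9
        exact absurd (Finset.mem_range.2 (by norm_num)) h9
    rw [h8]
    exact hv.li.ne_zero (⟨8, by norm_num⟩ : Fin 9)

variable [IsAlgClosed k]

include hK in
theorem low_of_JHn {m : ℕ} (n : ℕ) : ∀ {V : Type v} [AddCommGroup V] [Module k V]
    {ρ : Representation k (SpecialLinearGroup (Fin 2) K) V} {s : Multiset ℕ}, JHn (Sy.{u, v, w} ι 11) n ρ s →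
    8 * 11 ^ m ∈ s → ∃ x, Wt (tau ι m) ρ (Fintype.card K - 1 - 8) x ∧ Dm (tau ι m) ρ 8 x ≠ 0 := by
  induction n with
  | zero =>
    intro V _ _ ρ s hs hm
    rw [hs.2] at hm
    exact absurd hm (Multiset.notMem_zero _)
  | succ n ih =>
    intro V _ _ ρ s hs hm
    obtain ⟨W, hW, b, t, hb, rfl, ht⟩ := hs
    rcases Multiset.mem_cons.1 hm with h1 | h1
    · subst h1
      obtain ⟨x, h2, h3⟩ := low_irr ι hK (m := m) (show IsV ι 11 (subRep ρ W hW) (8 * 11 ^ m) from hb)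
      refine ⟨x, fun c => congrArg Subtype.val (h2 c), fun h4 => h3 (Subtype.ext ?_)⟩
      rw [Submodule.coe_zero, ← h4, Dm_apply, Dm_apply, Submodule.coe_neg, Submodule.coe_sum]
      rfl
    · obtain ⟨y, h2, h3⟩ := ih ht h1
      obtain ⟨x, h4, h5⟩ := lift_low (tau ι m) ρ hW h2 h3
      exact ⟨x, h4, fun h6 => h5 (by rw [h6]; exact W.zero_mem)⟩

/-- the facts -/
structure Hyp (ρ : Representation k (SpecialLinearGroup (Fin 2) K) (I27 → k)) (a m : ℕ) : Prop where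
  hm : m < a
  S : ∃ R, S11 ι (p := 11) ρ m R
  two : 2 ≤ a → cf (Sy.{u, u, w} ι 11) ρ =
    (11 ^ m + 11 ^ ((m + 1) % a)) ::ₘ (4 * 11 ^ m) ::ₘ (8 * 11 ^ m) ::ₘ {8 * 11 ^ m}
  one : a = 1 → cf (Sy.{u, u, w} ι 11) ρ = 0 ::ₘ (2 * 11 ^ 0) ::ₘ (4 * 11 ^ 0) ::ₘ (8 * 11 ^ 0) ::ₘ {8 * 11 ^ 0}
  fix : ∀ x, (∀ g, ρ g x = x) → x = 0
  n0 : ¬ InSoc ι 11 ρ 0
  n2 : a = 1 → ¬ InSoc ι 11 ρ (2 * 11 ^ 0)
  nB : 2 ≤ a → ¬ InSoc ι 11 ρ (11 ^ m + 11 ^ ((m + 1) % a))

variable {ρ : Representation k (SpecialLinearGroup (Fin 2) K) (I27 → k)} {m : ℕ}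

theorem tau_zero : tau ι 0 = ι := by
  ext t
  rw [tau_apply, pow_zero, pow_one]

include hK in
theorem Hyp.no10 (H : Hyp ι ρ a m) (x : I27 → k) (hu : Uf ρ x) (hw : Wt (tau ι m) ρ 10 x) : x = 0 := by
  rcases Nat.lt_or_ge 1 a with h | h
  · exact no10_of_cf ι hK h H.hm (H.two h) x hu hw
  · have ha := a_pos hK
    have ha1 : a = 1 := by omega
    have hm0 : m = 0 := by have := H.hm; omega
    subst hm0
    rw [tau_zero] at hw
    by_contra hx
    have hQ := Q_ge hK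
    have hσ : IsV ι 11 (RB ι 11 hQ) 10 := ⟨hQ, LinearEquiv.refl k _, fun _ _ => rfl⟩
    obtain ⟨μ, hμ, hμu, -⟩ := hσ.hw
    obtain ⟨f, hf, hfm⟩ := lift10 ι hK hσ hμ hμu ρ hu hw (fun h => by omega) (fun i h1 h2 => by omega)
      (fun _ v hv => H.fix v hv)
    have h1 := (inSoc_of_hom ι 11 hσ f hf (by
      rintro rfl
      exact hx hfm.symm)).mem_cf
    rw [H.one ha1] at h1
    revert h1
    decide

theorem Hyp.hom2 (H : Hyp ι ρ a m) (ha : a = 1) (hb : 2 ≤ Fintype.card K - 1) (φ : Vb (tau ι m) 2 →ₗ[k] (I27 → k))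
    (hφ : ∀ g y, φ (RB (tau ι m) 11 hb g y) = ρ g (φ y)) : φ = 0 := by
  have hm0 : m = 0 := by have := H.hm; omega
  subst hm0
  have h1 : IsV (tau ι 0) 11 (RB (tau ι 0) 11 hb) 2 := ⟨hb, LinearEquiv.refl k _, fun _ _ => rfl⟩
  by_contra h0
  have h2 := inSoc_of_hom (tau ι 0) 11 h1 φ hφ h0
  rw [tau_zero] at h2
  exact H.n2 ha h2

theorem Hyp.cf8 (H : Hyp ι ρ a m) {L : Submodule k (I27 → k)} (hL : ∀ g, ∀ x ∈ L, ρ g x ∈ L)
    (hV : IsV ι 11 (subRep ρ L hL) (8 * 11 ^ m)) : 8 * 11 ^ m ∈ cf (Sy.{u, u, w} ι 11) (quotRep ρ L hL) := by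
  have h1 := cf_add (Sy.{u, u, w} ι 11) ρ L hL
  rw [cf_irr (Sy.{u, u, w} ι 11) (show (Sy.{u, u, w} ι 11).P (subRep ρ L hL) (8 * 11 ^ m) from hV)] at h1
  have h2 : ∃ s, cf (Sy.{u, u, w} ι 11) ρ = (8 * 11 ^ m) ::ₘ (8 * 11 ^ m) ::ₘ s := by
    rcases Nat.lt_or_ge 1 a with h | h
    · rw [H.two h]
      refine ⟨(11 ^ m + 11 ^ ((m + 1) % a)) ::ₘ {4 * 11 ^ m}, ?_⟩
      generalize 11 ^ m + 11 ^ ((m + 1) % a) = B
      generalize 4 * 11 ^ m = C
      generalize 8 * 11 ^ m = D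
      rw [Multiset.cons_swap C D, Multiset.cons_swap B D]
      congr 1
      rw [← Multiset.cons_zero D, Multiset.cons_swap C D, Multiset.cons_swap B D]
      rfl
    · have hm0 : m = 0 := by have := H.hm; omega
      have ha1 : a = 1 := by have := H.hm; omega
      subst hm0
      rw [H.one ha1]
      exact ⟨{0, 2, 4}, by decide⟩
  obtain ⟨s, hs⟩ := h2
  rw [hs, Multiset.singleton_add, Multiset.cons_inj_right] at h1
  rw [← h1]
  exact Multiset.mem_cons_self _ _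

theorem Hyp.sm (H : Hyp ι ρ a m) {Z : Submodule k (I27 → k)} (hZ : ∀ g, ∀ x ∈ Z, ρ g x ∈ Z) (hZ0 : Z ≠ ⊥) :
    5 ≤ finrank k Z := by
  obtain ⟨c, ⟨X, hX, hc⟩, hc2⟩ := exists_inSoc_sub ι 11 hZ hZ0
  have key : ∀ n, 4 ≤ n → n < 11 → c = n * 11 ^ m → 5 ≤ finrank k Z := by
    rintro n h4 h11 rfl
    obtain ⟨v, hv⟩ := hc.basS ι 11 h11
    have h1 := hv.li.fintype_card_le_finrank
    rw [Fintype.card_fin] at h1
    have h2 := Submodule.finrank_le X
    omega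
  have h1 := hc2.mem_cf
  rcases Nat.lt_or_ge 1 a with h | h
  · rw [H.two h] at h1
    simp only [Multiset.mem_cons, Multiset.mem_singleton, or_self] at h1
    rcases h1 with h1 | h1 | h1
    · rw [h1] at hc2
      exact absurd hc2 (H.nB h)
    · exact key 4 le_rfl (by norm_num) h1
    · exact key 8 (by norm_num) (by norm_num) h1
  · have hm0 : m = 0 := by have := H.hm; omega
    have ha1 : a = 1 := by have := H.hm; omega
    subst hm0
    rw [H.one ha1] at h1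
    simp only [Multiset.mem_cons, Multiset.mem_singleton, or_self] at h1
    rcases h1 with h1 | h1 | h1 | h1
    · rw [h1] at hc2
      exact absurd hc2 H.n0
    · rw [h1] at hc2
      exact absurd hc2 (H.n2 ha1)
    · exact key 4 le_rfl (by norm_num) h1
    · exact key 8 (by norm_num) (by norm_num) h1

include hK in
/-- **the structure** -/
theorem Hyp.exists_ms (H : Hyp ι ρ a m) :
    ∃ (F G : (I27 → k) →ₗ[k] (I27 → k)) (p r c : ℕ → (I27 → k)), Ms (tau ι m) ρ F G p r c := by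
  obtain ⟨R, S⟩ := H.S
  obtain ⟨L, hL, hV⟩ := S.soc8
  have Z : Zf (tau ι m) ρ a L := {
    wt := fun ha e v hv hw => wt_of_cf ι hK ha H.hm (H.two ha) e v hv hw
    no10 := fun v hu hw => H.no10 ι hK v hu hw
    hom2 := fun ha hb φ hφ => H.hom2 ι ha hb φ hφ
    top8 := fun C y hu hw ht => top8_of ι hK H.hm hL hV (fun X hX hXV => S.uniq X L hX hL hXV hV) C y hu hw ht }
  obtain ⟨n, hn⟩ := cf_spec (Sy.{u, u, w} ι 11) (quotRep ρ L hL)
  obtain ⟨y, h1, h2⟩ := low_of_JHn ι hK n hn (H.cf8 ι hL hV)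
  obtain ⟨v, h3, h4⟩ := lift_low (tau ι m) ρ hL h1 h2
  obtain ⟨z, hz, hz1, hz2⟩ := exists_zz (tau ι m) hK Z h3 h4
  obtain ⟨C, Y, hC, hY, -, hC4, -⟩ := S.compl
  obtain ⟨q, hq, -⟩ := exists_chn ι 11 hC (by norm_num) hC4
  have hq' : C4 (tau ι m) ρ q := {
    zero := hq.zero
    ne := hq.ne 4 le_rfl
    u := by
      intro s hs t
      rw [hq.u s hs, tau_apply]
    h := by
      intro s hs c
      rw [hq.h s hs, tau_apply]
    w := hq.w }
  have hf : finrank k (I27 → k) = 27 := by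
    rw [Module.finrank_fintype_fun_eq_card]
    decide
  exact ms_of_zz hf hz hz1 hz2 hq' fun Z hZ hZ0 => H.sm ι hZ hZ0

end Cfsg.Agent.R2.H14.E11X
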