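import Cfsg.Agent.R2.H14.E11.ZMs
import Cfsg.Agent.R2.H28.SL2.E11

/-!
# S5749, S5750, box E11: the facts on the module `V` (helper14)

* `tau ι m` : the embedding `t ↦ ι t ^ 11 ^ m`;
* `wt_of_cf` : the weights (`a ≥ 2`);
* `no10_of_cf` : no highest weight vectors of weight 10 (`a ≥ 2`);
* `top8_of` : the highest weight vectors of weight 8.
-/

set_option autoImplicit false
set_option linter.unusedSectionVars false

namespace Cfsg.Agent.R2.H14.E11X

open Module Matrix Cfsg.Agent.H943.SL2Rel Cfsg.Agent.H943.SL2Mod Cfsg.Agent.H943.RepAdd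
open Cfsg.Agent.R2.H28.SL2
open Cfsg.Agent.R2.H14.E11 (Wt Uf Zf ZZ Ms C4 Q_one Q_two a_pos exists_zz ms_of_zz lift10)

universe u v w

section num

theorem cop {a : ℕ} (ha : 1 ≤ a) (m : ℕ) : Nat.gcd (11 ^ a - 1) (11 ^ m) = 1 := by
  apply Nat.Coprime.pow_right
  rw [Nat.coprime_comm, Nat.Prime.coprime_iff_not_dvd (by norm_num)]
  intro h
  have h1 : 11 ∣ 11 ^ a := dvd_pow_self 11 (by omega)
  have h2 : 0 < 11 ^ a := by positivity
  have h3 := Nat.dvd_sub h1 h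
  rw [show 11 ^ a - (11 ^ a - 1) = 1 by omega] at h3
  omega

theorem cancel {a : ℕ} (ha : 1 ≤ a) {m x y : ℕ} (h : x * 11 ^ m ≡ y * 11 ^ m [MOD 11 ^ a - 1]) :
    x ≡ y [MOD 11 ^ a - 1] := Nat.ModEq.cancel_right_of_coprime (cop ha m) h

theorem pow_mod_succ {a m : ℕ} (hm : m < a) : 11 ^ ((m + 1) % a) ≡ 11 * 11 ^ m [MOD 11 ^ a - 1] := by
  rcases Nat.lt_or_ge (m + 1) a with h | h
  · rw [Nat.mod_eq_of_lt h, pow_succ, mul_comm]
  · have h1 : m + 1 = a := by omega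
    rw [h1, Nat.mod_self, pow_zero, mul_comm, ← pow_succ, h1]
    have h2 : 0 < 11 ^ a := by positivity
    refine (Nat.modEq_iff_dvd' (by omega)).2 (dvd_refl _)

end num

variable {k : Type u} [Field k] [DecidableEq k] [CharP k 11] [Fact (Nat.Prime 11)]

theorem mem_Bf_pr (i : ℕ) : ∀ {j μ : ℕ}, i < j → μ ∈ Bf k (11 ^ i + 11 ^ j) →
    ∃ s ≤ 1, ∃ s' ≤ 1, μ = s * 11 ^ i + s' * 11 ^ j := by
  induction i with
  | zero =>
    intro j μ hij h
    obtain ⟨j', rfl⟩ : ∃ j', j = j' + 1 := ⟨j - 1, by omega⟩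
    have h1 : 11 ^ 0 + 11 ^ (j' + 1) = 11 * 11 ^ j' + 1 := by rw [pow_succ]; ring
    rw [h1, ← Nat.div_add_mod μ 11, mem_Bf_mul k 11 (by norm_num) (Nat.mod_lt _ (by norm_num))] at h
    obtain ⟨h2, h3⟩ := h
    rw [← one_mul (11 ^ j'), mem_Bf_single 11 (by norm_num)] at h3
    obtain ⟨s', hs', h4⟩ := h3
    refine ⟨μ % 11, h2, s', hs', ?_⟩
    conv_lhs => rw [← Nat.div_add_mod μ 11, h4]
    rw [pow_succ]
    ring
  | succ i ih =>
    intro j μ hij h
    obtain ⟨j', rfl⟩ : ∃ j', j = j' + 1 := ⟨j - 1, by omega⟩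
    have h1 : 11 ^ (i + 1) + 11 ^ (j' + 1) = 11 * (11 ^ i + 11 ^ j') + 0 := by rw [pow_succ, pow_succ]; ring
    rw [h1, ← Nat.div_add_mod μ 11, mem_Bf_mul k 11 (by norm_num) (Nat.mod_lt _ (by norm_num))] at h
    obtain ⟨h2, h3⟩ := h
    obtain ⟨s, hs, s', hs', h4⟩ := ih (by omega) h3
    refine ⟨s, hs, s', hs', ?_⟩
    conv_lhs => rw [← Nat.div_add_mod μ 11, h4, Nat.le_zero.1 h2]
    rw [pow_succ, pow_succ]
    ring

theorem mem_Bf_pr' {i j μ : ℕ} (hij : i ≠ j) (h : μ ∈ Bf k (11 ^ i + 11 ^ j)) :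
    ∃ s ≤ 1, ∃ s' ≤ 1, μ = s * 11 ^ i + s' * 11 ^ j := by
  rcases Nat.lt_or_ge i j with h1 | h1
  · exact mem_Bf_pr i h1 h
  · rw [add_comm] at h
    obtain ⟨s, hs, s', hs', h2⟩ := mem_Bf_pr j (by omega) h
    exact ⟨s', hs', s, hs, by rw [h2, add_comm]⟩

variable {K : Type w} [Field K] [Fintype K] [DecidableEq K] [CharP K 11] (ι : K →+* k)

/-- the embedding `t ↦ ι t ^ 11 ^ m` -/
noncomputable def tau (m : ℕ) : K →+* k := ι.comp (iterateFrobenius K 11 m)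

theorem tau_apply (m : ℕ) (t : K) : tau ι m t = ι t ^ 11 ^ m := by
  show ι (iterateFrobenius K 11 m t) = _
  rw [iterateFrobenius_def, map_pow]

variable {a : ℕ} (hK : Fintype.card K = 11 ^ a)
variable {V : Type v} [AddCommGroup V] [Module k V] {ρ : Representation k (SpecialLinearGroup (Fin 2) K) V}

theorem wt_iff {m e : ℕ} {x : V} : Wt (tau ι m) ρ e x ↔ ∀ c : Kˣ, ρ (h c) x = ι c ^ (e * 11 ^ m) • x := by
  unfold Wt
  simp only [tau_apply, ← pow_mul, mul_comm (11 ^ m) e]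

variable [IsAlgClosed k] [FiniteDimensional k V]

include hK

/-- **the weights** -/
theorem wt_of_cf (ha : 2 ≤ a) {m : ℕ} (hm : m < a)
    (hcf : cf (Sy.{u, v, w} ι 11) ρ = (11 ^ m + 11 ^ ((m + 1) % a)) ::ₘ (4 * 11 ^ m) ::ₘ (8 * 11 ^ m) ::ₘ {8 * 11 ^ m})
    (e : ℕ) (x : V) (hx : x ≠ 0) (hw : Wt (tau ι m) ρ e x) :
    ∃ j ≤ 12, (e + 12) % (Fintype.card K - 1) = (2 * j) % (Fintype.card K - 1) := by
  obtain ⟨b, hb, μ, hμ, hd, he⟩ := wt_cf ι 11 hK hx ((wt_iff ι).1 hw)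
  have hB : μ ∈ Bf k b := by
    rw [mem_Bf]
    exact ⟨hμ, fun h0 => hd ((CharP.cast_eq_zero_iff k 11 _).1 h0)⟩
  rw [hcf] at hb
  rw [hK] at he ⊢
  have hne : m ≠ (m + 1) % a := by
    rcases Nat.lt_or_ge (m + 1) a with h | h
    · rw [Nat.mod_eq_of_lt h]
      omega
    · have h1 : m + 1 = a := by omega
      rw [h1, Nat.mod_self]
      omega
  simp only [Multiset.mem_cons, Multiset.mem_singleton, or_self] at hb
  rcases hb with rfl | rfl | rfl
  · obtain ⟨s, hs, s', hs', rfl⟩ := mem_Bf_pr' hne hB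
    have h1 : 2 * (s + 11 * s') * 11 ^ m ≡ (12 + e) * 11 ^ m [MOD 11 ^ a - 1] := by
      have h2 := pow_mod_succ hm
      calc 2 * (s + 11 * s') * 11 ^ m = 2 * (s * 11 ^ m + s' * (11 * 11 ^ m)) := by ring
        _ ≡ 2 * (s * 11 ^ m + s' * 11 ^ ((m + 1) % a)) [MOD 11 ^ a - 1] :=
          Nat.ModEq.mul_left _ (Nat.ModEq.add_left _ (Nat.ModEq.mul_left _ h2.symm))
        _ ≡ 11 ^ m + 11 ^ ((m + 1) % a) + e * 11 ^ m [MOD 11 ^ a - 1] := he
        _ ≡ 11 ^ m + 11 * 11 ^ m + e * 11 ^ m [MOD 11 ^ a - 1] := Nat.ModEq.add_right _ (Nat.ModEq.add_left _ h2)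
        _ = (12 + e) * 11 ^ m := by ring
    refine ⟨s + 11 * s', by omega, ?_⟩
    rw [add_comm e 12]
    exact (cancel (by omega) h1).symm
  · obtain ⟨s, hs, rfl⟩ := (mem_Bf_single 11 (by norm_num) m).1 hB
    have h1 : 2 * s * 11 ^ m ≡ (4 + e) * 11 ^ m [MOD 11 ^ a - 1] := by
      rw [mul_assoc, add_mul]
      exact he
    refine ⟨s + 4, by omega, ?_⟩
    have h2 := (Nat.ModEq.add_right 8 (cancel (by omega) h1)).symm
    rw [show 4 + e + 8 = e + 12 by ring, show 2 * s + 8 = 2 * (s + 4) by ring] at h2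
    exact h2
  · obtain ⟨s, hs, rfl⟩ := (mem_Bf_single 11 (by norm_num) m).1 hB
    have h1 : 2 * s * 11 ^ m ≡ (8 + e) * 11 ^ m [MOD 11 ^ a - 1] := by
      rw [mul_assoc, add_mul]
      exact he
    refine ⟨s + 2, by omega, ?_⟩
    have h2 := (Nat.ModEq.add_right 4 (cancel (by omega) h1)).symm
    rw [show 8 + e + 4 = e + 12 by ring, show 2 * s + 4 = 2 * (s + 2) by ring] at h2
    exact h2

/-- **no highest weight vectors of weight 10** -/
theorem no10_of_cf (ha : 2 ≤ a) {m : ℕ} (hm : m < a)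
    (hcf : cf (Sy.{u, v, w} ι 11) ρ = (11 ^ m + 11 ^ ((m + 1) % a)) ::ₘ (4 * 11 ^ m) ::ₘ (8 * 11 ^ m) ::ₘ {8 * 11 ^ m})
    (x : V) (hu : Uf ρ x) (hw : Wt (tau ι m) ρ 10 x) : x = 0 := by
  by_contra hx
  obtain ⟨b, hb, he⟩ := mem_cf_of_hw ι 11 hx hu ((wt_iff ι).1 hw)
  rw [hcf] at hb
  rw [hK] at he
  have hQ := Q_two hK ha
  rw [hK] at hQ
  have key : ∀ y : ℕ, y < 13 → y ≠ 10 → b ≡ y * 11 ^ m [MOD 11 ^ a - 1] → False := by
    intro y hy hy10 h1
    have h2 : y * 11 ^ m ≡ 10 * 11 ^ m [MOD 11 ^ a - 1] := h1.symm.trans he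
    have h3 := cancel (by omega) h2
    unfold Nat.ModEq at h3
    rw [Nat.mod_eq_of_lt (by omega), Nat.mod_eq_of_lt (by omega)] at h3
    exact hy10 h3
  simp only [Multiset.mem_cons, Multiset.mem_singleton, or_self] at hb
  rcases hb with rfl | rfl | rfl
  · refine key 12 (by norm_num) (by norm_num) ?_
    calc 11 ^ m + 11 ^ ((m + 1) % a) ≡ 11 ^ m + 11 * 11 ^ m [MOD 11 ^ a - 1] := Nat.ModEq.add_left _ (pow_mod_succ hm)
      _ = 12 * 11 ^ m := by ring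
  · exact key 4 (by norm_num) (by norm_num) rfl
  · exact key 8 (by norm_num) (by norm_num) rfl

/-- **the highest weight vectors of weight 8** -/
theorem top8_of {m : ℕ} (hm : m < a) {L : Submodule k V} (hL : ∀ g, ∀ x ∈ L, ρ g x ∈ L)
    (hV : IsV ι 11 (subRep ρ L hL) (8 * 11 ^ m))
    (uq : ∀ (X : Submodule k V) (hX : ∀ g, ∀ x ∈ X, ρ g x ∈ X), IsV ι 11 (subRep ρ X hX) (8 * 11 ^ m) → X = L)
    (C : V) (y : ℕ → V) (hu : Uf ρ C) (hw : Wt (tau ι m) ρ 8 C)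
    (ht : ∀ t, ρ (u t) (ρ Cfsg.Agent.H943.SL2Rel.w C) = ∑ j ∈ Finset.range 9, tau ι m t ^ j • y j) : C ∈ L := by
  rcases eq_or_ne C 0 with h0 | h0
  · rw [h0]
    exact L.zero_mem
  obtain ⟨Q, hQ⟩ : ∃ Q, Q = Fintype.card K - 1 := ⟨_, rfl⟩
  have hp0 : 0 < 11 ^ m := by positivity
  have h8 : 8 * 11 ^ m < Q := by
    have h1 : 11 ^ (m + 1) ≤ 11 ^ a := Nat.pow_le_pow_right (by norm_num) (by omega)
    rw [pow_succ] at h1
    rw [hQ, hK]
    omega
  obtain ⟨μ, hμ0, hμu, -⟩ := hV.hw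
  have hsum : ∀ n : ℕ, (∀ j ≤ 8, n ≠ 11 ^ m * j) → n ≤ Q → Dm ι ρ n (ρ Cfsg.Agent.H943.SL2Rel.w C) = 0 := by
    intro n hn hnQ
    rw [Dm_apply, neg_eq_zero]
    have h1 : ∀ t : K, ι t ^ (Fintype.card K - 1 - n) • ρ (u t) (ρ Cfsg.Agent.H943.SL2Rel.w C) =
        ∑ j ∈ Finset.range 9, (ι t ^ (Q - n + 11 ^ m * j)) • y j := by
      intro t
      rw [ht, Finset.smul_sum]
      refine Finset.sum_congr rfl fun j _ => ?_
      rw [smul_smul, tau_apply, ← pow_mul, ← pow_add, hQ]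
    rw [Finset.sum_congr rfl fun t _ => h1 t, Finset.sum_comm]
    refine Finset.sum_eq_zero fun j hj => ?_
    rw [Finset.mem_range] at hj
    have h2 : 11 ^ m * j ≤ 11 ^ m * 8 := Nat.mul_le_mul_left _ (by omega)
    rw [← Finset.sum_smul, Cfsg.Agent.R2.H28.SL2.psum ι (by omega), if_neg (by have := hn j (by omega); omega), zero_smul]
  obtain ⟨f, hf, hfm⟩ := gen_hw ι 11 ρ hK hV hμ0 hμu hu ((wt_iff ι).1 hw) (by
    unfold cb
    rw [if_pos (by omega), zero_smul, SS_apply]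
    have h1 : ∀ t : K, ρ (u t) (ρ Cfsg.Agent.H943.SL2Rel.w C) = ∑ j ∈ Finset.range 9, (ι t ^ (11 ^ m * j)) • y j := by
      intro t
      rw [ht]
      refine Finset.sum_congr rfl fun j _ => ?_
      rw [tau_apply, ← pow_mul]
    rw [Finset.sum_congr rfl fun t _ => h1 t, Finset.sum_comm]
    refine Finset.sum_eq_zero fun j hj => ?_
    rw [Finset.mem_range] at hj
    have h2 : 11 ^ m * j ≤ 11 ^ m * 8 := Nat.mul_le_mul_left _ (by omega)
    rw [← Finset.sum_smul, Cfsg.Agent.R2.H28.SL2.psum ι (by omega), if_neg (by omega), zero_smul]) (by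
    intro i hia _
    have hi : 11 ^ (i + 1) ≤ 11 ^ a := Nat.pow_le_pow_right (by norm_num) (by omega)
    rw [pow_succ] at hi
    have hi0 : 0 < 11 ^ i := by positivity
    rcases lt_trichotomy i m with h1 | h1 | h1
    · obtain ⟨r, rfl⟩ : ∃ r, m = i + (r + 1) := ⟨m - i - 1, by omega⟩
      have h2 : en 11 (8 * 11 ^ (i + (r + 1))) i = 11 ^ i := by
        unfold en
        rw [pow_add, mul_left_comm, Nat.mul_div_cancel_left _ hi0, pow_succ, ← mul_assoc, Nat.mul_mod_left, zero_add, one_mul]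
      rw [h2]
      refine hsum _ (fun j hj => ?_) (by omega)
      intro h3
      rcases Nat.eq_zero_or_pos j with h4 | h4
      · rw [h4, mul_zero] at h3
        omega
      · have h5 : 11 ^ (i + (r + 1)) ≤ 11 ^ (i + (r + 1)) * j := Nat.le_mul_of_pos_right _ h4
        have h6 : 11 ^ i < 11 ^ (i + (r + 1)) := Nat.pow_lt_pow_right (by norm_num) (by omega)
        omega
    · subst h1
      have h2 : en 11 (8 * 11 ^ i) i = 9 * 11 ^ i := by
        unfold en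
        rw [Nat.mul_div_cancel _ hi0]
      rw [h2]
      refine hsum _ (fun j hj => ?_) (by omega)
      intro h3
      have h4 : 11 ^ i * j ≤ 11 ^ i * 8 := Nat.mul_le_mul_left _ hj
      omega
    · have h2 : en 11 (8 * 11 ^ m) i = 11 ^ i := by
        unfold en
        have h3 : 8 * 11 ^ m < 11 ^ i := by
          have h4 : 11 ^ (m + 1) ≤ 11 ^ i := Nat.pow_le_pow_right (by norm_num) (by omega)
          rw [pow_succ] at h4
          omega
        rw [Nat.div_eq_of_lt h3, Nat.zero_mod, zero_add, one_mul]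
      rw [h2]
      refine hsum _ (fun j hj => ?_) (by omega)
      intro h3
      have h4 : 11 ^ m * j ≤ 11 ^ m * 8 := Nat.mul_le_mul_left _ hj
      have h5 : 11 ^ (m + 1) ≤ 11 ^ i := Nat.pow_le_pow_right (by norm_num) (by omega)
      rw [pow_succ] at h5
      omega)
  have hf0 : f ≠ 0 := by
    rintro rfl
    exact h0 hfm.symm
  have hker : LinearMap.ker f = ⊥ := by
    rcases hV.irr.2 (LinearMap.ker f) (fun g x hx => by
      rw [LinearMap.mem_ker] at hx ⊢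
      rw [hf, hx, map_zero]) with h | h
    · exact h
    · exact absurd (LinearMap.ker_eq_top.1 h) hf0
  have hinj := LinearMap.ker_eq_bot.1 hker
  have hX : ∀ g, ∀ x ∈ LinearMap.range f, ρ g x ∈ LinearMap.range f := by
    rintro g _ ⟨z, rfl⟩
    exact ⟨_, hf g z⟩
  have h2 := uq (LinearMap.range f) hX (IsV.iso ι 11 (LinearEquiv.ofInjective f hinj) (fun g x => Subtype.ext (hf g x)) hV)
  rw [← h2]
  exact ⟨_, hfm⟩

end Cfsg.Agent.R2.H14.E11X
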