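import Cfsg.Agent.R2.H14.E11.Rt

/-!
# S5749, S5750, box E11: the final contradiction (helper14)

`false_of_Ms` : the configuration is impossible if `V_k` and `V'_k` have the structure `T(12) ⊕ L(4)`.
-/

set_option autoImplicit false
set_option linter.unusedSectionVars false

namespace Cfsg.Agent.R2.H14.E11

open Cfsg Cfsg.Lie Module Matrix
open Cfsg.Agent.H943.SL2Rel Cfsg.Agent.H943.SL2Mod Cfsg.Agent.H943.RepAdd
open Cfsg.Agent.ChevalleyStructure Cfsg.Agent.ChevalleyStructure.E6Form.Cubic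
  Cfsg.Agent.ChevalleyStructure.E6Form.Table
open Cfsg.Agent.ChevalleyStructure.E6Min.Basic (Zgrp)
open Cfsg.Agent.H952.F4 (sh cr tf)
open Cfsg.Agent.H952.F4.Jord
open Cfsg.Agent.H163.E6 (V V')
open Cfsg.Agent.H163.E6.Act
open Cfsg.Agent.H65.E6Emb
open Cfsg.Agent.R2.GEO (crB crB_apply tfB tfB_apply)
open Cfsg.Agent.R2.H9.E6 Cfsg.Agent.R2.H9.E6.Kb
open Cfsg.Agent.R2.H9.E6.Gr (Cmp al exists_conj inv_stab V_mul_inv V'_inv_mul)

universe u v w

variable {k : Type u} [Field k] [IsAlgClosed k] [CharP k 11]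
variable {K : Type w} [Field K] [Fintype K] [DecidableEq K] [CharP K 11]
variable {F : Type v} [Field F] [Fintype F] {f0 : F →+* k}
variable {a b : ℕ} {Γ M : Subgroup ↥(Zgrp F)} {ψ : ProjectiveSpecialLinearGroup (Fin 2) K →* ↥(Zgrp F)}
variable {ι : K →+* k} {Fo Go Fo' Go' : (I27 → k) →ₗ[k] (I27 → k)} {p r c p' r' c' : ℕ → I27 → k}
variable {a₁ b₁ c₁ d₁ e₁ a₂ b₂ c₂ d₂ e₂ : k} {y y' : I27 → k}

/-- the action of `M` -/
theorem m_fac (f0 : F →+* k) (hC : Cfg 11 a b Γ M ψ) {m : ↥(Zgrp F)} (hm : m ∈ M) :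
    ∃ (s₁ : SpecialLinearGroup (Fin 2) K) (α : SpecialLinearGroup (Fin 2) K ≃* SpecialLinearGroup (Fin 2) K) (m₁ : ↥(Zgrp k)),
      Au α ∧ (∀ s v, V k m₁ (rv f0 ψ s v) = rv f0 ψ (α s) (V k m₁ v)) ∧
      (∀ s v, V' k m₁ (rv' f0 ψ s v) = rv' f0 ψ (α s) (V' k m₁ v)) ∧
      (∀ v, V k (emb f0 m) v = V k m₁ (rv f0 ψ s₁ v)) ∧ ∀ v, V' k (emb f0 m) v = V' k m₁ (rv' f0 ψ s₁ v) := by
  obtain ⟨s₁, c, σ, h1⟩ := exists_conj hC.set hm
  obtain ⟨m₁, hm₁⟩ : ∃ m₁, m₁ = m * (ψ (pq s₁))⁻¹ := ⟨_, rfl⟩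
  rw [← hm₁] at h1
  have h2 : ∀ s, emb f0 m₁ * ((emb f0).comp (ψ.comp pq)) s = ((emb f0).comp (ψ.comp pq)) (al c σ s) * emb f0 m₁ := by
    intro s
    rw [MonoidHom.comp_apply, MonoidHom.comp_apply, MonoidHom.comp_apply, MonoidHom.comp_apply, h1, ← map_mul, ← map_mul,
      inv_mul_cancel_right]
  have h4 : emb f0 m = emb f0 m₁ * ((emb f0).comp (ψ.comp pq)) s₁ := by
    rw [hm₁, MonoidHom.comp_apply, MonoidHom.comp_apply, ← map_mul, inv_mul_cancel_right]
  refine ⟨s₁, alE c σ, emb f0 m₁, au_alE c σ, fun s x => ?_, fun s x => ?_, fun v => ?_, fun v => ?_⟩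
  · rw [alE_apply]
    show V k (emb f0 m₁) (V k (((emb f0).comp (ψ.comp pq)) s) x) =
      V k (((emb f0).comp (ψ.comp pq)) (al c σ s)) (V k (emb f0 m₁) x)
    rw [← Module.End.mul_apply, ← map_mul, h2, map_mul, Module.End.mul_apply]
  · rw [alE_apply]
    show V' k (emb f0 m₁) (V' k (((emb f0).comp (ψ.comp pq)) s) x) =
      V' k (((emb f0).comp (ψ.comp pq)) (al c σ s)) (V' k (emb f0 m₁) x)
    rw [← Module.End.mul_apply, ← map_mul, h2, map_mul, Module.End.mul_apply]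
  · rw [h4, map_mul, Module.End.mul_apply]
    rfl
  · rw [h4, map_mul, Module.End.mul_apply]
    rfl

theorem V_injective (g : ↥(Zgrp k)) : Function.Injective (V k g) := by
  intro x z hxz
  rw [← V_inv_apply g x, hxz, V_inv_apply]

theorem V_eq_zero (g : ↥(Zgrp k)) (x : I27 → k) (h : V k g x = 0) : x = 0 := by
  rw [← V_inv_apply g x, h, map_zero]

/-- **`M` preserves the three submodules** -/
theorem m_stab (hC : Cfg 11 a b Γ M ψ) (hM : Ms ι (rv f0 ψ) Fo Go p r c) {Z : Submodule k (I27 → k)}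
    (hZ : Z = spC hM.bs ∨ Z = spY hM.bs ∨ Z = spL hM.bs) {m : ↥(Zgrp F)} (hm : m ∈ M) :
    ∀ v ∈ Z, V k (emb f0 m) v ∈ Z := by
  obtain ⟨s₁, α, m₁, -, h1, -, h2, -⟩ := m_fac f0 hC hm
  obtain ⟨h3, h4⟩ := hM.inv3 hZ (V_injective m₁) h1
  intro v hv
  rw [h2]
  exact h4 _ (h3 _ _ hv)

theorem ne_bot_top {V : Type*} [AddCommGroup V] [Module k V] {N H W : V →ₗ[k] V} {p r c : ℕ → V} (h : Bs N H W p r c)
    {Z : Submodule k V} (hZ : Z = spC h ∨ Z = spY h ∨ Z = spL h) : Z ≠ ⊥ ∧ Z ≠ ⊤ := by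
  have hfin := finite_bs h
  constructor
  · rintro rfl
    rcases hZ with h1 | h1 | h1
    · have := finrank_spC h
      rw [← h1, finrank_bot] at this
      norm_num at this
    · have := finrank_spY h
      rw [← h1, finrank_bot] at this
      norm_num at this
    · have := finrank_spL h
      rw [← h1, finrank_bot] at this
      norm_num at this
  · rintro rfl
    rcases hZ with h1 | h1 | h1
    · have := finrank_spC h
      rw [← h1, finrank_top, h.finrank] at this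
      norm_num at this
    · have := finrank_spY h
      rw [← h1, finrank_top, h.finrank] at this
      norm_num at this
    · have := finrank_spL h
      rw [← h1, finrank_top, h.finrank] at this
      norm_num at this

/-- the rational element and its properties -/
structure Zd (hC : Cfg 11 a b Γ M ψ) (X : Cx ι (rv f0 ψ) (rv' f0 ψ) Fo Go p r c a₁ b₁ c₁ d₁ e₁ y) (z0 : ↥(Zgrp F))
    (lam : k) : Prop where
  mem : z0 ∈ Γ
  ne : lam ≠ 0
  hz : ∀ v, V k (emb f0 z0) v = v + lam • Dop (p 10) y v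
  hz' : ∀ v, V' k (emb f0 z0) v = v - lam • Dop y (p 10) v

section zd

variable {hC : Cfg 11 a b Γ M ψ} {X : Cx ι (rv f0 ψ) (rv' f0 ψ) Fo Go p r c a₁ b₁ c₁ d₁ e₁ y} {z0 : ↥(Zgrp F)} {lam : k}

theorem Zd.notMem (Z : Zd hC X z0 lam) : z0 ∉ M := by
  intro hzM
  have h := X.hM.bs
  obtain ⟨W, hWdef⟩ : ∃ W, W = spC h := ⟨_, rfl⟩
  have hc : ∀ n, c n ∈ W := fun n => by rw [hWdef]; exact c_mem_spC h n
  have hWA : ∀ n, W ≤ LinearMap.ker (h.A n) := by
    intro n
    rw [hWdef, spC, Submodule.span_le]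
    rintro _ ⟨i, rfl⟩
    exact h.A_c _ _
  -- `x` kills `W`
  obtain ⟨p1, p2, p5, q1, q2, q3, q4, s, -, -, hxc, -⟩ := X.expl
  have hx0 : Dop (p 10) y (c 0) = 0 := by
    have h1 := m_stab hC X.hM (Or.inl rfl) hzM (c 0) (c_mem_spC h 0)
    rw [Z.hz] at h1
    have h2 : lam • Dop (p 10) y (c 0) ∈ W := by
      rw [hWdef]
      have := Submodule.sub_mem _ h1 (c_mem_spC h 0)
      rwa [add_sub_cancel_left] at this
    have h3 : Dop (p 10) y (c 0) ∈ W := (Submodule.smul_mem_iff _ Z.ne).1 h2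
    have h4 : h.A 9 (Dop (p 10) y (c 0)) = 0 := hWA 9 h3
    rw [hxc, map_smul, h.A_p, if_pos ⟨rfl, by norm_num⟩, smul_eq_mul, mul_one] at h4
    rw [hxc, h4, zero_smul]
  have hker : ∀ v ∈ W, Dop (p 10) y v = 0 := by
    have h1 : W ≤ LinearMap.ker (Dop (p 10) y) := by
      rw [hWdef, spC, Submodule.span_le]
      rintro _ ⟨i, rfl⟩
      show Dop (p 10) y (c i) = 0
      rw [X.xcn, hx0, map_zero]
    exact h1
  have hfix : ∀ v ∈ W, V k (emb f0 z0) v = v := by
    intro v hv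
    rw [Z.hz, hker v hv, smul_zero, add_zero]
  have hfix' : ∀ v ∈ W, V k (emb f0 z0⁻¹) v = v := by
    intro v hv
    have h1 := V_inv_apply (emb f0 z0) v
    rw [hfix v hv, ← map_inv] at h1
    exact h1
  have hWs : ∀ r : ProjectiveSpecialLinearGroup (Fin 2) K, ∀ v ∈ W, V k (emb f0 (ψ r)) v ∈ W := by
    intro r v hv
    obtain ⟨s, rfl⟩ := pq_surjective r
    rw [hWdef] at hv ⊢
    exact X.hM.ss_spC s v hv
  let N : Subgroup (ProjectiveSpecialLinearGroup (Fin 2) K) :=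
    { carrier := {r | ∀ v ∈ W, V k (emb f0 (ψ r)) v = v}
      mul_mem' := by
        intro r r' hr hr' v hv
        rw [map_mul, map_mul, map_mul, Module.End.mul_apply, hr' v hv, hr v hv]
      one_mem' := by
        intro v _
        rw [map_one, map_one, map_one, Module.End.one_apply]
      inv_mem' := by
        intro r hr v hv
        have h1 := V_inv_apply (emb f0 (ψ r)) v
        rw [hr v hv, ← map_inv, ← map_inv] at h1
        exact h1 }
  have hN : N.Normal := ⟨fun n hn g v hv => by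
    rw [map_mul, map_mul, map_mul, map_mul, map_mul, map_mul, Module.End.mul_apply, Module.End.mul_apply,
      hn _ (hWs g⁻¹ v hv), ← Module.End.mul_apply, ← map_mul, ← map_mul, ← map_mul, mul_inv_cancel, map_one, map_one,
      map_one, Module.End.one_apply]⟩
  have h7 := hC.seven
  have hsim := psl_simple (K := K) (by omega)
  have hNbot : N = ⊥ := by
    rcases hN.eq_bot_or_eq_top with h1 | h1
    · exact h1
    exfalso
    have h2 : ∀ n : ℕ, rv f0 ψ (u (n : K)) (c 0) = c 0 := by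
      intro n
      have h3 : pq (u (n : K)) ∈ N := by rw [h1]; trivial
      exact h3 (c 0) (hc 0)
    have h3 := Nr_fix h2
    rw [h.Nc] at h3
    have h4 := h.C_c 1 1
    rw [h3, map_zero] at h4
    simp at h4
  obtain ⟨ac, hac, hac1, -⟩ := hC.set.act
  have h1 : ac ⟨z0, hzM⟩ = 1 := by
    refine MulEquiv.ext fun t => ?_
    have h2 : t⁻¹ * ac ⟨z0, hzM⟩ t ∈ N := by
      intro v hv
      have h3 : emb f0 (ψ (t⁻¹ * ac ⟨z0, hzM⟩ t)) = emb f0 (ψ t⁻¹) * (emb f0 z0 * (emb f0 (ψ t) * emb f0 z0⁻¹)) := by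
        rw [map_mul, hac, ← map_mul, ← map_mul, ← map_mul, mul_assoc z0]
      rw [h3, map_mul, map_mul, map_mul, Module.End.mul_apply, Module.End.mul_apply, Module.End.mul_apply, hfix' v hv,
        hfix _ (hWs t v hv), ← Module.End.mul_apply, ← map_mul, ← map_mul, ← map_mul, inv_mul_cancel, map_one, map_one,
        map_one, Module.End.one_apply]
    rw [hNbot, Subgroup.mem_bot, inv_mul_eq_one] at h2
    exact h2.symm
  have h2 := (hac1 ⟨z0, hzM⟩).1 h1
  have h3 : ∀ g : ↥(Zgrp F), g * z0 = z0 * g := fun g => Cfsg.Agent.H163.E6.Cov.ker_comm h2 g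
  have h4 : LinearMap.ker (Dop (p 10) y) = ⊥ ∨ LinearMap.ker (Dop (p 10) y) = ⊤ := by
    refine (hC.lie f0).irr fun g _ v hv => ?_
    rw [LinearMap.mem_ker] at hv ⊢
    have h5 : V k (emb f0 z0) (V k (emb f0 g) v) = V k (emb f0 g) v := by
      rw [← Module.End.mul_apply, ← map_mul, ← map_mul, ← h3, map_mul, map_mul, Module.End.mul_apply, Z.hz, hv, smul_zero,
        add_zero]
    rw [Z.hz, add_eq_left, smul_eq_zero] at h5
    exact h5.resolve_left Z.ne
  apply X.x_ne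
  rcases h4 with h4 | h4
  · have h5 : ∀ v, Dop (p 10) y v ∈ LinearMap.ker (Dop (p 10) y) := fun v => X.xx v
    have h6 := h5 (c₁ • p 3 - b₁ • r 5)
    rwa [h4, Submodule.mem_bot] at h6
  · have h5 : c₁ • p 3 - b₁ • r 5 ∈ LinearMap.ker (Dop (p 10) y) := by rw [h4]; trivial
    exact h5

theorem Zd.notStab (Z : Zd hC X z0 lam) {W : Submodule k (I27 → k)}
    (hW : W = spC X.hM.bs ∨ W = spY X.hM.bs ∨ W = spL X.hM.bs) : ¬ ∀ v ∈ W, Dop (p 10) y v ∈ W := by
  intro h1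
  let Y : Subgroup ↥(Zgrp F) :=
    { carrier := {g | ∀ v ∈ W, V k (emb f0 g) v ∈ W}
      mul_mem' := by
        intro g g' hg hg' v hv
        rw [map_mul, map_mul, Module.End.mul_apply]
        exact hg _ (hg' _ hv)
      one_mem' := by
        intro v hv
        rw [map_one, map_one, Module.End.one_apply]
        exact hv
      inv_mem' := by
        intro g hg v hv
        rw [map_inv]
        exact inv_stab hg v hv }
  have h2 : Γ ≤ Y := hC.set.gen (X := Y) (fun m hm => m_stab hC X.hM hW hm) Z.mem Z.notMem (by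
    intro v hv
    rw [Z.hz]
    exact Submodule.add_mem _ hv (Submodule.smul_mem _ _ (h1 v hv)))
  obtain ⟨h3, h4⟩ := ne_bot_top X.hM.bs hW
  rcases (hC.lie f0).irr (W := W) (fun g hg v hv => h2 hg v hv) with h5 | h5
  · exact h3 h5
  · exact h4 h5

/-- **the shape of `x`** -/
theorem Zd.shape (Z : Zd hC X z0 lam) : ∃ p1 p2 q1 q2 q3 s : k, Xf (Dop (p 10) y) p r c p1 p2 q1 q2 q3 s ∧ q1 ≠ 0 ∧
    q3 ≠ 0 := by
  have h := X.hM.bs
  obtain ⟨p1, p2, p5, q1, q2, q3, q4, s, hP, hR, hCc, h5⟩ := X.expl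
  have hq4 := X.q4 hR
  -- `s ≠ 0`
  have hs : s ≠ 0 := by
    rintro rfl
    refine Z.notStab (Or.inl rfl) ?_
    have h1 : spC h ≤ LinearMap.ker (Dop (p 10) y) := by
      rw [spC, Submodule.span_le]
      rintro _ ⟨i, rfl⟩
      show Dop (p 10) y (c i) = 0
      rw [X.xcn, hCc, zero_smul, map_zero]
    intro v hv
    rw [LinearMap.mem_ker.1 (h1 hv)]
    exact Submodule.zero_mem _
  have hp5 : p5 = 0 := (mul_eq_zero.1 h5).resolve_right hs
  rw [hp5, zero_smul, add_zero] at hP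
  rw [hq4, zero_smul, add_zero] at hR
  have hx : Xf (Dop (p 10) y) p r c p1 p2 q1 q2 q3 s := by
    refine ⟨fun n => ?_, fun n => ?_, fun n => ?_⟩
    · rw [X.xpn, hP, map_add, map_smul, map_smul, pow_chain h.Np, pow_chain h.Nr, add_comm 7, add_comm 9]
    · rw [X.xrn, hR, map_add, map_add, map_smul, map_smul, map_smul, pow_chain h.Np, pow_chain h.Nr, pow_chain h.Nc,
        add_comm 5, add_comm 7, add_comm 3]
    · rw [X.xcn, hCc, map_smul, pow_chain h.Np, add_comm 9]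
  refine ⟨p1, p2, q1, q2, q3, s, hx, ?_, ?_⟩
  · -- `q1 ≠ 0`
    rintro rfl
    refine Z.notStab (Or.inr (Or.inr rfl)) (spL_ind h _ ?_ ?_ (fun n => ?_) fun n => ?_)
    · rw [hx.xp, h.p0 (by norm_num), h.r0 (by norm_num), smul_zero, smul_zero, add_zero]
      exact Submodule.zero_mem _
    · rw [hx.xp, h.p0 (by norm_num), h.r0 (by norm_num), smul_zero, smul_zero, add_zero]
      exact Submodule.zero_mem _
    · rw [hx.xr, zero_smul, zero_add]
      exact Submodule.add_mem _ (Submodule.smul_mem _ _ (r_mem_spL h _)) (Submodule.smul_mem _ _ (c_mem_spL h _))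
    · rw [hx.xc]
      exact Submodule.smul_mem _ _ (p_mem_spL h (by omega))
  · -- `q3 ≠ 0`
    rintro rfl
    refine Z.notStab (Or.inr (Or.inl rfl)) ?_
    have h1 : spY h ≤ (spY h).comap (Dop (p 10) y) := by
      conv_lhs => rw [spY]
      rw [Submodule.span_le]
      rintro _ ⟨i, rfl⟩
      rcases i with i | i
      · show Dop (p 10) y (p i) ∈ spY h
        rw [hx.xp]
        exact Submodule.add_mem _ (Submodule.smul_mem _ _ (p_mem_spY h _)) (Submodule.smul_mem _ _ (r_mem_spY h _))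
      · show Dop (p 10) y (r i) ∈ spY h
        rw [hx.xr, zero_smul, add_zero]
        exact Submodule.add_mem _ (Submodule.smul_mem _ _ (p_mem_spY h _)) (Submodule.smul_mem _ _ (r_mem_spY h _))
    exact h1

/-- **`M` preserves the form up to scalars** -/
theorem Zd.m_phi (_Z : Zd hC X z0 lam) {p1 p2 q1 q2 q3 s : k} (hx : Xf (Dop (p 10) y) p r c p1 p2 q1 q2 q3 s) (hq1 : q1 ≠ 0)
    (hq3 : q3 ≠ 0) {φ : (I27 → k) →ₗ[k] (I27 → k)} (h0 : φ ≠ 0) (h1 : ∀ g v, φ (rv f0 ψ g v) = rv' f0 ψ g (φ v))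
    (h2 : ∀ v w, tf (Dop (p 10) y v) (φ w) + tf v (φ (Dop (p 10) y w)) = 0) {m : ↥(Zgrp F)} (hm : m ∈ M) :
    ∃ μ : k, ∀ v, φ (V k (emb f0 m) v) = μ • V' k (emb f0 m) (φ v) := by
  obtain ⟨s₁, α, m₁, hα, e1, e2, e3, e4⟩ := m_fac f0 hC hm
  have hcmp : Cmp (RingHom.id k) (V k m₁) (V' k m₁) :=
    ⟨fun x y => cr_act m₁ x y, fun x y => cr_act' m₁ x y, fun x y => tf_act m₁ x y⟩
  obtain ⟨κ, hκ, h3⟩ := sem_x X X hα hcmp (V_eq_zero m₁) e1 e2
  obtain ⟨μ, hμ⟩ := X.form_uniq hx hq1 hq3 (B := (tfB k).compl₂ φ) (B' := ((tfB k).compl₂ φ).compl₁₂ (V k m₁) (V k m₁))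
    (by
      intro h4
      apply h0
      refine LinearMap.ext fun w => ?_
      refine tf_nondeg fun v => ?_
      have h5 := LinearMap.congr_fun (LinearMap.congr_fun h4 v) w
      rw [LinearMap.compl₂_apply] at h5
      rw [tf_comm]
      exact h5)
    (form_inv (pr_rv f0 ψ) h1)
    (fun g v w => by
      rw [LinearMap.compl₁₂_apply, LinearMap.compl₁₂_apply, e1, e1]
      exact form_inv (pr_rv f0 ψ) h1 _ _ _)
    (fun v w => by
      rw [LinearMap.compl₂_apply, LinearMap.compl₂_apply]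
      exact h2 v w)
    (fun v w => by
      rw [LinearMap.compl₁₂_apply, LinearMap.compl₁₂_apply, h3, h3, LinearMap.compl₂_apply, LinearMap.compl₂_apply,
        map_smul, map_smul, map_smul, LinearMap.smul_apply, tfB_apply, tfB_apply, ← smul_add, h2, smul_zero])
  have h4 : ∀ w, φ (V k m₁ w) = μ • V' k m₁ (φ w) := by
    intro w
    refine sub_eq_zero.1 (tf_nondeg fun v => ?_)
    have h5 := LinearMap.congr_fun (LinearMap.congr_fun hμ (V k m₁⁻¹ v)) w
    rw [LinearMap.compl₁₂_apply, LinearMap.smul_apply, LinearMap.smul_apply, LinearMap.compl₂_apply,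
      LinearMap.compl₂_apply, tfB_apply, tfB_apply, V_mul_inv, ← tf_act m₁ (V k m₁⁻¹ v), V_mul_inv, smul_eq_mul] at h5
    rw [tf_comm, sub_eq_add_neg, tf_add_right, h5, ← neg_smul, tf_smul_right]
    ring
  refine ⟨μ, fun v => ?_⟩
  rw [e3, e4, h4, h1]

end zd

/-- **box E11** -/
theorem false_of_Ms (hC : Cfg 11 a b Γ M ψ) (hM : Ms ι (rv f0 ψ) Fo Go p r c) (hM' : Ms ι (rv' f0 ψ) Fo' Go' p' r' c') :
    False := by
  have hfp : Fact (Nat.Prime 11) := ⟨by norm_num⟩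
  obtain ⟨a₁, b₁, c₁, d₁, e₁, y, X⟩ := hM.exists_cx (pr_rv f0 ψ)
  obtain ⟨a₂, b₂, c₂, d₂, e₂, y', X'⟩ := hM'.exists_cx (pr_rv f0 ψ).swap
  obtain ⟨z0, hz0, lam, hlam, hz, hz'⟩ := exists_z hC X X'
  have Z : Zd hC X z0 lam := ⟨hz0, hlam, hz, hz'⟩
  obtain ⟨p1, p2, q1, q2, q3, s, hx, hq1, hq3⟩ := Z.shape
  obtain ⟨φ, hphi0, h1, h2⟩ := X.exists_form hM' hx hq1 hq3
  let Y : Subgroup ↥(Zgrp F) :=
    { carrier := {g | ∃ c : k, ∀ v, φ (V k (emb f0 g) v) = c • V' k (emb f0 g) (φ v)}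
      mul_mem' := by
        rintro g g' ⟨c, hc⟩ ⟨c', hc'⟩
        refine ⟨c * c', fun v => ?_⟩
        rw [map_mul, map_mul, map_mul, Module.End.mul_apply, Module.End.mul_apply, hc, hc', map_smul, smul_smul]
      one_mem' := ⟨1, fun v => by rw [map_one, map_one, map_one, Module.End.one_apply, Module.End.one_apply, one_smul]⟩
      inv_mem' := by
        rintro g ⟨c, hc⟩
        have hc0 : c ≠ 0 := by
          rintro rfl
          apply hphi0
          refine LinearMap.ext fun v => ?_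
          have h1 := hc (V k (emb f0 g)⁻¹ v)
          rw [V_mul_inv, zero_smul] at h1
          rw [h1, LinearMap.zero_apply]
        refine ⟨c⁻¹, fun v => ?_⟩
        have h1 := hc (V k (emb f0 g)⁻¹ v)
        rw [V_mul_inv] at h1
        rw [map_inv, h1, map_smul, V'_inv_mul, smul_smul, inv_mul_cancel₀ hc0, one_smul] }
  have hskew : ∀ w, φ (Dop (p 10) y w) = -Dop y (p 10) (φ w) := by
    intro w
    refine eq_neg_of_add_eq_zero_left (tf_nondeg fun v => ?_)
    have h3 := h2 v w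
    rw [tf_Dop] at h3
    rw [tf_comm, tf_add_right]
    linear_combination h3
  have h3 : Γ ≤ Y := hC.set.gen (X := Y) (fun m hm => Z.m_phi hx hq1 hq3 hphi0 h1 h2 hm) hz0 Z.notMem ⟨1, fun v => by
    rw [hz, hz', map_add, map_smul, hskew, one_smul, smul_neg, ← sub_eq_add_neg]⟩
  exact hphi0 ((hC.lie f0).no_hom (p := 11) fun g hg => h3 hg)

end Cfsg.Agent.R2.H14.E11
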