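import Cfsg.Agent.R2.H14.E11.FV
import Cfsg.Agent.R2.H14.E11.Kill
import Cfsg.Agent.R2.H8.Core.Fin

/-!
# S5749, S5750, box E11: the patterns for `p = 11` are impossible (helper14)

`rest11` : `Rest p a ψ` for every configuration.
-/

set_option autoImplicit false
set_option linter.unusedSectionVars false

namespace Cfsg.Agent.R2.H14.E11X

open Module Matrix Cfsg.Agent.H943.SL2Rel Cfsg.Agent.H943.SL2Mod Cfsg.Agent.H943.RepAdd
open Cfsg.Agent.R2.H28.SL2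
open Cfsg.Agent.R2.H14.E11 (Wt Uf Zf ZZ Ms C4 Q_one Q_two a_pos exists_zz ms_of_zz lift10 false_of_Ms rv rv')
open Cfsg.Lie Cfsg
open Cfsg.Agent.ChevalleyStructure.E6Min.Basic
open Cfsg.Agent.H163.E6 (V V')
open Cfsg.Agent.R2.H9.E6
open Cfsg.Agent.R2.H22.Loc (Nts not_inSoc_two not_inSoc_pair)
open Cfsg.Agent.R2.SL2 (tyl)
open Cfsg.Agent.R2.H8.Core (Rest psk)

universe u v w

section frame

variable {k : Type u} [Field k] [DecidableEq k] [IsAlgClosed k] {K : Type w} [Field K] [Fintype K] [DecidableEq K]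
  (ι : K →+* k) {a : ℕ} [Fact (Nat.Prime 11)] [CharP k 11] [CharP K 11]
  {ψ : SpecialLinearGroup (Fin 2) K →* ↥(Zgrp k)} {ρ ρ' : Representation k ↥(Zgrp k) (I27 → k)}

/-- the facts, `a ≥ 2` -/
theorem hyp_two (f : Fra 11 a ψ ρ ρ') (ha : 2 ≤ a) (nts : Nts ψ ρ) (nts' : Nts ψ ρ') {m : ℕ} (hm : m < a)
    (hcf : cf (Sy.{u, u, w} ι 11) (Rr ρ ψ) = (11 ^ m + 11 ^ ((m + 1) % a)) ::ₘ (4 * 11 ^ m) ::ₘ (8 * 11 ^ m) ::ₘ {8 * 11 ^ m})
    (S : S11 ι (p := 11) (Rr ρ ψ) m {11 ^ m + 11 ^ ((m + 1) % a)}) : Hyp ι (Rr ρ ψ) a m where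
  hm := hm
  S := ⟨_, S⟩
  two := fun _ => hcf
  one := fun h => by omega
  fix := f.fix
  n0 := fun h => f.soc_ne_zero ι h rfl
  n2 := fun h => by omega
  nB := fun _ => by
    have hne : m ≠ (m + 1) % a := by
      rcases Nat.lt_or_ge (m + 1) a with h | h
      · rw [Nat.mod_eq_of_lt h]
        omega
      · have h1 : m + 1 = a := by omega
        rw [h1, Nat.mod_self]
        omega
    exact not_inSoc_pair f (by norm_num) nts nts' hne hm (Nat.mod_lt _ (by omega))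

/-- the facts, `a = 1` -/
theorem hyp_one (f : Fra 11 a ψ ρ ρ') (ha : a = 1) (nts : Nts ψ ρ) (nts' : Nts ψ ρ')
    (hcf : cf (Sy.{u, u, w} ι 11) (Rr ρ ψ) = 0 ::ₘ (2 * 11 ^ 0) ::ₘ (4 * 11 ^ 0) ::ₘ (8 * 11 ^ 0) ::ₘ {8 * 11 ^ 0})
    (S : S11 ι (p := 11) (Rr ρ ψ) 0 {0, 2 * 11 ^ 0}) : Hyp ι (Rr ρ ψ) a 0 where
  hm := by omega
  S := ⟨_, S⟩
  two := fun h => by omega
  one := fun _ => hcf
  fix := f.fix
  n0 := fun h => f.soc_ne_zero ι h rfl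
  n2 := fun _ => not_inSoc_two f (by norm_num) (by rw [f.card, ha]; norm_num) nts nts' 0
  nB := fun h => by omega

end frame

/-- **the patterns for `p = 11`** -/
theorem rest11 {F : Type u} [Field F] [Fintype F] {K : Type v} [Field K] [Fintype K] {p a b : ℕ}
    {Γ M : Subgroup ↥(Zgrp F)} {ψ : ProjectiveSpecialLinearGroup (Fin 2) K →* ↥(Zgrp F)} (hC : Cfg p a b Γ M ψ) :
    Rest p a ψ := by
  intro _ _ _ _ _ ι W f nts nts' hW hw
  have h11 : p = 11 := by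
    rcases hW with h | h
    · exact h.1
    · exact h.2.1
  subst h11
  rcases hW with ⟨-, ha, hW⟩ | ⟨ha, -, hW⟩
  · obtain ⟨m, hm, hcf, S, S'⟩ := f.e11 ι rfl ha nts nts' hW hw
    obtain ⟨F₁, G₁, p₁, r₁, c₁, hM⟩ := (hyp_two ι f ha nts nts' hm hcf S).exists_ms ι f.card
    obtain ⟨F₂, G₂, p₂, r₂, c₂, hM'⟩ := (hyp_two ι f.swap ha nts' nts hm (by rw [f.cf_eq ι]; exact hcf) S').exists_ms ι f.card
    exact false_of_Ms hC hM hM'
  · obtain ⟨hcf, S, S'⟩ := f.q11 ι rfl ha nts nts' hW hw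
    obtain ⟨F₁, G₁, p₁, r₁, c₁, hM⟩ := (hyp_one ι f ha nts nts' hcf S).exists_ms ι f.card
    obtain ⟨F₂, G₂, p₂, r₂, c₂, hM'⟩ := (hyp_one ι f.swap ha nts' nts (by rw [f.cf_eq ι]; exact hcf) S').exists_ms ι f.card
    exact false_of_Ms hC hM hM'

end Cfsg.Agent.R2.H14.E11X
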