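import Cfsg.Agent.R2.H14.E11.Bs

/-!
# S5749, S5750, box E11: invariant forms (helper14)

* `Sf` : the invariant bilinear forms; `Bs.sf` : every form invariant under `N`, `H`, `W` is of this shape;
* `Bf` : the forms `T(v₁₂, ·, ·)`; `Bs.bf`.
-/

set_option autoImplicit false
set_option linter.unusedSectionVars false

namespace Cfsg.Agent.R2.H14.E11

open Module

variable {k : Type*} [Field k] [CharP k 11] {V : Type*} [AddCommGroup V] [Module k V]
variable {N H W : V →ₗ[k] V} {p r c : ℕ → V}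

/-- the invariant forms -/
structure Sf (B : V →ₗ[k] V →ₗ[k] k) (p r c : ℕ → V) (s₁ s₂ s₃ : k) : Prop where
  pp : ∀ i j, B (p i) (p j) = if i + j = 8 then (-1) ^ i * s₂ else 0
  pr : ∀ i j, B (p i) (r j) = if i + j = 10 then (-1) ^ i * s₁ else 0
  pc : ∀ i j, B (p i) (c j) = 0
  rp : ∀ i j, B (r i) (p j) = if i + j = 10 then (-1) ^ i * s₁ else 0
  rr : ∀ i j, B (r i) (r j) = if i + j = 2 then (-1) ^ i * (9 * s₁) else 0
  rc : ∀ i j, B (r i) (c j) = 0
  cp : ∀ i j, B (c i) (p j) = 0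
  cr : ∀ i j, B (c i) (r j) = 0
  cc : ∀ i j, B (c i) (c j) = if i + j = 4 then (-1) ^ i * s₃ else 0

/-- **the invariant forms** -/
theorem Bs.sf (h : Bs N H W p r c) {B : V →ₗ[k] V →ₗ[k] k} (hN : ∀ v w, B (N v) w = -B v (N w))
    (hH : ∀ v w, B (H v) (H w) = B v w) (hW : ∀ v w, B (W v) (W w) = B v w) :
    Sf B p r c (B (p 0) (r 10)) (B (p 0) (p 8)) (B (c 0) (c 4)) := by
  have e11 := e11 k
  have hH' : ∀ v w, B (H v) (H w) = 4 ^ 0 * B v w := fun v w => by rw [pow_zero, one_mul, hH]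
  have pp := sk hN h.Np h.Np
  have pr := sk hN h.Np h.Nr
  have pc := sk hN h.Np h.Nc
  have rp := sk hN h.Nr h.Np
  have rr := sk hN h.Nr h.Nr
  have rc := sk hN h.Nr h.Nc
  have cp := sk hN h.Nc h.Np
  have cr := sk hN h.Nc h.Nr
  have cc := sk hN h.Nc h.Nc
  have zp : ∀ n, 11 ≤ n → p n = 0 := fun n => h.p0
  have zr : ∀ n, 11 ≤ n → r n = 0 := fun n => h.r0
  have zc : ∀ n, 5 ≤ n → c n = 0 := fun n => h.c0
  have wpp : ∀ n, n % 5 ≠ 3 → B (p 0) (p n) = 0 := fun n hn => wt_zero hH' (h.Hp 0) (h.Hp n) (by omega)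
  have wpr : ∀ n, n % 5 ≠ 0 → B (p 0) (r n) = 0 := fun n hn => wt_zero hH' (h.Hp 0) (h.Hr n) (by omega)
  have wpc : ∀ n, n % 5 ≠ 1 → B (p 0) (c n) = 0 := fun n hn => wt_zero hH' (h.Hp 0) (h.Hc n) (by omega)
  have wrp : ∀ n, n % 5 ≠ 0 → B (r 0) (p n) = 0 := fun n hn => wt_zero hH' (h.Hr 0) (h.Hp n) (by omega)
  have wrr : ∀ n, n % 5 ≠ 2 → B (r 0) (r n) = 0 := fun n hn => wt_zero hH' (h.Hr 0) (h.Hr n) (by omega)
  have wrc : ∀ n, n % 5 ≠ 3 → B (r 0) (c n) = 0 := fun n hn => wt_zero hH' (h.Hr 0) (h.Hc n) (by omega)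
  have wcp : ∀ n, n % 5 ≠ 1 → B (c 0) (p n) = 0 := fun n hn => wt_zero hH' (h.Hc 0) (h.Hp n) (by omega)
  have wcr : ∀ n, n % 5 ≠ 3 → B (c 0) (r n) = 0 := fun n hn => wt_zero hH' (h.Hc 0) (h.Hr n) (by omega)
  have wcc : ∀ n, n % 5 ≠ 4 → B (c 0) (c n) = 0 := fun n hn => wt_zero hH' (h.Hc 0) (h.Hc n) (by omega)
  have pp3 : B (p 0) (p 3) = 0 := by
    rw [← hW, h.Wp0, h.Wp3]
    simp only [map_add, map_smul, LinearMap.add_apply, LinearMap.smul_apply, pp 8, pr 8, rp 10, rr 10, Nat.reduceAdd,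
      zp 13 (by norm_num), zr 15 (by norm_num), zp 15 (by norm_num), zr 17 (by norm_num), map_zero, mul_zero, smul_zero, add_zero]
  have pr0 : B (p 0) (r 0) = 0 := by
    rw [← hW, h.Wp0, h.Wr0]
    simp only [map_add, map_smul, LinearMap.add_apply, LinearMap.smul_apply, pp 8, rp 10, Nat.reduceAdd,
      zp 18 (by norm_num), zp 20 (by norm_num), map_zero, mul_zero, smul_zero, add_zero]
  have pr5 : B (p 0) (r 5) = 0 := by
    rw [← hW, h.Wp0, h.Wr5]
    simp only [map_add, map_smul, LinearMap.add_apply, LinearMap.smul_apply, pr 8, rr 10, Nat.reduceAdd,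
      zr 15 (by norm_num), zr 17 (by norm_num), map_zero, mul_zero, smul_zero, add_zero]
  have pc1 : B (p 0) (c 1) = 0 := by
    rw [← hW, h.Wp0, h.Wc1]
    simp only [map_add, map_smul, LinearMap.add_apply, LinearMap.smul_apply, pc 8, rc 10, Nat.reduceAdd,
      zc 11 (by norm_num), zc 13 (by norm_num), map_zero, mul_zero, smul_zero, add_zero]
  have rp0 : B (r 0) (p 0) = 0 := by
    rw [← hW, h.Wp0, h.Wr0]
    simp only [map_add, map_smul, LinearMap.smul_apply, pp 10, pr 10, Nat.reduceAdd,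
      zp 18 (by norm_num), zr 20 (by norm_num), map_zero, mul_zero, smul_zero, add_zero]
  have rp5 : B (r 0) (p 5) = 0 := by
    rw [← hW, h.Wp5, h.Wr0]
    simp only [map_add, map_smul, LinearMap.smul_apply, pp 10, pr 10, Nat.reduceAdd,
      zp 13 (by norm_num), zr 15 (by norm_num), map_zero, mul_zero, smul_zero, add_zero]
  have rp10 : B (r 0) (p 10) = B (p 0) (r 10) := by
    rw [← hW, h.Wp10, h.Wr0]
    simp only [map_smul, LinearMap.smul_apply, pr 10, Nat.reduceAdd, smul_eq_mul]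
    linear_combination (9 * B (p 0) (r 10)) * e11
  have rr2 : B (r 0) (r 2) = 9 * B (p 0) (r 10) := by
    rw [← hW, h.Wr2, h.Wr0]
    simp only [map_add, map_smul, LinearMap.smul_apply, pr 10, Nat.reduceAdd, zr 20 (by norm_num), map_zero, mul_zero,
      smul_zero, add_zero, smul_eq_mul]
    linear_combination (B (p 0) (r 10)) * e11
  have rr7 : B (r 0) (r 7) = 0 := by
    rw [← hW, h.Wr7, h.Wr0]
    simp only [map_smul, LinearMap.smul_apply, pr 10, Nat.reduceAdd, zr 15 (by norm_num), map_zero, mul_zero,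
      smul_zero]
  have rc3 : B (r 0) (c 3) = 0 := by
    rw [← hW, h.Wc3, h.Wr0]
    simp only [map_smul, LinearMap.smul_apply, pc 10, Nat.reduceAdd, zc 11 (by norm_num), map_zero, mul_zero,
      smul_zero]
  have cp1 : B (c 0) (p 1) = 0 := by
    rw [← hW, h.Wc0, h.Wp1]
    simp only [map_add, map_smul, LinearMap.smul_apply, cp 4, cr 4, Nat.reduceAdd, zp 11 (by norm_num),
      zr 13 (by norm_num), map_zero, mul_zero, smul_zero, add_zero]
  have cp6 : B (c 0) (p 6) = 0 := by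
    have h1 := cp 5 1
    rw [h.zc, map_zero, LinearMap.zero_apply] at h1
    exact ((mul_eq_zero.1 h1.symm).resolve_left (pow_ne_zero _ (neg_ne_zero.2 one_ne_zero)))
  have cr3 : B (c 0) (r 3) = 0 := by
    rw [← hW, h.Wc0, h.Wr3]
    simp only [map_smul, LinearMap.smul_apply, cr 4, Nat.reduceAdd, zr 13 (by norm_num), map_zero, mul_zero,
      smul_zero]
  have cr8 : B (c 0) (r 8) = 0 := by
    have h1 := cr 5 3
    rw [h.zc, map_zero, LinearMap.zero_apply] at h1
    exact ((mul_eq_zero.1 h1.symm).resolve_left (pow_ne_zero _ (neg_ne_zero.2 one_ne_zero)))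
  refine ⟨fun i j => ?_, fun i j => ?_, fun i j => ?_, fun i j => ?_, fun i j => ?_, fun i j => ?_, fun i j => ?_,
    fun i j => ?_, fun i j => ?_⟩
  · rw [pp]
    by_cases hij : i + j = 8
    · rw [if_pos hij, hij]
    · rw [if_neg hij]
      by_cases h3 : i + j = 3
      · rw [h3, pp3, mul_zero]
      · by_cases h11 : 11 ≤ i + j
        · rw [zp _ h11, map_zero, mul_zero]
        · rw [wpp _ (by omega), mul_zero]
  · rw [pr]
    by_cases hij : i + j = 10
    · rw [if_pos hij, hij]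
    · rw [if_neg hij]
      by_cases h3 : i + j = 0
      · rw [h3, pr0, mul_zero]
      · by_cases h5 : i + j = 5
        · rw [h5, pr5, mul_zero]
        · by_cases h11 : 11 ≤ i + j
          · rw [zr _ h11, map_zero, mul_zero]
          · rw [wpr _ (by omega), mul_zero]
  · rw [pc]
    by_cases h3 : i + j = 1
    · rw [h3, pc1, mul_zero]
    · by_cases h11 : 5 ≤ i + j
      · rw [zc _ h11, map_zero, mul_zero]
      · rw [wpc _ (by omega), mul_zero]
  · rw [rp]
    by_cases hij : i + j = 10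
    · rw [if_pos hij, hij, rp10]
    · rw [if_neg hij]
      by_cases h3 : i + j = 0
      · rw [h3, rp0, mul_zero]
      · by_cases h5 : i + j = 5
        · rw [h5, rp5, mul_zero]
        · by_cases h11 : 11 ≤ i + j
          · rw [zp _ h11, map_zero, mul_zero]
          · rw [wrp _ (by omega), mul_zero]
  · rw [rr]
    by_cases hij : i + j = 2
    · rw [if_pos hij, hij, rr2]
    · rw [if_neg hij]
      by_cases h3 : i + j = 7
      · rw [h3, rr7, mul_zero]
      · by_cases h11 : 11 ≤ i + j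
        · rw [zr _ h11, map_zero, mul_zero]
        · rw [wrr _ (by omega), mul_zero]
  · rw [rc]
    by_cases h3 : i + j = 3
    · rw [h3, rc3, mul_zero]
    · by_cases h11 : 5 ≤ i + j
      · rw [zc _ h11, map_zero, mul_zero]
      · rw [wrc _ (by omega), mul_zero]
  · rw [cp]
    by_cases h3 : i + j = 1
    · rw [h3, cp1, mul_zero]
    · by_cases h6 : i + j = 6
      · rw [h6, cp6, mul_zero]
      · by_cases h11 : 11 ≤ i + j
        · rw [zp _ h11, map_zero, mul_zero]
        · rw [wcp _ (by omega), mul_zero]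
  · rw [cr]
    by_cases h3 : i + j = 3
    · rw [h3, cr3, mul_zero]
    · by_cases h6 : i + j = 8
      · rw [h6, cr8, mul_zero]
      · by_cases h11 : 11 ≤ i + j
        · rw [zr _ h11, map_zero, mul_zero]
        · rw [wcr _ (by omega), mul_zero]
  · rw [cc]
    by_cases hij : i + j = 4
    · rw [if_pos hij, hij]
    · rw [if_neg hij]
      by_cases h11 : 5 ≤ i + j
      · rw [zc _ h11, map_zero, mul_zero]
      · rw [wcc _ (by omega), mul_zero]

/-- the forms `T(v₁₂, ·, ·)` -/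
structure Bf (b : V →ₗ[k] V →ₗ[k] k) (p r c : ℕ → V) (α β γ δ η θ : k) : Prop where
  pp : ∀ i j, b (p i) (p j) = if i + j = 2 then (-1) ^ i * α else 0
  pr : ∀ i j, b (p i) (r j) = if i + j = 4 then (-1) ^ i * β else if i + j = 9 then (-1) ^ i * θ else 0
  pc : ∀ i j, b (p i) (c j) = if i + j = 0 then δ else 0
  rr : ∀ i j, b (r i) (r j) = if i + j = 6 then (-1) ^ i * γ else 0
  rc : ∀ i j, b (r i) (c j) = if i + j = 2 then (-1) ^ i * η else 0
  cc : ∀ i j, b (c i) (c j) = 0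
  comm : ∀ v w, b v w = b w v

/-- **the shape of the form** -/
theorem Bs.bf (h : Bs N H W p r c) {b : V →ₗ[k] V →ₗ[k] k} (hs : ∀ v w, b v w = b w v)
    (hN : ∀ v w, b (N v) w = -b v (N w)) (hH : ∀ v w, b (H v) (H w) = 4 ^ 4 * b v w) :
    Bf b p r c (b (p 0) (p 2)) (b (p 0) (r 4)) (b (r 0) (r 6)) (b (p 0) (c 0)) (b (r 0) (c 2)) (b (p 0) (r 9)) := by
  have pp := sk hN h.Np h.Np
  have pr := sk hN h.Np h.Nr
  have pc := sk hN h.Np h.Nc
  have rr := sk hN h.Nr h.Nr
  have rc := sk hN h.Nr h.Nc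
  have cc := sk hN h.Nc h.Nc
  have zp : ∀ n, 11 ≤ n → p n = 0 := fun n => h.p0
  have zr : ∀ n, 11 ≤ n → r n = 0 := fun n => h.r0
  have zc : ∀ n, 5 ≤ n → c n = 0 := fun n => h.c0
  have odd : ∀ {q : ℕ → V} (_ : ∀ i j, b (q i) (q j) = (-1) ^ i * b (q 0) (q (i + j))) (n : ℕ), Odd n → b (q 0) (q n) = 0 := by
    intro q hq n hn
    have h1 := hq n 0
    rw [add_zero, hn.neg_one_pow, neg_one_mul, hs] at h1
    have h2 : (2 : k) * b (q 0) (q n) = 0 := by linear_combination h1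
    exact (mul_eq_zero.1 h2).resolve_left two_ne
  have wpp : ∀ n, n % 5 ≠ 2 → b (p 0) (p n) = 0 := fun n hn => wt_zero hH (h.Hp 0) (h.Hp n) (by omega)
  have wpr : ∀ n, n % 5 ≠ 4 → b (p 0) (r n) = 0 := fun n hn => wt_zero hH (h.Hp 0) (h.Hr n) (by omega)
  have wpc : ∀ n, n % 5 ≠ 0 → b (p 0) (c n) = 0 := fun n hn => wt_zero hH (h.Hp 0) (h.Hc n) (by omega)
  have wrr : ∀ n, n % 5 ≠ 1 → b (r 0) (r n) = 0 := fun n hn => wt_zero hH (h.Hr 0) (h.Hr n) (by omega)
  have wrc : ∀ n, n % 5 ≠ 2 → b (r 0) (c n) = 0 := fun n hn => wt_zero hH (h.Hr 0) (h.Hc n) (by omega)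
  have wcc : ∀ n, n % 5 ≠ 3 → b (c 0) (c n) = 0 := fun n hn => wt_zero hH (h.Hc 0) (h.Hc n) (by omega)
  refine ⟨fun i j => ?_, fun i j => ?_, fun i j => ?_, fun i j => ?_, fun i j => ?_, fun i j => ?_, hs⟩
  · rw [pp]
    by_cases hij : i + j = 2
    · rw [if_pos hij, hij]
    · rw [if_neg hij]
      by_cases h3 : i + j = 7
      · rw [h3, odd pp 7 (by decide), mul_zero]
      · by_cases h11 : 11 ≤ i + j
        · rw [zp _ h11, map_zero, mul_zero]
        · rw [wpp _ (by omega), mul_zero]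
  · rw [pr]
    by_cases hij : i + j = 4
    · rw [if_pos hij, hij]
    · rw [if_neg hij]
      by_cases h3 : i + j = 9
      · rw [if_pos h3, h3]
      · rw [if_neg h3]
        by_cases h11 : 11 ≤ i + j
        · rw [zr _ h11, map_zero, mul_zero]
        · rw [wpr _ (by omega), mul_zero]
  · rw [pc]
    by_cases hij : i + j = 0
    · rw [if_pos hij, hij, show i = 0 by omega, pow_zero, one_mul]
    · rw [if_neg hij]
      by_cases h11 : 5 ≤ i + j
      · rw [zc _ h11, map_zero, mul_zero]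
      · rw [wpc _ (by omega), mul_zero]
  · rw [rr]
    by_cases hij : i + j = 6
    · rw [if_pos hij, hij]
    · rw [if_neg hij]
      by_cases h3 : i + j = 1
      · rw [h3, odd rr 1 (by decide), mul_zero]
      · by_cases h11 : 11 ≤ i + j
        · rw [zr _ h11, map_zero, mul_zero]
        · rw [wrr _ (by omega), mul_zero]
  · rw [rc]
    by_cases hij : i + j = 2
    · rw [if_pos hij, hij]
    · rw [if_neg hij]
      by_cases h11 : 5 ≤ i + j
      · rw [zc _ h11, map_zero, mul_zero]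
      · rw [wrc _ (by omega), mul_zero]
  · rw [cc]
    by_cases h3 : i + j = 3
    · rw [h3, odd cc 3 (by decide), mul_zero]
    · by_cases h11 : 5 ≤ i + j
      · rw [zc _ h11, map_zero, mul_zero]
      · rw [wcc _ (by omega), mul_zero]

end Cfsg.Agent.R2.H14.E11
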