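import Cfsg.Agent.R2.H14.E11.Pa

/-!
# S5749, S5750, box E11: homomorphisms (helper14)

* `gen_uw` : `SL(2, K)` is generated by the `u t` and `w`;
* `Ms.equiv` : maps commuting with `N`, `F`, `G`, `w` commute with `SL(2, K)`;
* `Ms.exists_hom` : the 3-parameter family of homomorphisms.
-/

set_option autoImplicit false
set_option linter.unusedSectionVars false
set_option linter.unusedSimpArgs false

namespace Cfsg.Agent.R2.H14.E11

open Module Matrix Cfsg.Agent.H943.SL2Rel

universe v w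

section gen

variable {K : Type w} [Field K]

/-- **generation** -/
theorem gen_uw (X : Subgroup (SpecialLinearGroup (Fin 2) K)) (hu : ∀ t, u t ∈ X)
    (hw : Cfsg.Agent.H943.SL2Rel.w ∈ X) (g : SpecialLinearGroup (Fin 2) K) : g ∈ X := by
  have hh : ∀ a : Kˣ, h a ∈ X := by
    intro a
    have ha : (a : K) ≠ 0 := a.ne_zero
    have h1 := w_u_w (-(a : K)⁻¹) (neg_ne_zero.2 (inv_ne_zero ha))
    have h2 : mi (-(a : K)⁻¹) (neg_ne_zero.2 (inv_ne_zero ha)) = a := by
      apply Units.ext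
      show -(-(a : K)⁻¹)⁻¹ = a
      rw [inv_neg, neg_neg, inv_inv]
    rw [h2] at h1
    have h3 : h a = (u (-(-(a : K)⁻¹)⁻¹))⁻¹ * (Cfsg.Agent.H943.SL2Rel.w * u (-(a : K)⁻¹) * Cfsg.Agent.H943.SL2Rel.w) *
        (u (-(-(a : K)⁻¹)⁻¹))⁻¹ * (Cfsg.Agent.H943.SL2Rel.w)⁻¹ := by
      rw [h1]
      group
    rw [h3]
    exact mul_mem (mul_mem (mul_mem (inv_mem (hu _)) (mul_mem (mul_mem hw (hu _)) hw)) (inv_mem (hu _))) (inv_mem hw)
  rcases bruhat g with ⟨a, t, rfl⟩ | ⟨s, a, t, rfl⟩
  · exact mul_mem (hh a) (hu t)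
  · exact mul_mem (mul_mem (mul_mem (hu s) (hh a)) hw) (hu t)

end gen

variable {k : Type v} [Field k] [CharP k 11] {K : Type w} [Field K] [CharP K 11] {ι : K →+* k}
variable {E : Type*} [AddCommGroup E] [Module k E] {E₂ : Type*} [AddCommGroup E₂] [Module k E₂]
variable {ρ : Representation k (SpecialLinearGroup (Fin 2) K) E} {F G : E →ₗ[k] E} {p r c : ℕ → E}
variable {ρ₂ : Representation k (SpecialLinearGroup (Fin 2) K) E₂} {F₂ G₂ : E₂ →ₗ[k] E₂} {p' r' c' : ℕ → E₂}

theorem equiv_of {φ : E →ₗ[k] E₂} (hu : ∀ t v, φ (ρ (u t) v) = ρ₂ (u t) (φ v))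
    (hw : ∀ v, φ (ρ Cfsg.Agent.H943.SL2Rel.w v) = ρ₂ Cfsg.Agent.H943.SL2Rel.w (φ v))
    (g : SpecialLinearGroup (Fin 2) K) (v : E) : φ (ρ g v) = ρ₂ g (φ v) := by
  let X : Subgroup (SpecialLinearGroup (Fin 2) K) :=
    { carrier := {g | ∀ v, φ (ρ g v) = ρ₂ g (φ v)}
      mul_mem' := by
        intro a b ha hb v
        rw [rho_mul, ha, hb, ← rho_mul]
      one_mem' := by
        intro v
        rw [map_one, map_one, Module.End.one_apply, Module.End.one_apply]
      inv_mem' := by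
        intro a ha v
        have h1 := ha (ρ a⁻¹ v)
        rw [rho_inv'] at h1
        rw [h1, rho_inv] }
  exact gen_uw X hu hw g v

theorem Ms.equiv (hM : Ms ι ρ F G p r c) (hM₂ : Ms ι ρ₂ F₂ G₂ p' r' c') {φ : E →ₗ[k] E₂}
    (hN : ∀ v, φ (Nr ρ v) = Nr ρ₂ (φ v)) (hF : ∀ v, φ (F v) = F₂ (φ v)) (hG : ∀ v, φ (G v) = G₂ (φ v))
    (hw : ∀ v, φ (ρ Cfsg.Agent.H943.SL2Rel.w v) = ρ₂ Cfsg.Agent.H943.SL2Rel.w (φ v))
    (g : SpecialLinearGroup (Fin 2) K) (v : E) : φ (ρ g v) = ρ₂ g (φ v) := by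
  refine equiv_of (fun t v => ?_) hw g v
  have hpow : ∀ (j : ℕ) (v : E), φ ((Nr ρ ^ j) v) = (Nr ρ₂ ^ j) (φ v) := by
    intro j
    induction j with
    | zero => intro v; rw [pow_zero, pow_zero, Module.End.one_apply, Module.End.one_apply]
    | succ j ih => intro v; rw [pow_succ, pow_succ, Module.End.mul_apply, Module.End.mul_apply, ih, hN]
  rw [hM.u, hM₂.u, map_add, map_add, map_smul, map_smul, map_sum, hF, hG]
  simp only [map_smul, hpow]

/-- **the homomorphisms** -/
theorem Ms.exists_hom (hM : Ms ι ρ F G p r c) (hM₂ : Ms ι ρ₂ F₂ G₂ p' r' c') (a b e : k) : ∃ φ : E →ₗ[k] E₂,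
    (∀ g v, φ (ρ g v) = ρ₂ g (φ v)) ∧ φ (p 0) = a • p' 0 + (6 * b) • r' 2 + b • p' 10 ∧
    (∀ n, 1 ≤ n → φ (p n) = a • p' n + (6 * b) • r' (n + 2)) ∧ (∀ n, φ (r n) = a • r' n) ∧ ∀ n, φ (c n) = e • c' n := by
  have e11 := e11 k
  have h := hM.bs
  have h2 := hM₂.bs
  obtain ⟨φ, f1, f2, f3⟩ := h.lift (fun n => if n = 0 then a • p' 0 + (6 * b) • r' 2 + b • p' 10 else
    a • p' n + (6 * b) • r' (n + 2)) (fun n => a • r' n) (fun n => e • c' n)
  have g0 : φ (p 0) = a • p' 0 + (6 * b) • r' 2 + b • p' 10 := by rw [f1 0 (by norm_num), if_pos rfl]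
  have g1 : ∀ n, 1 ≤ n → φ (p n) = a • p' n + (6 * b) • r' (n + 2) := by
    intro n hn
    by_cases h11 : n < 11
    · rw [f1 n h11, if_neg (by omega)]
    · rw [h.p0 (by omega), h2.p0 (by omega), h2.r0 (by omega), map_zero, smul_zero, smul_zero, add_zero]
  have g2 : ∀ n, φ (r n) = a • r' n := by
    intro n
    by_cases h11 : n < 11
    · rw [f2 n h11]
    · rw [h.r0 (by omega), h2.r0 (by omega), map_zero, smul_zero]
  have g3 : ∀ n, φ (c n) = e • c' n := by
    intro n
    by_cases h11 : n < 5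
    · rw [f3 n h11]
    · rw [h.c0 (by omega), h2.c0 (by omega), map_zero, smul_zero]
  refine ⟨φ, ?_, g0, g1, g2, g3⟩
  have hN : ∀ v, φ (Nr ρ v) = Nr ρ₂ (φ v) := by
    intro v
    refine LinearMap.congr_fun (f := φ.comp (Nr ρ)) (g := (Nr ρ₂).comp φ) (h.ext (fun n => ?_) (fun n => ?_) fun n => ?_) v
    · rw [LinearMap.comp_apply, LinearMap.comp_apply, h.Np, g1 _ (by omega)]
      rcases n with _ | n
      · rw [g0]
        simp only [map_add, map_smul, h2.Np, h2.Nr, h2.zp, smul_zero, add_zero]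
      · rw [g1 _ (by omega)]
        simp only [map_add, map_smul, h2.Np, h2.Nr]
    · rw [LinearMap.comp_apply, LinearMap.comp_apply, h.Nr, g2, g2, map_smul, h2.Nr]
    · rw [LinearMap.comp_apply, LinearMap.comp_apply, h.Nc, g3, g3, map_smul, h2.Nc]
  have hF : ∀ v, φ (F v) = F₂ (φ v) := by
    intro v
    refine LinearMap.congr_fun (f := φ.comp F) (g := F₂.comp φ) (h.ext (fun n => ?_) (fun n => ?_) fun n => ?_) v
    · rw [LinearMap.comp_apply, LinearMap.comp_apply, hM.Fp, map_zero]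
      rcases n with _ | n
      · rw [g0]
        simp only [map_add, map_smul, hM₂.Fp, hM₂.Fr 2 le_rfl, smul_zero, add_zero]
      · rw [g1 _ (by omega)]
        simp only [map_add, map_smul, hM₂.Fp, hM₂.Fr (n + 1 + 2) (by omega), smul_zero, add_zero]
    · rw [LinearMap.comp_apply, LinearMap.comp_apply, g2, map_smul]
      rcases n with _ | _ | n
      · rw [hM.Fr0, hM₂.Fr0, map_smul, g1 _ (by norm_num), h2.r0 (by norm_num), smul_zero, add_zero, smul_comm]
      · rw [hM.Fr1, hM₂.Fr1, map_smul, g1 _ (by norm_num), h2.r0 (by norm_num), smul_zero, add_zero, smul_comm]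
      · rw [hM.Fr _ (by omega), hM₂.Fr _ (by omega), map_zero, smul_zero]
    · rw [LinearMap.comp_apply, LinearMap.comp_apply, hM.Fc, g3, map_smul, hM₂.Fc, map_zero, smul_zero]
  have hG : ∀ v, φ (G v) = G₂ (φ v) := by
    intro v
    refine LinearMap.congr_fun (f := φ.comp G) (g := G₂.comp φ) (h.ext (fun n => ?_) (fun n => ?_) fun n => ?_) v
    · rw [LinearMap.comp_apply, LinearMap.comp_apply, hM.Gp, map_zero]
      rcases n with _ | n
      · rw [g0]
        simp only [map_add, map_smul, hM₂.Gp, hM₂.Gr 2 (by norm_num), smul_zero, add_zero]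
      · rw [g1 _ (by omega)]
        simp only [map_add, map_smul, hM₂.Gp, hM₂.Gr (n + 1 + 2) (by omega), smul_zero, add_zero]
    · rw [LinearMap.comp_apply, LinearMap.comp_apply, g2, map_smul]
      rcases n with _ | n
      · rw [hM.Gr0, hM₂.Gr0, map_smul, g1 _ (by norm_num), h2.r0 (by norm_num), smul_zero, add_zero, smul_comm]
      · rw [hM.Gr _ (by omega), hM₂.Gr _ (by omega), map_zero, smul_zero]
    · rw [LinearMap.comp_apply, LinearMap.comp_apply, hM.Gc, g3, map_smul, hM₂.Gc, map_zero, smul_zero]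
  have hW : ∀ v, φ (ρ Cfsg.Agent.H943.SL2Rel.w v) = ρ₂ Cfsg.Agent.H943.SL2Rel.w (φ v) := by
    intro v
    have z11 : r' 11 = 0 := h2.zr
    have z12 : r' 12 = 0 := h2.r0 (by norm_num)
    refine LinearMap.congr_fun (f := φ.comp (ρ Cfsg.Agent.H943.SL2Rel.w)) (g := (ρ₂ Cfsg.Agent.H943.SL2Rel.w).comp φ)
      (h.ext (fun n => ?_) (fun n => ?_) fun n => ?_) v
    · rw [LinearMap.comp_apply, LinearMap.comp_apply]
      by_cases hn : 11 ≤ n
      · rw [h.p0 hn, map_zero, map_zero, map_zero]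
      push Not at hn
      interval_cases n
      · rw [h.Wp0, map_add, map_smul, map_smul, g1 8 (by norm_num), g2 10, g0, map_add, map_add, map_smul, map_smul,
          map_smul, h2.Wp0, h2.Wr2, h2.Wp10]
        match_scalars <;> first | ring1 | linear_combination (2 : k) * b * e11 | linear_combination (-2 : k) * b * e11
      · rw [h.Wp1, map_add, map_smul, map_smul, g1 7 (by norm_num), g2 9, g1 1 le_rfl, map_add, map_smul, map_smul,
          h2.Wp1, h2.Wr3]
        match_scalars <;> ring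
      · rw [h.Wp2, map_add, map_smul, map_smul, g1 6 (by norm_num), g2 8, g1 2 (by norm_num), map_add, map_smul, map_smul,
          h2.Wp2, h2.Wr4]
        match_scalars <;> ring
      · rw [h.Wp3, map_add, map_smul, map_smul, g1 5 (by norm_num), g2 7, g1 3 (by norm_num), map_add, map_smul, map_smul,
          h2.Wp3, h2.Wr5]
        match_scalars <;> ring
      · rw [h.Wp4, g1 4 (by norm_num), map_add, map_smul, map_smul, h2.Wp4, h2.Wr6]
      · rw [h.Wp5, map_add, map_smul, map_smul, g1 3 (by norm_num), g2 5, g1 5 (by norm_num), map_add, map_smul, map_smul,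
          h2.Wp5, h2.Wr7]
        match_scalars <;> ring
      · rw [h.Wp6, map_add, map_smul, map_smul, g1 2 (by norm_num), g2 4, g1 6 (by norm_num), map_add, map_smul, map_smul,
          h2.Wp6, h2.Wr8]
        match_scalars <;> ring
      · rw [h.Wp7, map_add, map_smul, map_smul, g1 1 (by norm_num), g2 3, g1 7 (by norm_num), map_add, map_smul, map_smul,
          h2.Wp7, h2.Wr9]
        match_scalars <;> ring
      · rw [h.Wp8, map_add, map_add, map_smul, map_smul, map_smul, g0, g1 10 (by norm_num), g2 2, g1 8 (by norm_num),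
          map_add, map_smul, map_smul, h2.Wp8, h2.Wr10, z12]
        match_scalars <;> first | ring1 | linear_combination (5 : k) * b * e11 | linear_combination (-5 : k) * b * e11
      · rw [h.Wp9, map_add, g1 9 (by norm_num), g2 1, z11, map_add, map_smul, h2.Wp9, smul_zero, map_zero]
        match_scalars <;> ring
      · rw [h.Wp10, map_smul, g2 0, g1 10 (by norm_num), z12, map_add, map_smul, h2.Wp10, smul_zero, map_zero]
        match_scalars <;> ring
    · rw [LinearMap.comp_apply, LinearMap.comp_apply, g2, map_smul]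
      by_cases hn : 11 ≤ n
      · rw [h.r0 hn, h2.r0 hn, map_zero, map_zero, map_zero, smul_zero]
      push Not at hn
      interval_cases n
      · rw [h.Wr0, map_smul, g1 10 (by norm_num), z12, h2.Wr0, smul_zero, add_zero, smul_comm]
      · rw [h.Wr1, map_smul, g2, h2.Wr1, smul_comm]
      · rw [h.Wr2, map_add, map_smul, map_smul, g2, g2, h2.Wr2]
        match_scalars <;> ring
      · rw [h.Wr3, map_smul, g2, h2.Wr3, smul_comm]
      · rw [h.Wr4, map_smul, g2, h2.Wr4, smul_comm]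
      · rw [h.Wr5, map_smul, g2, h2.Wr5, smul_comm]
      · rw [h.Wr6, g2, h2.Wr6]
      · rw [h.Wr7, map_smul, g2, h2.Wr7, smul_comm]
      · rw [h.Wr8, map_smul, g2, h2.Wr8, smul_comm]
      · rw [h.Wr9, map_smul, g2, h2.Wr9, smul_comm]
      · rw [h.Wr10, map_add, map_smul, map_smul, g1 10 (by norm_num), g2, z12, h2.Wr10, smul_zero, add_zero]
        match_scalars <;> ring
    · rw [LinearMap.comp_apply, LinearMap.comp_apply, g3, map_smul]
      by_cases hn : 5 ≤ n
      · rw [h.c0 hn, h2.c0 hn, map_zero, map_zero, map_zero, smul_zero]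
      push Not at hn
      interval_cases n
      · rw [h.Wc0, map_smul, g3, h2.Wc0, smul_comm]
      · rw [h.Wc1, map_smul, g3, h2.Wc1, smul_comm]
      · rw [h.Wc2, g3, h2.Wc2]
      · rw [h.Wc3, map_smul, g3, h2.Wc3, smul_comm]
      · rw [h.Wc4, map_smul, g3, h2.Wc4, smul_comm]
  exact hM.equiv hM₂ hN hF hG hW

end Cfsg.Agent.R2.H14.E11
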