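import Cfsg.Agent.R2.H14.E11.Frm

/-!
# S5749, S5750, box E11: the kernel of the form `T(v₁₂, ·, ·)` (helper14)

* `Bf.theta` : `θ = 0` if the kernel has dimension at least 8;
* `Bf.delta` : `α γ ≠ β ^ 2` if the kernel has dimension at most 17;
* `Bf.ker` : the kernel; `Bf.uniq` : the functionals on the kernel.
-/

set_option autoImplicit false
set_option linter.unusedSectionVars false
set_option linter.unusedSimpArgs false

namespace Cfsg.Agent.R2.H14.E11

open Module

variable {k : Type*} [Field k] [CharP k 11] {V : Type*} [AddCommGroup V] [Module k V]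
variable {N H W : V →ₗ[k] V} {p r c : ℕ → V}

theorem Bs.finite (h : Bs N H W p r c) : Module.Finite k V := Module.Finite.of_basis h.bas

theorem Bs.finrank (h : Bs N H W p r c) : Module.finrank k V = 27 := by
  rw [Module.finrank_eq_card_basis h.bas]
  rfl

theorem Bs.sum (h : Bs N H W p r c) {V₂ : Type*} [AddCommGroup V₂] [Module k V₂] (f : V →ₗ[k] V₂) (v : V) :
    f v = ∑ n ∈ Finset.range 11, h.A n v • f (p n) + ∑ n ∈ Finset.range 11, h.B n v • f (r n) +
      ∑ n ∈ Finset.range 5, h.C n v • f (c n) := by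
  conv_lhs => rw [h.expand v]
  simp only [map_add, map_sum, map_smul]

theorem Bs.sum2 (h : Bs N H W p r c) (b : V →ₗ[k] V →ₗ[k] k) (v w : V) :
    b v w = ∑ n ∈ Finset.range 11, h.A n v * b (p n) w + ∑ n ∈ Finset.range 11, h.B n v * b (r n) w +
      ∑ n ∈ Finset.range 5, h.C n v * b (c n) w :=
  h.sum (b.flip w) v

variable {b : V →ₗ[k] V →ₗ[k] k} {α β γ δ η θ : k}

theorem Bf.rp (hb : Bf b p r c α β γ δ η θ) (i j : ℕ) : b (r i) (p j) =
    if j + i = 4 then (-1) ^ j * β else if j + i = 9 then (-1) ^ j * θ else 0 := by rw [hb.comm, hb.pr]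

theorem Bf.cp (hb : Bf b p r c α β γ δ η θ) (i j : ℕ) : b (c i) (p j) = if j + i = 0 then δ else 0 := by
  rw [hb.comm, hb.pc]

theorem Bf.cr (hb : Bf b p r c α β γ δ η θ) (i j : ℕ) : b (c i) (r j) = if j + i = 2 then (-1) ^ j * η else 0 := by
  rw [hb.comm, hb.rc]

/-- **`θ = 0`** -/
theorem Bf.theta (h : Bs N H W p r c) (hb : Bf b p r c α β γ δ η θ) (hk : 8 ≤ finrank k (LinearMap.ker b)) : θ = 0 := by
  by_contra hθ
  have hfin := h.finite
  let f : LinearMap.ker b →ₗ[k] (Fin 7 → k) :=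
    (LinearMap.pi ![h.A 10, h.B 10, h.C 0, h.C 1, h.C 2, h.C 3, h.C 4]).comp (Submodule.subtype _)
  have hf : Function.Injective f := by
    rw [← LinearMap.ker_eq_bot, LinearMap.ker_eq_bot']
    rintro ⟨v, hv⟩ hfv
    have hv' : ∀ w, b v w = 0 := fun w => by rw [LinearMap.mem_ker.1 hv, LinearMap.zero_apply]
    have f0 : h.A 10 v = 0 := congrFun hfv 0
    have f1 : h.B 10 v = 0 := congrFun hfv 1
    have f2 : h.C 0 v = 0 := congrFun hfv 2
    have f3 : h.C 1 v = 0 := congrFun hfv 3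
    have f4 : h.C 2 v = 0 := congrFun hfv 4
    have f5 : h.C 3 v = 0 := congrFun hfv 5
    have f6 : h.C 4 v = 0 := congrFun hfv 6
    have hC : ∀ n ∈ Finset.range 5, h.C n v = 0 := by
      intro n hn
      rw [Finset.mem_range] at hn
      interval_cases n <;> assumption
    have key : ∀ n, n < 11 → h.A n v = 0 ∧ h.B n v = 0 := by
      intro n
      induction n using Nat.strong_induction_on with
      | _ n ih =>
        intro hn
        by_cases h10 : n = 10
        · rw [h10]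
          exact ⟨f0, f1⟩
        constructor
        · have h1 := hv' (r (9 - n))
          rw [h.sum2 b] at h1
          have h3 : ∑ m ∈ Finset.range 5, h.C m v * b (c m) (r (9 - n)) = 0 :=
            Finset.sum_eq_zero fun m hm => by rw [hC m hm, zero_mul]
          have h2 : ∑ m ∈ Finset.range 11, h.B m v * b (r m) (r (9 - n)) = 0 := by
            refine Finset.sum_eq_zero fun m hm => ?_
            rw [hb.rr]
            by_cases hm6 : m + (9 - n) = 6
            · rw [(ih m (by omega) (by omega)).2, zero_mul]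
            · rw [if_neg hm6, mul_zero]
          have h4 : ∑ m ∈ Finset.range 11, h.A m v * b (p m) (r (9 - n)) = h.A n v * ((-1) ^ n * θ) := by
            rw [Finset.sum_eq_single n]
            · rw [hb.pr, if_neg (by omega), if_pos (by omega)]
            · intro m hm hmn
              rw [hb.pr]
              by_cases hm4 : m + (9 - n) = 4
              · rw [(ih m (by omega) (by omega)).1, zero_mul]
              · rw [if_neg hm4, if_neg (by omega), mul_zero]
            · intro hn'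
              exact absurd (Finset.mem_range.2 hn) hn'
          rw [h2, h3, h4, add_zero, add_zero] at h1
          exact (mul_eq_zero.1 h1).resolve_right (mul_ne_zero (pow_ne_zero _ (neg_ne_zero.2 one_ne_zero)) hθ)
        · have h1 := hv' (p (9 - n))
          rw [h.sum2 b] at h1
          have h3 : ∑ m ∈ Finset.range 5, h.C m v * b (c m) (p (9 - n)) = 0 :=
            Finset.sum_eq_zero fun m hm => by rw [hC m hm, zero_mul]
          have h2 : ∑ m ∈ Finset.range 11, h.A m v * b (p m) (p (9 - n)) = 0 := by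
            refine Finset.sum_eq_zero fun m hm => ?_
            rw [hb.pp]
            by_cases hm6 : m + (9 - n) = 2
            · rw [(ih m (by omega) (by omega)).1, zero_mul]
            · rw [if_neg hm6, mul_zero]
          have h4 : ∑ m ∈ Finset.range 11, h.B m v * b (r m) (p (9 - n)) = h.B n v * ((-1) ^ (9 - n) * θ) := by
            rw [Finset.sum_eq_single n]
            · rw [hb.rp, if_neg (by omega), if_pos (by omega)]
            · intro m hm hmn
              rw [hb.rp]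
              by_cases hm4 : (9 - n) + m = 4
              · rw [(ih m (by omega) (by omega)).2, zero_mul]
              · rw [if_neg hm4, if_neg (by omega), mul_zero]
            · intro hn'
              exact absurd (Finset.mem_range.2 hn) hn'
          rw [h2, h3, h4, add_zero, zero_add] at h1
          exact (mul_eq_zero.1 h1).resolve_right (mul_ne_zero (pow_ne_zero _ (neg_ne_zero.2 one_ne_zero)) hθ)
    apply Subtype.ext
    show v = 0
    rw [h.expand v, Finset.sum_eq_zero fun n hn => by rw [(key n (Finset.mem_range.1 hn)).1, zero_smul],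
      Finset.sum_eq_zero fun n hn => by rw [(key n (Finset.mem_range.1 hn)).2, zero_smul],
      Finset.sum_eq_zero fun n hn => by rw [hC n hn, zero_smul], add_zero, add_zero]
  have h1 := LinearMap.finrank_le_finrank_of_injective hf
  rw [finrank_fintype_fun_eq_card, Fintype.card_fin] at h1
  omega

section zero

variable (hb : Bf b p r c α β γ δ η 0)
include hb

theorem Bf.pr0 (i j : ℕ) : b (p i) (r j) = if i + j = 4 then (-1) ^ i * β else 0 := by
  rw [hb.pr, mul_zero]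
  simp

theorem Bf.rp0 (i j : ℕ) : b (r i) (p j) = if j + i = 4 then (-1) ^ j * β else 0 := by
  rw [hb.rp, mul_zero]
  simp

/-- the form on the basis vectors -/
theorem Bf.v_p0 (h : Bs N H W p r c) (v : V) : b v (p 0) = α * h.A 2 v + β * h.B 4 v + δ * h.C 0 v := by
  rw [h.sum2 b]
  simp [Finset.sum_range_succ, hb.pp, hb.rp0, hb.cp]
  ring

theorem Bf.v_p1 (h : Bs N H W p r c) (v : V) : b v (p 1) = -(α * h.A 1 v + β * h.B 3 v) := by
  rw [h.sum2 b]
  simp [Finset.sum_range_succ, hb.pp, hb.rp0, hb.cp]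
  ring

theorem Bf.v_p2 (h : Bs N H W p r c) (v : V) : b v (p 2) = α * h.A 0 v + β * h.B 2 v := by
  rw [h.sum2 b]
  simp [Finset.sum_range_succ, hb.pp, hb.rp0, hb.cp]
  ring

theorem Bf.v_p3 (h : Bs N H W p r c) (v : V) : b v (p 3) = -(β * h.B 1 v) := by
  rw [h.sum2 b]
  simp [Finset.sum_range_succ, hb.pp, hb.rp0, hb.cp]
  ring

theorem Bf.v_p4 (h : Bs N H W p r c) (v : V) : b v (p 4) = β * h.B 0 v := by
  rw [h.sum2 b]
  simp [Finset.sum_range_succ, hb.pp, hb.rp0, hb.cp]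
  ring

theorem Bf.v_r0 (h : Bs N H W p r c) (v : V) : b v (r 0) = β * h.A 4 v + γ * h.B 6 v + η * h.C 2 v := by
  rw [h.sum2 b]
  simp [Finset.sum_range_succ, hb.pr0, hb.rr, hb.cr]
  ring

theorem Bf.v_r1 (h : Bs N H W p r c) (v : V) : b v (r 1) = -(β * h.A 3 v + γ * h.B 5 v + η * h.C 1 v) := by
  rw [h.sum2 b]
  simp [Finset.sum_range_succ, hb.pr0, hb.rr, hb.cr]
  ring

theorem Bf.v_r2 (h : Bs N H W p r c) (v : V) : b v (r 2) = β * h.A 2 v + γ * h.B 4 v + η * h.C 0 v := by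
  rw [h.sum2 b]
  simp [Finset.sum_range_succ, hb.pr0, hb.rr, hb.cr]
  ring

theorem Bf.v_r3 (h : Bs N H W p r c) (v : V) : b v (r 3) = -(β * h.A 1 v + γ * h.B 3 v) := by
  rw [h.sum2 b]
  simp [Finset.sum_range_succ, hb.pr0, hb.rr, hb.cr]
  ring

theorem Bf.v_r4 (h : Bs N H W p r c) (v : V) : b v (r 4) = β * h.A 0 v + γ * h.B 2 v := by
  rw [h.sum2 b]
  simp [Finset.sum_range_succ, hb.pr0, hb.rr, hb.cr]
  ring

theorem Bf.v_r5 (h : Bs N H W p r c) (v : V) : b v (r 5) = -(γ * h.B 1 v) := by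
  rw [h.sum2 b]
  simp [Finset.sum_range_succ, hb.pr0, hb.rr, hb.cr]
  ring

theorem Bf.v_r6 (h : Bs N H W p r c) (v : V) : b v (r 6) = γ * h.B 0 v := by
  rw [h.sum2 b]
  simp [Finset.sum_range_succ, hb.pr0, hb.rr, hb.cr]
  ring

theorem Bf.v_c0 (h : Bs N H W p r c) (v : V) : b v (c 0) = δ * h.A 0 v + η * h.B 2 v := by
  rw [h.sum2 b]
  simp [Finset.sum_range_succ, hb.pc, hb.rc, hb.cc]
  ring

theorem Bf.v_c1 (h : Bs N H W p r c) (v : V) : b v (c 1) = -(η * h.B 1 v) := by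
  rw [h.sum2 b]
  simp [Finset.sum_range_succ, hb.pc, hb.rc, hb.cc]
  ring

theorem Bf.v_c2 (h : Bs N H W p r c) (v : V) : b v (c 2) = η * h.B 0 v := by
  rw [h.sum2 b]
  simp [Finset.sum_range_succ, hb.pc, hb.rc, hb.cc]
  ring

theorem Bf.v_p (h : Bs N H W p r c) (v : V) {n : ℕ} (hn : 5 ≤ n) : b v (p n) = 0 := by
  rw [h.sum2 b]
  simp only [hb.pp, hb.rp0, hb.cp]
  rw [Finset.sum_eq_zero fun m _ => by rw [if_neg (by omega), mul_zero],
    Finset.sum_eq_zero fun m _ => by rw [if_neg (by omega), mul_zero],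
    Finset.sum_eq_zero fun m _ => by rw [if_neg (by omega), mul_zero], add_zero, add_zero]

theorem Bf.v_r (h : Bs N H W p r c) (v : V) {n : ℕ} (hn : 7 ≤ n) : b v (r n) = 0 := by
  rw [h.sum2 b]
  simp only [hb.pr0, hb.rr, hb.cr]
  rw [Finset.sum_eq_zero fun m _ => by rw [if_neg (by omega), mul_zero],
    Finset.sum_eq_zero fun m _ => by rw [if_neg (by omega), mul_zero],
    Finset.sum_eq_zero fun m _ => by rw [if_neg (by omega), mul_zero], add_zero, add_zero]

theorem Bf.v_c (h : Bs N H W p r c) (v : V) {n : ℕ} (hn : 3 ≤ n) : b v (c n) = 0 := by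
  rw [h.sum2 b]
  simp only [hb.pc, hb.rc, hb.cc]
  rw [Finset.sum_eq_zero fun m _ => by rw [if_neg (by omega), mul_zero],
    Finset.sum_eq_zero fun m _ => by rw [if_neg (by omega), mul_zero],
    Finset.sum_eq_zero fun m _ => by rw [mul_zero], add_zero, add_zero]

/-- membership in the kernel -/
theorem Bf.mem_ker (h : Bs N H W p r c) {v : V} (hA : h.A 0 v = 0) (h0 : h.B 0 v = 0) (h1 : h.B 1 v = 0)
    (h2 : h.B 2 v = 0) (hr0 : b v (r 0) = 0) (hr1 : b v (r 1) = 0) (hr2 : b v (r 2) = 0) (hp0 : b v (p 0) = 0)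
    (hp1 : b v (p 1) = 0) (hr3 : b v (r 3) = 0) : b v = 0 := by
  refine h.ext (fun n => ?_) (fun n => ?_) fun n => ?_
  · rw [LinearMap.zero_apply]
    by_cases hn : 5 ≤ n
    · exact hb.v_p h v hn
    · push Not at hn
      interval_cases n
      · exact hp0
      · exact hp1
      · rw [hb.v_p2 h, hA, h2, mul_zero, mul_zero, add_zero]
      · rw [hb.v_p3 h, h1, mul_zero, neg_zero]
      · rw [hb.v_p4 h, h0, mul_zero]
  · rw [LinearMap.zero_apply]
    by_cases hn : 7 ≤ n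
    · exact hb.v_r h v hn
    · push Not at hn
      interval_cases n
      · exact hr0
      · exact hr1
      · exact hr2
      · exact hr3
      · rw [hb.v_r4 h, hA, h2, mul_zero, mul_zero, add_zero]
      · rw [hb.v_r5 h, h1, mul_zero, neg_zero]
      · rw [hb.v_r6 h, h0, mul_zero]
  · rw [LinearMap.zero_apply]
    by_cases hn : 3 ≤ n
    · exact hb.v_c h v hn
    · push Not at hn
      interval_cases n
      · rw [hb.v_c0 h, hA, h2, mul_zero, mul_zero, add_zero]
      · rw [hb.v_c1 h, h1, mul_zero, neg_zero]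
      · rw [hb.v_c2 h, h0, mul_zero]

/-- **`α γ ≠ β ^ 2`** -/
theorem Bf.delta (h : Bs N H W p r c) (hk : finrank k (LinearMap.ker b) ≤ 17) : α * γ - β ^ 2 ≠ 0 := by
  intro hΔ
  have hfin := h.finite
  obtain ⟨g, hg1, hg3⟩ : ∃ g : V →ₗ[k] k, (∀ v, g v = 0 → b v (p 1) = 0) ∧ ∀ v, g v = 0 → b v (r 3) = 0 := by
    by_cases hα : α = 0
    · have hβ : β = 0 := by
        rw [hα, zero_mul, zero_sub, neg_eq_zero] at hΔ
        exact (pow_eq_zero_iff two_ne_zero).1 hΔ
      refine ⟨h.B 3, fun v hv => ?_, fun v hv => ?_⟩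
      · rw [hb.v_p1 h, hα, hβ, zero_mul, zero_mul, add_zero, neg_zero]
      · rw [hb.v_r3 h, hβ, hv, zero_mul, mul_zero, add_zero, neg_zero]
    · refine ⟨b.flip (p 1), fun v hv => hv, fun v hv => ?_⟩
      have h1 : b v (p 1) = 0 := hv
      rw [hb.v_p1 h, neg_eq_zero] at h1
      rw [hb.v_r3 h, neg_eq_zero]
      have h2 : α * (β * h.A 1 v + γ * h.B 3 v) = 0 := by linear_combination β * h1 + h.B 3 v * hΔ
      exact (mul_eq_zero.1 h2).resolve_left hα
  let f : V →ₗ[k] (Fin 9 → k) := LinearMap.pi ![h.A 0, h.B 0, h.B 1, h.B 2, b.flip (r 0), b.flip (r 1), b.flip (r 2),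
    b.flip (p 0), g]
  have hle : LinearMap.ker f ≤ LinearMap.ker b := by
    intro v hv
    rw [LinearMap.mem_ker] at hv ⊢
    have f8 : g v = 0 := congrFun hv 8
    exact hb.mem_ker h (congrFun hv 0) (congrFun hv 1) (congrFun hv 2) (congrFun hv 3) (congrFun hv 4) (congrFun hv 5)
      (congrFun hv 6) (congrFun hv 7) (hg1 v f8) (hg3 v f8)
  have h1 := LinearMap.finrank_range_add_finrank_ker f
  have h2 := Submodule.finrank_le (LinearMap.range f)
  rw [finrank_fintype_fun_eq_card, Fintype.card_fin] at h2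
  have h3 := Submodule.finrank_mono hle
  rw [h.finrank] at h1
  omega

/-- the coordinates of the elements of the kernel -/
theorem Bf.ker (h : Bs N H W p r c) (hΔ : α * γ - β ^ 2 ≠ 0) {v : V} (hv : ∀ w, b v w = 0) :
    h.A 0 v = 0 ∧ h.A 1 v = 0 ∧ h.B 0 v = 0 ∧ h.B 1 v = 0 ∧ h.B 2 v = 0 ∧ h.B 3 v = 0 := by
  have h1 : ∀ x y : k, α * x + β * y = 0 → β * x + γ * y = 0 → x = 0 ∧ y = 0 := by
    intro x y e1 e2
    constructor
    · have h2 : (α * γ - β ^ 2) * x = 0 := by linear_combination γ * e1 - β * e2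
      exact (mul_eq_zero.1 h2).resolve_left hΔ
    · have h2 : (α * γ - β ^ 2) * y = 0 := by linear_combination α * e2 - β * e1
      exact (mul_eq_zero.1 h2).resolve_left hΔ
  have h2 : ∀ y : k, β * y = 0 → γ * y = 0 → y = 0 := by
    intro y e1 e2
    have h2 : (α * γ - β ^ 2) * y = 0 := by linear_combination α * e2 - β * e1
    exact (mul_eq_zero.1 h2).resolve_left hΔ
  have e1 := hv (p 1)
  have e2 := hv (r 3)
  have e3 := hv (p 2)
  have e4 := hv (r 4)
  have e5 := hv (p 3)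
  have e6 := hv (r 5)
  have e7 := hv (p 4)
  have e8 := hv (r 6)
  rw [hb.v_p1 h, neg_eq_zero] at e1
  rw [hb.v_r3 h, neg_eq_zero] at e2
  rw [hb.v_p2 h] at e3
  rw [hb.v_r4 h] at e4
  rw [hb.v_p3 h, neg_eq_zero] at e5
  rw [hb.v_r5 h, neg_eq_zero] at e6
  rw [hb.v_p4 h] at e7
  rw [hb.v_r6 h] at e8
  exact ⟨(h1 _ _ e3 e4).1, (h1 _ _ e1 e2).1, h2 _ e7 e8, h2 _ e5 e6, (h1 _ _ e3 e4).2, (h1 _ _ e1 e2).2⟩

/-- **functionals on the kernel** -/
theorem Bf.uniq (h : Bs N H W p r c) (hΔ : α * γ - β ^ 2 ≠ 0) {f : V →ₗ[k] k}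
    (hN : ∀ v, b v = 0 → f (N v) = 0) (hH : ∀ v, b v = 0 → f (H v) = 4 ^ 4 * f v) :
    ∃ d : k, ∀ v, b v = 0 → f v = d * (α * h.A 3 v + β * h.B 5 v + δ * h.C 1 v) := by
  have hz : ∀ {x : V} {s : ℕ}, b x = 0 → H x = (4 : k) ^ s • x → s % 5 ≠ 4 → f x = 0 := by
    intro x s hx hs h4
    have h1 := hH x hx
    rw [hs, map_smul, smul_eq_mul] at h1
    have h2 : ((4 : k) ^ s - 4 ^ 4) * f x = 0 := by rw [sub_mul, h1, sub_self]
    exact (mul_eq_zero.1 h2).resolve_left (sub_ne_zero.2 (four_ne h4))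
  -- the kernel is graded
  have kp : ∀ n, 5 ≤ n → b (p n) = 0 := fun n hn => LinearMap.ext fun w => by rw [hb.comm, hb.v_p h w hn, LinearMap.zero_apply]
  have kr : ∀ n, 7 ≤ n → b (r n) = 0 := fun n hn => LinearMap.ext fun w => by rw [hb.comm, hb.v_r h w hn, LinearMap.zero_apply]
  have kc : ∀ n, 3 ≤ n → b (c n) = 0 := fun n hn => LinearMap.ext fun w => by rw [hb.comm, hb.v_c h w hn, LinearMap.zero_apply]
  have fp : ∀ n, 5 ≤ n → f (p n) = 0 := by
    intro n hn
    by_cases h5 : n = 5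
    · exact hz (kp n hn) (h.Hp n) (by rw [h5]; norm_num)
    · obtain ⟨m, rfl⟩ : ∃ m, n = m + 1 := ⟨n - 1, by omega⟩
      rw [← h.Np]
      exact hN _ (kp m (by omega))
  have fr : ∀ n, 7 ≤ n → f (r n) = 0 := by
    intro n hn
    by_cases h5 : n = 7
    · exact hz (kr n hn) (h.Hr n) (by rw [h5]; norm_num)
    · obtain ⟨m, rfl⟩ : ∃ m, n = m + 1 := ⟨n - 1, by omega⟩
      rw [← h.Nr]
      exact hN _ (kr m (by omega))
  have fc : ∀ n, 3 ≤ n → f (c n) = 0 := by
    intro n hn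
    by_cases h5 : n = 3
    · exact hz (kc n hn) (h.Hc n) (by rw [h5]; norm_num)
    · obtain ⟨m, rfl⟩ : ∃ m, n = m + 1 := ⟨n - 1, by omega⟩
      rw [← h.Nc]
      exact hN _ (kc m (by omega))
  have hmk : ∀ v, (h.A 0 v = 0 ∧ h.A 1 v = 0 ∧ h.B 0 v = 0 ∧ h.B 1 v = 0 ∧ h.B 2 v = 0 ∧ h.B 3 v = 0) →
      β * h.A 4 v + γ * h.B 6 v + η * h.C 2 v = 0 → β * h.A 3 v + γ * h.B 5 v + η * h.C 1 v = 0 →
      β * h.A 2 v + γ * h.B 4 v + η * h.C 0 v = 0 → α * h.A 2 v + β * h.B 4 v + δ * h.C 0 v = 0 → b v = 0 := by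
    rintro v ⟨a0, a1, b0, b1, b2, b3⟩ e0 e1 e2 e3
    refine hb.mem_ker h a0 b0 b1 b2 ?_ ?_ ?_ ?_ ?_ ?_
    · rw [hb.v_r0 h, e0]
    · rw [hb.v_r1 h, e1, neg_zero]
    · rw [hb.v_r2 h, e2]
    · rw [hb.v_p0 h, e3]
    · rw [hb.v_p1 h, a1, b3, mul_zero, mul_zero, add_zero, neg_zero]
    · rw [hb.v_r3 h, a1, b3, mul_zero, mul_zero, add_zero, neg_zero]
  -- the test vector
  let wv : V := γ • p 3 - β • r 5
  refine ⟨f wv * (α * γ - β ^ 2)⁻¹, fun v hv => ?_⟩
  have hv' : ∀ w, b v w = 0 := fun w => by rw [hv, LinearMap.zero_apply]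
  obtain ⟨a0, a1, b0, b1, b2, b3⟩ := hb.ker h hΔ hv'
  have e0 := hv' (r 0)
  have e1 := hv' (r 1)
  have e2 := hv' (r 2)
  have e3 := hv' (p 0)
  rw [hb.v_r0 h] at e0
  rw [hb.v_r1 h, neg_eq_zero] at e1
  rw [hb.v_r2 h] at e2
  rw [hb.v_p0 h] at e3
  -- weight 0
  let x0 : V := h.A 4 v • p 4 + h.B 6 v • r 6 + h.C 2 v • c 2
  have k0 : b x0 = 0 := by
    refine hmk x0 ?_ ?_ ?_ ?_ ?_ <;>
      simp [x0, h.A_p, h.A_r, h.A_c, h.B_p, h.B_r, h.B_c, h.C_p, h.C_r, h.C_c]
    exact e0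
  have f0 : f x0 = 0 := by
    refine hz (s := 0) k0 ?_ (by norm_num)
    simp only [x0, map_add, map_smul, h.Hp, h.Hr, h.Hc]
    have h5 : (4 : k) ^ 5 = 1 := four_five
    have h10 : (4 : k) ^ 10 = 1 := by rw [show 10 = 5 + 5 by norm_num, pow_add, h5, one_mul]
    rw [show 4 + 1 = 5 by norm_num, show 6 + 4 = 10 by norm_num, h5, h10, pow_zero, one_smul,
      one_smul, one_smul, one_smul]
  -- weight -4
  let x2 : V := h.A 2 v • p 2 + h.B 4 v • r 4 + h.C 0 v • c 0
  have k2 : b x2 = 0 := by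
    refine hmk x2 ?_ ?_ ?_ ?_ ?_ <;>
      simp [x2, h.A_p, h.A_r, h.A_c, h.B_p, h.B_r, h.B_c, h.C_p, h.C_r, h.C_c]
    · exact e2
    · exact e3
  have f2 : f x2 = 0 := by
    refine hz (s := 3) k2 ?_ (by norm_num)
    simp only [x2, map_add, map_smul, h.Hp, h.Hr, h.Hc]
    rw [show 4 + 4 = 3 + 5 by norm_num, four_add, smul_add, smul_add, smul_comm, smul_comm (h.B 4 v), smul_comm (h.C 0 v)]
  -- weight -2
  let x1 : V := h.A 3 v • p 3 + h.B 5 v • r 5 + h.C 1 v • c 1
  have f1 : f x1 = f wv * (α * γ - β ^ 2)⁻¹ * (α * h.A 3 v + β * h.B 5 v + δ * h.C 1 v) := by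
    set L := α * h.A 3 v + β * h.B 5 v + δ * h.C 1 v with hL
    set D := (α * γ - β ^ 2)⁻¹ with hD
    have hDD : D * (α * γ - β ^ 2) = 1 := inv_mul_cancel₀ hΔ
    -- `x1 - (L / Δ) w = N y`
    let y : V := (h.A 3 v - D * L * γ) • p 2 + (h.B 5 v + D * L * β) • r 4 + h.C 1 v • c 0
    have ky : b y = 0 := by
      refine hmk y ?_ ?_ ?_ ?_ ?_ <;>
        simp [y, h.A_p, h.A_r, h.A_c, h.B_p, h.B_r, h.B_c, h.C_p, h.C_r, h.C_c]
      · linear_combination e1
      · linear_combination (-L) * hDD - hL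
    have hy : f (N y) = 0 := hN y ky
    have hNy : N y = x1 - (D * L) • wv := by
      simp only [y, x1, wv, map_add, map_sub, map_smul, h.Np, h.Nr, h.Nc, smul_sub, smul_smul, sub_smul, add_smul]
      abel
    rw [hNy, map_sub, map_smul, smul_eq_mul, sub_eq_zero] at hy
    rw [hy]
    ring
  rw [h.sum f v]
  rw [Finset.sum_range_succ, Finset.sum_range_succ, Finset.sum_range_succ, Finset.sum_range_succ, Finset.sum_range_succ,
    Finset.sum_range_succ, Finset.sum_range_succ, Finset.sum_range_succ, Finset.sum_range_succ, Finset.sum_range_succ,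
    Finset.sum_range_one]
  simp only [Finset.sum_range_succ, Finset.sum_range_zero]
  rw [fp 5 (by norm_num), fp 6 (by norm_num), fp 7 (by norm_num), fp 8 (by norm_num), fp 9 (by norm_num),
    fp 10 (by norm_num), fr 7 (by norm_num), fr 8 (by norm_num), fr 9 (by norm_num), fr 10 (by norm_num),
    fc 3 (by norm_num), fc 4 (by norm_num), a0, a1, b0, b1, b2, b3]
  simp only [x0, x1, x2, map_add, map_smul, smul_eq_mul] at f0 f1 f2
  simp only [smul_eq_mul, mul_zero, zero_mul, add_zero, zero_add]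
  linear_combination f0 + f1 + f2

end zero

end Cfsg.Agent.R2.H14.E11
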