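import Cfsg.Agent.R2.H14.E11.Skew

/-!
# S5749, S5750, box E11: `V` and `V'` (helper14)

* `Cx.link` : the derivations constructed from `V` and from `V'` agree up to a scalar;
* `Cx.good` : uniqueness;
* `exists_form` : the forms `tf v (φ w)`.
-/

set_option autoImplicit false
set_option linter.unusedSectionVars false
set_option linter.unusedSimpArgs false

namespace Cfsg.Agent.R2.H14.E11

open Module Matrix Cfsg.Lie Cfsg.Agent.H943.SL2Rel
open Cfsg.Agent.H952.F4 (sh cr tf)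
open Cfsg.Agent.H952.F4.Jord
open Cfsg.Agent.R2.GEO (crB crB_apply tfB tfB_apply kr finrank_kr_white)
open Cfsg.Agent.R2.H9.E6 (Dop Dop_apply tf_zero_left tf_zero_right cr_zero_left cr_zero_right tf_Dop Dop_add_left
  Dop_add_right Dop_smul_left Dop_smul_right Dop_cr tf_sh_Dop' Dop_polar tf_sub_left tf_neg_left)

universe v w

variable {k : Type v} [Field k] [CharP k 11] {K : Type w} [Field K] [CharP K 11]
variable {ι : K →+* k} {ρ ρ' : Representation k (SpecialLinearGroup (Fin 2) K) (I27 → k)}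
variable {F G : (I27 → k) →ₗ[k] (I27 → k)} {p r c : ℕ → I27 → k}
variable {F' G' : (I27 → k) →ₗ[k] (I27 → k)} {p' r' c' : ℕ → I27 → k}

/-- vectors fixed by the unipotent element -/
theorem Nr_fix {E : Type*} [AddCommGroup E] [Module k E] {ρ : Representation k (SpecialLinearGroup (Fin 2) K) E} {v : E}
    (hv : ∀ n : ℕ, ρ (u (n : K)) v = v) : Nr ρ v = 0 := by
  unfold Nr
  rw [Nop_apply]
  have h1 : ∀ n ∈ Finset.range 11, ((n : k) ^ 9) • (fun n : ℕ => ρ (u (n : K))) n v = ((n : k) ^ 9) • v := fun n _ => by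
    show ((n : k) ^ 9) • ρ (u (n : K)) v = _
    rw [hv]
  rw [Finset.sum_congr rfl h1, ← Finset.sum_smul, psum 9 (by decide), zero_smul, neg_zero]

/-- the forms `tf v (φ w)` -/
theorem form_inv (hP : Pr ρ ρ') {φ : (I27 → k) →ₗ[k] (I27 → k)} (hφ : ∀ g v, φ (ρ g v) = ρ' g (φ v)) (g v w) :
    ((tfB k).compl₂ φ) (ρ g v) (ρ g w) = ((tfB k).compl₂ φ) v w := by
  rw [LinearMap.compl₂_apply, LinearMap.compl₂_apply, tfB_apply, tfB_apply, hφ, hP.pt]

/-- invariant forms have the standard shape -/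
theorem Ms.sf {E : Type*} [AddCommGroup E] [Module k E] {ρ : Representation k (SpecialLinearGroup (Fin 2) K) E}
    {F G : E →ₗ[k] E} {p r c : ℕ → E} (hM : Ms ι ρ F G p r c) {B : E →ₗ[k] E →ₗ[k] k}
    (hB : ∀ g v w, B (ρ g v) (ρ g w) = B v w) : Sf B p r c (B (p 0) (r 10)) (B (p 0) (p 8)) (B (c 0) (c 4)) :=
  hM.bs.sf (fun v w => Nr_skew B (fun _ _ v w => hB _ v w) v w) (fun v w => hB _ v w) fun v w => hB _ v w

/-- **the pairing of `V` and `V'`** -/
theorem pairing (hP : Pr ρ ρ') (hM : Ms ι ρ F G p r c) (hM' : Ms ι ρ' F' G' p' r' c') : ∃ s₁ s₂ s₃ : k, s₁ ≠ 0 ∧ s₃ ≠ 0 ∧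
    ∃ φ : (I27 → k) →ₗ[k] (I27 → k), (∀ n, φ (p n) = p' n) ∧ (∀ n, φ (r n) = r' n) ∧ (∀ n, φ (c n) = c' n) ∧
      Sf ((tfB k).compl₂ φ) p r c s₁ s₂ s₃ := by
  obtain ⟨φ, h1, h2, h3, h4, h5⟩ := hM.exists_hom hM' 1 0 1
  have e1 : ∀ n, φ (p n) = p' n := by
    intro n
    rcases n with _ | n
    · rw [h2]; simp
    · rw [h3 _ (by omega)]; simp
  have e2 : ∀ n, φ (r n) = r' n := fun n => by rw [h4, one_smul]
  have e3 : ∀ n, φ (c n) = c' n := fun n => by rw [h5, one_smul]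
  have hB := hM.sf (form_inv hP h1)
  have hz : ∀ x : I27 → k, (∀ n, tf x (p' n) = 0) → (∀ n, tf x (r' n) = 0) → (∀ n, tf x (c' n) = 0) → x = 0 := by
    intro x a1 a2 a3
    have h6 : tfB k x = 0 := hM'.bs.ext (fun n => a1 n) (fun n => a2 n) fun n => a3 n
    exact tf_nondeg fun y => by rw [← tfB_apply, h6, LinearMap.zero_apply]
  refine ⟨_, _, _, ?_, ?_, φ, e1, e2, e3, hB⟩
  · intro h0
    apply hM.p_ne
    refine hz _ (fun n => ?_) (fun n => ?_) fun n => ?_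
    · have := hB.pp 10 n
      rw [if_neg (by omega), LinearMap.compl₂_apply, e1] at this
      exact this
    · have := hB.pr 10 n
      rw [h0, mul_zero, ite_self, LinearMap.compl₂_apply, e2] at this
      exact this
    · have := hB.pc 10 n
      rw [LinearMap.compl₂_apply, e3] at this
      exact this
  · intro h0
    have hc4 : c 4 ≠ 0 := by
      intro h0
      have h1 := hM.bs.C_c 4 4
      rw [h0, map_zero] at h1
      simp at h1
    apply hc4
    refine hz _ (fun n => ?_) (fun n => ?_) fun n => ?_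
    · have := hB.cp 4 n
      rw [LinearMap.compl₂_apply, e1] at this
      exact this
    · have := hB.cr 4 n
      rw [LinearMap.compl₂_apply, e2] at this
      exact this
    · have := hB.cc 4 n
      rw [h0, mul_zero, ite_self, LinearMap.compl₂_apply, e3] at this
      exact this

variable {α β γ δ η : k} {y : I27 → k} {α' β' γ' δ' η' : k} {y' : I27 → k}

/-- **uniqueness, second form** -/
theorem Cx.good (X : Cx ι ρ ρ' F G p r c α β γ δ η y) {b' : I27 → k}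
    (hu : ∀ n : ℕ, n < 11 → ∃ v0, ρ' (u (n : K)) b' = b' + cr (p 10) v0) (hH : ρ' (h tw) b' = (4 : k) • b') :
    ∃ d : k, ∀ v, Dop (p 10) b' v = d • Dop (p 10) y v := by
  refine X.uniq (fun v => ?_) fun v => ?_
  · refine Nr_comm (s := RingHom.id k) (Dop (p 10) b') (fun n hn v => ?_) v
    obtain ⟨v0, hv0⟩ := hu n hn
    rw [X.hP.dop, X.hM.up, hv0, Dop_add_right, Dop_cr (X.hM.white X.hP), add_zero]
  · rw [X.hP.dop, X.hM.Hp, hH, Dop_smul_left, Dop_smul_right, smul_smul, ← sq]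

/-- **the two derivations agree** -/
theorem Cx.link (X : Cx ι ρ ρ' F G p r c α β γ δ η y) (X' : Cx ι ρ' ρ F' G' p' r' c' α' β' γ' δ' η' y') :
    ∃ d : k, ∀ v, Dop y' (p' 10) v = d • Dop (p 10) y v := by
  have h := X.hM.bs
  obtain ⟨s₁, s₂, s₃, hs₁, -, φ, e1, e2, e3, hB⟩ := pairing X.hP X.hM X'.hM
  -- `y'` lies in the kernel
  have hyH : ρ (Cfsg.Agent.H943.SL2Rel.h tw) y' = (4 : k) ^ 1 • y' := by rw [X'.yH, pow_one]
  have hA0 : h.A 0 y' = 0 := by
    have h1 := h.sum2 ((tfB k).compl₂ φ) y' (r 10)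
    rw [LinearMap.compl₂_apply, e2, tfB_apply, X'.yr 10 (by norm_num)] at h1
    simp [Finset.sum_range_succ, hB.pr, hB.rr, hB.cr] at h1
    exact h1.resolve_right hs₁
  have hB2 : h.B 2 y' = 0 := by
    have h1 := h.sum2 ((tfB k).compl₂ φ) y' (p 8)
    rw [LinearMap.compl₂_apply, e1, tfB_apply, X'.yp 8 (by norm_num)] at h1
    simp [Finset.sum_range_succ, hB.pp, hB.rp, hB.cp, hA0] at h1
    exact h1.resolve_right hs₁
  have hk : bF (p 10) y' = 0 := by
    refine X.hb.mem_ker h hA0 (h.B_eig hyH (by norm_num)) (h.B_eig hyH (by norm_num)) hB2 ?_ ?_ ?_ ?_ ?_ ?_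
    · rw [X.hb.v_r0 h, h.A_eig hyH (by norm_num), h.B_eig hyH (by norm_num), h.C_eig hyH (by norm_num)]
      ring
    · rw [X.hb.v_r1 h, h.A_eig hyH (by norm_num), h.B_eig hyH (by norm_num), h.C_eig hyH (by norm_num)]
      ring
    · rw [X.hb.v_r2 h, h.A_eig hyH (by norm_num), h.B_eig hyH (by norm_num), h.C_eig hyH (by norm_num)]
      ring
    · rw [X.hb.v_p0 h, h.A_eig hyH (by norm_num), h.B_eig hyH (by norm_num), h.C_eig hyH (by norm_num)]
      ring
    · rw [X.hb.v_p1 h, h.A_eig hyH (by norm_num), h.B_eig hyH (by norm_num)]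
      ring
    · rw [X.hb.v_r3 h, h.A_eig hyH (by norm_num), h.B_eig hyH (by norm_num)]
      ring
  rw [bF_zero] at hk
  -- `p' 10` is a product
  have hp' : ∀ v, tf (p' 10) v = s₁ * h.B 0 v := by
    intro v
    have h1 := h.sum2 ((tfB k).compl₂ φ) v (p 10)
    rw [LinearMap.compl₂_apply, e1, tfB_apply, tf_comm] at h1
    rw [h1]
    simp [Finset.sum_range_succ, hB.pp, hB.rp, hB.cp]
    ring
  obtain ⟨v0, hv0⟩ : ∃ v0, p' 10 = cr (p 10) v0 := by
    have key : ∀ v0, (∀ v, bF (p 10) v v0 = s₁ * h.B 0 v) → p' 10 = cr (p 10) v0 := by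
      intro v0 hv
      refine sub_eq_zero.1 (tf_nondeg fun v => ?_)
      rw [tf_sub_left, hp', ← hv, bF_comm, bF_apply, sub_self]
    by_cases hβ : β = 0
    · have hγ : γ ≠ 0 := by
        rintro rfl
        apply X.hΔ
        rw [hβ]
        ring
      refine ⟨(s₁ * γ⁻¹) • r 6, key _ fun v => ?_⟩
      rw [map_smul, X.hb.v_r6 h, smul_eq_mul]
      field_simp
    · refine ⟨(s₁ * β⁻¹) • p 4, key _ fun v => ?_⟩
      rw [map_smul, X.hb.v_p4 h, smul_eq_mul]
      field_simp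
  have hD : ∀ v, Dop y' (p' 10) v = Dop (p 10) ((-1 : k) • cr y' v0) v := by
    intro v
    have h1 := Dop_polar y' (p 10) v0 v
    rw [← hv0, cr_comm y' (p 10), hk, tf_zero_left, zero_smul, neg_zero] at h1
    have h2 : Dop v0 (0 : I27 → k) v = 0 := by rw [Dop_apply, tf_zero_left, zero_smul, cr_zero_left, sub_zero]
    rw [h2, add_zero] at h1
    rw [Dop_smul_right, neg_one_smul]
    exact eq_neg_of_add_eq_zero_left h1
  have htr : ∀ v w, tf (Dop y' (p' 10) v) w = tf v (Dop (p' 10) y' w) := fun v w => tf_Dop _ _ _ _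
  obtain ⟨d, hd⟩ := X.uniq (b' := (-1 : k) • cr y' v0) (fun v => by
    rw [← hD, ← hD]
    refine sub_eq_zero.1 (tf_nondeg fun w => ?_)
    rw [tf_sub_left, htr, X.hP.tf_N, X.hP.tf_N, htr, X'.xN, sub_self]) (fun v => by
    rw [← hD, ← hD, X.hP.dop, X'.yH, X'.hM.Hp, Dop_smul_left, Dop_smul_right, smul_smul, ← sq])
  exact ⟨d, fun v => by rw [hD, hd]⟩

/-- **the invariant form for which `x` is skew** -/
theorem Cx.exists_form (X : Cx ι ρ ρ' F G p r c α β γ δ η y) (hM' : Ms ι ρ' F' G' p' r' c') {p1 p2 q1 q2 q3 s : k}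
    (hx : Xf (Dop (p 10) y) p r c p1 p2 q1 q2 q3 s) (hq1 : q1 ≠ 0) (hq3 : q3 ≠ 0) :
    ∃ φ : (I27 → k) →ₗ[k] (I27 → k), φ ≠ 0 ∧ (∀ g v, φ (ρ g v) = ρ' g (φ v)) ∧
      ∀ v w, tf (Dop (p 10) y v) (φ w) + tf v (φ (Dop (p 10) y w)) = 0 := by
  have e11 := e11 k
  obtain ⟨s₁, s₂, s₃, hs₁, hs₃, φ0, e1, e2, e3, hB0⟩ := pairing X.hP X.hM hM'
  -- the coefficients
  obtain ⟨b, hb⟩ : ∃ b : k, 6 * b * s₁ = (p1 - q2) * s₁ * q1⁻¹ - s₂ := by
    refine ⟨2 * ((p1 - q2) * s₁ * q1⁻¹ - s₂) * s₁⁻¹, ?_⟩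
    have h1 : s₁ * s₁⁻¹ = 1 := mul_inv_cancel₀ hs₁
    generalize (p1 - q2) * s₁ * q1⁻¹ - s₂ = z
    linear_combination (12 * z) * h1 + z * e11
  obtain ⟨φ, h1, h2, h3, h4, h5⟩ := X.hM.exists_hom hM' 1 b (s * s₁ * q3⁻¹ * s₃⁻¹)
  have hB := X.hM.sf (form_inv X.hP h1)
  have c1 : ((tfB k).compl₂ φ) (p 0) (r 10) = s₁ := by
    have := hB0.pr 0 10
    rw [if_pos (by norm_num), LinearMap.compl₂_apply, e2, pow_zero, one_mul] at this
    rw [LinearMap.compl₂_apply, h4, one_smul, this]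
  have c2 : ((tfB k).compl₂ φ) (p 0) (p 8) = s₂ + 6 * b * s₁ := by
    have := hB0.pr 0 10
    rw [if_pos (by norm_num), LinearMap.compl₂_apply, e2, pow_zero, one_mul] at this
    have h6 := hB0.pp 0 8
    rw [if_pos (by norm_num), LinearMap.compl₂_apply, e1, pow_zero, one_mul] at h6
    rw [LinearMap.compl₂_apply, h3 8 (by norm_num), map_add, one_smul, map_smul, this, h6, smul_eq_mul]
  have c3 : ((tfB k).compl₂ φ) (c 0) (c 4) = s * s₁ * q3⁻¹ := by
    have := hB0.cc 0 4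
    rw [if_pos (by norm_num), LinearMap.compl₂_apply, e3, pow_zero, one_mul] at this
    rw [LinearMap.compl₂_apply, h5, map_smul, this, smul_eq_mul]
    field_simp
  rw [c1, c2, c3, hb] at hB
  refine ⟨φ, ?_, h1, ?_⟩
  · rintro rfl
    apply hs₁
    rw [← c1, LinearMap.compl₂_apply, LinearMap.zero_apply, map_zero]
  · intro v w
    have h6 := hB.skew_two X.hM.bs hx (by field_simp; ring) (by field_simp) v w
    rw [LinearMap.compl₂_apply, LinearMap.compl₂_apply] at h6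
    exact h6

/-- **uniqueness of the form** -/
theorem Cx.form_uniq (X : Cx ι ρ ρ' F G p r c α β γ δ η y) {p1 p2 q1 q2 q3 s : k}
    (hx : Xf (Dop (p 10) y) p r c p1 p2 q1 q2 q3 s) (hq1 : q1 ≠ 0) (hq3 : q3 ≠ 0) {B B' : (I27 → k) →ₗ[k] (I27 → k) →ₗ[k] k}
    (hB0 : B ≠ 0) (hB : ∀ g v w, B (ρ g v) (ρ g w) = B v w) (hB' : ∀ g v w, B' (ρ g v) (ρ g w) = B' v w)
    (hs : ∀ v w, B (Dop (p 10) y v) w + B v (Dop (p 10) y w) = 0)
    (hs' : ∀ v w, B' (Dop (p 10) y v) w + B' v (Dop (p 10) y w) = 0) : ∃ μ : k, B' = μ • B := by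
  have key : ∀ B : (I27 → k) →ₗ[k] (I27 → k) →ₗ[k] k, (∀ g v w, B (ρ g v) (ρ g w) = B v w) →
      (∀ v w, B (Dop (p 10) y v) w + B v (Dop (p 10) y w) = 0) → B (p 0) (r 10) = 0 → B = 0 := by
    intro B hB hs h0
    have h1 := X.hM.sf hB
    obtain ⟨h2, h3⟩ := h1.skew_one hx hs
    rw [h0, mul_zero, mul_zero, add_zero] at h2
    rw [h0, mul_zero] at h3
    rw [h0, (mul_eq_zero.1 h2).resolve_left hq1, (mul_eq_zero.1 h3).resolve_left hq3] at h1
    exact h1.zero X.hM.bs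
  have hne : B (p 0) (r 10) ≠ 0 := fun h0 => hB0 (key B hB hs h0)
  refine ⟨B' (p 0) (r 10) * (B (p 0) (r 10))⁻¹, ?_⟩
  rw [← sub_eq_zero]
  refine key _ (fun g v w => ?_) (fun v w => ?_) ?_
  · rw [LinearMap.sub_apply, LinearMap.sub_apply, LinearMap.sub_apply, LinearMap.sub_apply, LinearMap.smul_apply,
      LinearMap.smul_apply, LinearMap.smul_apply, LinearMap.smul_apply, hB, hB']
  · simp only [LinearMap.sub_apply, LinearMap.smul_apply, smul_eq_mul]
    linear_combination hs' v w - (B' (p 0) (r 10) * (B (p 0) (r 10))⁻¹) * hs v w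
  · simp only [LinearMap.sub_apply, LinearMap.smul_apply, smul_eq_mul]
    rw [mul_assoc, inv_mul_cancel₀ hne, mul_one, sub_self]

end Cfsg.Agent.R2.H14.E11
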