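import Cfsg.Agent.R2.H14.E11.Ker
import Cfsg.Agent.R2.H9.E6.DOp
import Cfsg.Agent.R2.GEO.Main
import Cfsg.Agent.H943.SL2Rel

/-!
# S5749, S5750, box E11: the two 27-dimensional modules (helper14)

`Pr ρ ρ'` : a group acting on `V` and `V'`, preserving the pairing and the products. `Nr ρ`; `Ms ι ρ F G p r c`.
`Ms.bf` : the form `T(v₁₂, ·, ·)`, `v₁₂ = p 10`; `Ms.white`, `Ms.theta`, `Ms.delta`.
-/

set_option autoImplicit false
set_option linter.unusedSectionVars false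

namespace Cfsg.Agent.R2.H14.E11

open Module Matrix Cfsg.Lie Cfsg.Agent.H943.SL2Rel
open Cfsg.Agent.H952.F4 (sh cr tf)
open Cfsg.Agent.H952.F4.Jord
open Cfsg.Agent.R2.GEO (crB crB_apply tfB tfB_apply kr finrank_kr_white)
open Cfsg.Agent.R2.H9.E6 (Dop Dop_apply tf_zero_left tf_zero_right cr_zero_left cr_zero_right tf_Dop Dop_add_left
  Dop_add_right Dop_smul_left Dop_smul_right Dop_cr)

universe v w

variable {k : Type v} [Field k]

/-- the pair of representations -/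
structure Pr {G : Type*} [Group G] (ρ ρ' : Representation k G (I27 → k)) : Prop where
  pt : ∀ g x y, tf (ρ g x) (ρ' g y) = tf x y
  pc : ∀ g x y, cr (ρ g x) (ρ g y) = ρ' g (cr x y)
  pc' : ∀ g x y, cr (ρ' g x) (ρ' g y) = ρ g (cr x y)

section pr

variable {G : Type*} [Group G] {ρ ρ' : Representation k G (I27 → k)}

theorem Pr.swap (h : Pr ρ ρ') : Pr ρ' ρ := ⟨fun g x y => by rw [tf_comm, h.pt, tf_comm], h.pc', h.pc⟩

theorem Pr.dop (h : Pr ρ ρ') (g : G) (p b x : I27 → k) : ρ g (Dop p b x) = Dop (ρ g p) (ρ' g b) (ρ g x) := by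
  rw [Dop_apply, Dop_apply, map_sub, map_smul, tf_comm (ρ' g b), h.pt, tf_comm x, h.pc, h.pc']

theorem rho_mul {E : Type*} [AddCommGroup E] [Module k E] (ρ : Representation k G E) (g h : G) (x : E) :
    ρ (g * h) x = ρ g (ρ h x) := by
  rw [map_mul, Module.End.mul_apply]

theorem rho_inv {E : Type*} [AddCommGroup E] [Module k E] (ρ : Representation k G E) (g : G) (x : E) :
    ρ g⁻¹ (ρ g x) = x := by
  rw [← rho_mul, inv_mul_cancel, map_one, Module.End.one_apply]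

theorem rho_inv' {E : Type*} [AddCommGroup E] [Module k E] (ρ : Representation k G E) (g : G) (x : E) :
    ρ g (ρ g⁻¹ x) = x := by
  rw [← rho_mul, mul_inv_cancel, map_one, Module.End.one_apply]

/-- every functional is given by a vector -/
theorem exists_tf (f : (I27 → k) →ₗ[k] k) : ∃ y, ∀ x, tf y x = f x := by
  have hinj : Function.Injective (tfB k : (I27 → k) →ₗ[k] ((I27 → k) →ₗ[k] k)) := by
    rw [← LinearMap.ker_eq_bot, LinearMap.ker_eq_bot']
    intro x hx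
    exact tf_nondeg fun y => by rw [← tfB_apply, hx, LinearMap.zero_apply]
  have hsurj := (LinearMap.injective_iff_surjective_of_finrank_eq_finrank
    (f := (tfB k : (I27 → k) →ₗ[k] ((I27 → k) →ₗ[k] k))) (Subspace.dual_finrank_eq (K := k) (V := I27 → k)).symm).1 hinj
  obtain ⟨y, hy⟩ := hsurj f
  exact ⟨y, fun x => by rw [← tfB_apply, hy]⟩

/-- functionals vanishing on the kernel of `cr P` -/
theorem exists_cr {P z : I27 → k} (h : ∀ v, cr P v = 0 → tf z v = 0) : ∃ v0, z = cr P v0 := by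
  have h1 : (tfB k z : (I27 → k) →ₗ[k] k) ∈ (LinearMap.ker (crB k P)).dualAnnihilator := by
    rw [Submodule.mem_dualAnnihilator]
    intro v hv
    exact h v hv
  rw [← LinearMap.range_dualMap_eq_dualAnnihilator_ker] at h1
  obtain ⟨φ, hφ⟩ := h1
  obtain ⟨v0, hv0⟩ := exists_tf φ
  refine ⟨v0, ?_⟩
  have h2 : ∀ v, tf (z - cr P v0) v = 0 := by
    intro v
    rw [sub_eq_add_neg, tf_add_left, ← neg_one_smul k (cr P v0), tf_smul_left, cr_comm, tf_cr, hv0]
    have h3 : φ (cr P v) = tf z v := by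
      rw [← tfB_apply, ← hφ]
      rfl
    rw [h3]
    ring
  exact sub_eq_zero.1 (tf_nondeg h2)

/-- `T(P, ·, ·)` -/
noncomputable def bF (P : I27 → k) : (I27 → k) →ₗ[k] (I27 → k) →ₗ[k] k := (tfB k).comp (crB k P)

theorem bF_apply (P x y : I27 → k) : bF P x y = tf (cr P x) y := rfl

theorem bF_comm (P x y : I27 → k) : bF P x y = bF P y x := by
  rw [bF_apply, bF_apply, tf_cr, cr_comm x y, ← tf_cr]

theorem bF_zero {P v : I27 → k} : bF P v = 0 ↔ cr P v = 0 := by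
  constructor
  · intro h
    exact tf_nondeg fun y => by rw [← bF_apply, h, LinearMap.zero_apply]
  · intro h
    refine LinearMap.ext fun y => ?_
    rw [bF_apply, h, tf_zero_left, LinearMap.zero_apply]

theorem ker_bF (P : I27 → k) : LinearMap.ker (bF P) = kr P := by
  ext v
  rw [LinearMap.mem_ker, bF_zero]
  rfl

end pr

variable [CharP k 11] {K : Type w} [Field K] [CharP K 11]

/-- the element 2 -/
def tw : Kˣ := Units.mk0 2 two_ne

/-- the logarithm of the unipotent element -/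
noncomputable def Nr {E : Type*} [AddCommGroup E] [Module k E] (ρ : Representation k (SpecialLinearGroup (Fin 2) K) E) :
    E →ₗ[k] E := Nop fun n => ρ (u (n : K))

theorem u_u {E : Type*} [AddCommGroup E] [Module k E] (ρ : Representation k (SpecialLinearGroup (Fin 2) K) E) {n : ℕ}
    (hn : n < 11) (v : E) : ρ (u (n : K)) (ρ (u (((11 - n) % 11 : ℕ) : K)) v) = v := by
  rw [← rho_mul, ← u_add, ← Nat.cast_add]
  have h1 : ((n + (11 - n) % 11 : ℕ) : K) = 0 := by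
    rw [CharP.cast_eq_zero_iff K 11]
    omega
  rw [h1, u_zero, map_one, Module.End.one_apply]

theorem Nr_comm {E E₂ : Type*} [AddCommGroup E] [Module k E] [AddCommGroup E₂] [Module k E₂]
    {ρ : Representation k (SpecialLinearGroup (Fin 2) K) E} {ρ₂ : Representation k (SpecialLinearGroup (Fin 2) K) E₂}
    {s : k →+* k} (f : E →ₛₗ[s] E₂) (h : ∀ n : ℕ, n < 11 → ∀ v, f (ρ (u (n : K)) v) = ρ₂ (u (n : K)) (f v)) (v : E) :
    f (Nr ρ v) = Nr ρ₂ (f v) := Nop_comm f h v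

theorem Nr_skew {E E₂ : Type*} [AddCommGroup E] [Module k E] [AddCommGroup E₂] [Module k E₂]
    {ρ : Representation k (SpecialLinearGroup (Fin 2) K) E} {ρ₂ : Representation k (SpecialLinearGroup (Fin 2) K) E₂}
    (f : E →ₗ[k] E₂ →ₗ[k] k) (h : ∀ n : ℕ, n < 11 → ∀ v w, f (ρ (u (n : K)) v) (ρ₂ (u (n : K)) w) = f v w) (v : E) (w : E₂) :
    f (Nr ρ v) w = -f v (Nr ρ₂ w) := Nop_skew f h (fun _ hn v => u_u ρ₂ hn v) v w

/-- the structure of the module under `SL(2, K)` -/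
structure Ms {E : Type*} [AddCommGroup E] [Module k E] (ι : K →+* k)
    (ρ : Representation k (SpecialLinearGroup (Fin 2) K) E) (F G : E →ₗ[k] E) (p r c : ℕ → E) : Prop where
  bs : Bs (Nr ρ) (ρ (h tw)) (ρ Cfsg.Agent.H943.SL2Rel.w) p r c
  u : ∀ t v, ρ (u t) v = ∑ j ∈ Finset.range 11, (ι t ^ j * ((j.factorial : k))⁻¹) • (Nr ρ ^ j) v +
    (ι t ^ 11 - ι t) • F v + (ι t ^ 12 - ι t ^ 2) • G v
  Fp : ∀ n, F (p n) = 0
  Fr0 : F (r 0) = (10 : k) • p 9
  Fr1 : F (r 1) = (10 : k) • p 10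
  Fr : ∀ n, 2 ≤ n → F (r n) = 0
  Fc : ∀ n, F (c n) = 0
  Gp : ∀ n, G (p n) = 0
  Gr0 : G (r 0) = (10 : k) • p 10
  Gr : ∀ n, 1 ≤ n → G (r n) = 0
  Gc : ∀ n, G (c n) = 0

/-- vectors fixed by the unipotent group -/
theorem Ms.ufix {E : Type*} [AddCommGroup E] [Module k E] {ι : K →+* k}
    {ρ : Representation k (SpecialLinearGroup (Fin 2) K) E} {F G : E →ₗ[k] E} {p r c : ℕ → E} (hM : Ms ι ρ F G p r c)
    {v : E} (hN : Nr ρ v = 0) (hF : F v = 0) (hG : G v = 0) (t : K) : ρ (Cfsg.Agent.H943.SL2Rel.u t) v = v := by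
  rw [hM.u, hF, hG, smul_zero, smul_zero, add_zero, add_zero, Finset.sum_range_succ', Finset.sum_eq_zero, zero_add]
  · simp
  · intro j _
    rw [pow_succ (Nr ρ), Module.End.mul_apply, hN, map_zero, smul_zero]

variable {ι : K →+* k} {ρ ρ' : Representation k (SpecialLinearGroup (Fin 2) K) (I27 → k)}

theorem Pr.tf_N (hP : Pr ρ ρ') (x y : I27 → k) : tf (Nr ρ x) y = -tf x (Nr ρ' y) :=
  Nr_skew (tfB k) (fun _ _ v w => hP.pt _ v w) x y

variable {F G : (I27 → k) →ₗ[k] (I27 → k)} {p r c : ℕ → I27 → k}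

theorem Ms.up (hM : Ms ι ρ F G p r c) (t : K) : ρ (Cfsg.Agent.H943.SL2Rel.u t) (p 10) = p 10 :=
  hM.ufix (by rw [hM.bs.Np, hM.bs.zp]) (hM.Fp _) (hM.Gp _) t

theorem Ms.Hp (hM : Ms ι ρ F G p r c) : ρ (h tw) (p 10) = (4 : k) • p 10 := by
  rw [hM.bs.Hp, show 10 + 1 = 1 + 5 + 5 by norm_num, four_add, four_add, pow_one]

theorem Ms.p_ne (hM : Ms ι ρ F G p r c) : p 10 ≠ 0 := by
  intro h0
  have h1 := hM.bs.A_p 10 10
  rw [h0, map_zero] at h1
  simp at h1

theorem Ms.crN (hP : Pr ρ ρ') (hM : Ms ι ρ F G p r c) (v : I27 → k) : cr (p 10) (Nr ρ v) = Nr ρ' (cr (p 10) v) :=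
  Nr_comm (s := RingHom.id k) (crB k (p 10)) (fun n _ v => by
    rw [crB_apply, crB_apply, ← hP.pc, hM.up]) v

theorem Ms.bN (hP : Pr ρ ρ') (hM : Ms ι ρ F G p r c) (v w : I27 → k) : bF (p 10) (Nr ρ v) w = -bF (p 10) v (Nr ρ w) := by
  rw [bF_apply, hM.crN hP, hP.swap.tf_N, bF_apply]

theorem Ms.crH (hP : Pr ρ ρ') (hM : Ms ι ρ F G p r c) (v : I27 → k) :
    ρ' (h tw) (cr (p 10) v) = (4 : k) • cr (p 10) (ρ (h tw) v) := by
  rw [← hP.pc, hM.Hp, cr_smul_left]

theorem Ms.bH (hP : Pr ρ ρ') (hM : Ms ι ρ F G p r c) (v w : I27 → k) :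
    bF (p 10) (ρ (h tw) v) (ρ (h tw) w) = 4 ^ 4 * bF (p 10) v w := by
  have h1 := hP.swap.pt (h tw) (cr (p 10) v) w
  rw [hM.crH hP, tf_smul_left] at h1
  rw [bF_apply, bF_apply, ← h1, ← mul_assoc, ← pow_succ, four_five, one_mul]

end Cfsg.Agent.R2.H14.E11
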