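import Cfsg.Agent.R2.H14.E11.Sem
import Cfsg.Agent.R2.H9.E6.Fr9

/-!
# S5749, S5750, box E11: the rational element `1 + λ x` (helper14)
-/

set_option autoImplicit false
set_option linter.unusedSectionVars false

namespace Cfsg.Agent.R2.H14.E11

open Cfsg Cfsg.Lie Module Matrix
open Cfsg.Agent.H943.SL2Rel Cfsg.Agent.H943.SL2Mod Cfsg.Agent.H943.RepAdd
open Cfsg.Agent.ChevalleyStructure Cfsg.Agent.ChevalleyStructure.E6Form.Cubic
  Cfsg.Agent.ChevalleyStructure.E6Form.Table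
open Cfsg.Agent.ChevalleyStructure.E6Min.Basic (Zgrp)
open Cfsg.Agent.H952.F4 (sh cr tf)
open Cfsg.Agent.H952.F4.Jord
open Cfsg.Agent.H163.E6 (V V')
open Cfsg.Agent.H163.E6.Act
open Cfsg.Agent.H65.E6Emb
open Cfsg.Agent.H944.E6Tw (J J_apply J_add J_smul J_eq V_J V'_J Gs cr_J tf_J)
open Cfsg.Agent.R2.GEO (crB crB_apply tfB tfB_apply)
open Cfsg.Agent.R2.H9.E6
open Cfsg.Agent.R2.H9.E6.Gr (Cmp cmp_semi cmp_semJ)
open Cfsg.Agent.R2.H14.T (semi semJ semi_apply semJ_apply semi_inj semJ_inj emb_mem_Gs)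

universe u v w

section defs

variable {k : Type u} [Field k] {K : Type w} [Field K] [Fintype K] [DecidableEq K]
variable {F : Type v} [Field F] (f0 : F →+* k) (ψ : ProjectiveSpecialLinearGroup (Fin 2) K →* ↥(Zgrp F))

/-- the action on `V` -/
noncomputable def rv : Representation k (SpecialLinearGroup (Fin 2) K) (I27 → k) := (V k).comp ((emb f0).comp (ψ.comp pq))

/-- the action on `V'` -/
noncomputable def rv' : Representation k (SpecialLinearGroup (Fin 2) K) (I27 → k) :=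
  (V' k).comp ((emb f0).comp (ψ.comp pq))

theorem rv_apply (s : SpecialLinearGroup (Fin 2) K) (v : I27 → k) : rv f0 ψ s v = V k (emb f0 (ψ (pq s))) v := rfl

theorem rv'_apply (s : SpecialLinearGroup (Fin 2) K) (v : I27 → k) : rv' f0 ψ s v = V' k (emb f0 (ψ (pq s))) v := rfl

theorem pr_rv : Pr (rv f0 ψ) (rv' f0 ψ) :=
  ⟨fun _ x y => tf_act _ x y, fun _ x y => cr_act _ x y, fun _ x y => cr_act' _ x y⟩

end defs

variable {k : Type u} [Field k] [IsAlgClosed k] [CharP k 11]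
variable {K : Type w} [Field K] [Fintype K] [DecidableEq K] [CharP K 11]
variable {F : Type v} [Field F] [Fintype F] {f0 : F →+* k}
variable {a b : ℕ} {Γ M : Subgroup ↥(Zgrp F)} {ψ : ProjectiveSpecialLinearGroup (Fin 2) K →* ↥(Zgrp F)}
variable {ι : K →+* k} {Fo Go Fo' Go' : (I27 → k) →ₗ[k] (I27 → k)} {p r c p' r' c' : ℕ → I27 → k}
variable {a₁ b₁ c₁ d₁ e₁ a₂ b₂ c₂ d₂ e₂ : k} {y y' : I27 → k}

/-- the elements `1 + λ x` -/
theorem Cx.exp {ρ ρ' : Representation k (SpecialLinearGroup (Fin 2) K) (I27 → k)}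
    (X : Cx ι ρ ρ' Fo Go p r c a₁ b₁ c₁ d₁ e₁ y) (lam : k) :
    ∃ z : ↥(Zgrp k), (∀ v, V k z v = v + lam • Dop (p 10) y v) ∧ ∀ v, V' k z v = v - lam • Dop y (p 10) v := by
  have i2 : NeZero (2 : k) := ⟨two_ne⟩
  have i3 : NeZero (3 : k) := ⟨three_ne⟩
  obtain ⟨z, h1, h2⟩ := exists_exp (p := p 10) (b := lam • y) (by rw [tf_smul_right, X.tfpy, mul_zero])
    (fun v => by rw [Dop_smul_right, Dop_smul_right, map_smul, X.xx, smul_zero, smul_zero])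
  refine ⟨z, fun v => by rw [h1, Dop_smul_right], fun v => by rw [h2, Dop_smul_left]⟩

/-- **the rational element** -/
theorem exists_z (hC : Cfg 11 a b Γ M ψ) (X : Cx ι (rv f0 ψ) (rv' f0 ψ) Fo Go p r c a₁ b₁ c₁ d₁ e₁ y)
    (X' : Cx ι (rv' f0 ψ) (rv f0 ψ) Fo' Go' p' r' c' a₂ b₂ c₂ d₂ e₂ y') :
    ∃ z0 ∈ Γ, ∃ lam : k, lam ≠ 0 ∧ (∀ v, V k (emb f0 z0) v = v + lam • Dop (p 10) y v) ∧
      ∀ v, V' k (emb f0 z0) v = v - lam • Dop y (p 10) v := by
  have hp : Nat.Prime 11 := by norm_num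
  have hfp : Fact (Nat.Prime 11) := ⟨hp⟩
  have : ExpChar k 11 := ExpChar.prime hp
  obtain ⟨θ, hθ⟩ : ∃ θ : k →+* k, ∀ t, θ t = t ^ (11 ^ b) := ⟨iterateFrobenius k 11 b, fun t => rfl⟩
  have hb1 := hC.hb
  have hpb : 2 ≤ 11 ^ b := by
    calc 2 ≤ 11 := by norm_num
      _ = 11 ^ 1 := (pow_one 11).symm
      _ ≤ 11 ^ b := Nat.pow_le_pow_right hp.pos hb1
  have hsolve : ∀ κ : k, κ ≠ 0 → ∃ lam : k, lam ≠ 0 ∧ θ lam * κ = lam := by
    intro κ hκ
    obtain ⟨lam, hlam⟩ := IsAlgClosed.exists_pow_nat_eq κ⁻¹ (n := 11 ^ b - 1) (by omega)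
    have h0 : lam ≠ 0 := by
      rintro rfl
      rw [zero_pow (by omega)] at hlam
      exact inv_ne_zero hκ hlam.symm
    refine ⟨lam, h0, ?_⟩
    rw [hθ, show 11 ^ b = (11 ^ b - 1) + 1 by omega, pow_succ, hlam, mul_comm κ⁻¹, mul_assoc, inv_mul_cancel₀ hκ, mul_one]
  rcases hC.fam with ⟨hΓ, hF, -⟩ | ⟨hF, f, hf, -, hΓ⟩
  · -- untwisted
    have hcom : ∀ g x, semi θ (V k (emb f0 g) x) = V k (emb f0 g) (semi θ x) := by
      intro g x
      have h1 := V_emb θ (emb f0 g) x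
      rw [emb_frob f0 θ (fun x => by rw [hθ, hF])] at h1
      exact h1.symm
    have hcom' : ∀ g x, semi θ (V' k (emb f0 g) x) = V' k (emb f0 g) (semi θ x) := by
      intro g x
      have h1 := V'_emb θ (emb f0 g) x
      rw [emb_frob f0 θ (fun x => by rw [hθ, hF])] at h1
      exact h1.symm
    obtain ⟨κ, hκ, h2⟩ := sem_x X X au_refl (cmp_semi θ) (semi_inj θ) (fun s v => hcom _ v) (fun s v => hcom' _ v)
    obtain ⟨lam, hlam, h3⟩ := hsolve κ hκ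
    obtain ⟨z, hz, hz'⟩ := X.exp lam
    obtain ⟨z0, rfl⟩ := desc_top f0 θ (fun x => by rw [hθ, hF]) z (fun x => by
      change V k z (semi θ x) = semi θ (V k z x)
      rw [hz, hz, map_add, map_smulₛₗ, h2, smul_smul, h3])
    exact ⟨z0, by rw [hΓ]; trivial, lam, hlam, hz, hz'⟩
  · -- twisted
    have hθf : ∀ t, θ (f0 t) = f0 (f t) := fun t => by rw [hθ, hf, map_pow]
    have hmem : ∀ s, (ψ.comp pq) s ∈ Gs f := by
      intro s
      rw [← hΓ]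
      exact hC.set.hle (hC.set.le ⟨pq s, rfl⟩)
    have hcom : ∀ s x, semJ θ (rv f0 ψ s x) = rv' f0 ψ s (semJ θ x) := fun s x =>
      (V'_J θ ((emb_mem_Gs f0 hθf _).2 (hmem s)) x).symm
    have hcom' : ∀ s x, semJ θ (rv' f0 ψ s x) = rv f0 ψ s (semJ θ x) := fun s x =>
      (V_J θ ((emb_mem_Gs f0 hθf _).2 (hmem s)) x).symm
    obtain ⟨κ, hκ, h2⟩ := sem_x X' X au_refl (cmp_semJ θ) (semJ_inj θ) hcom' hcom
    obtain ⟨κ₂, h3⟩ := X'.link X
    have hκ₂ : κ₂ ≠ 0 := by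
      intro h0
      apply X.x_ne
      refine tf_nondeg fun w => ?_
      rw [tf_Dop, h3, h0, zero_smul, tf_zero_right]
    obtain ⟨lam, hlam, h4⟩ := hsolve (-(θ κ₂ * κ)) (neg_ne_zero.2 (mul_ne_zero ((map_ne_zero θ).2 hκ₂) hκ))
    obtain ⟨z, hz, hz'⟩ := X.exp lam
    obtain ⟨z0, hz0, rfl⟩ := desc_tw f0 (q := 11 ^ b) hF hf θ hθ z (fun x => by
      change V k z (semJ θ x) = semJ θ (V' k z x)
      rw [hz, hz', map_sub, map_smulₛₗ, h3, map_smulₛₗ, h2, smul_smul, smul_smul, sub_eq_add_neg, ← neg_smul]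
      congr 2
      refine h4.symm.trans ?_
      ring)
    exact ⟨z0, by rw [hΓ]; exact hz0, lam, hlam, hz, hz'⟩

end Cfsg.Agent.R2.H14.E11
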