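import Cfsg.Agent.R2.H14.E11.Expl

/-!
# S5749, S5750, box E11: the submodules `C`, `Y`, `Y₁` (helper14)

* `St N H W Z` : `Z` is stable; `Bs.dich` : `r 10 ∈ Z` or `c 4 ∈ Z`;
* `spC`, `spY`, `spL` : the subspaces of dimension 5, 22, 18; `eq_spC`, `eq_spY`, `eq_spL`.
-/

set_option autoImplicit false
set_option linter.unusedSectionVars false
set_option linter.unusedSimpArgs false

namespace Cfsg.Agent.R2.H14.E11

open Module

variable {k : Type*} [Field k] [CharP k 11] {V : Type*} [AddCommGroup V] [Module k V]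

/-- stability -/
structure St (N H W : V →ₗ[k] V) (Z : Submodule k V) : Prop where
  N : ∀ v ∈ Z, N v ∈ Z
  H : ∀ v ∈ Z, H v ∈ Z
  W : ∀ v ∈ Z, W v ∈ Z

variable {N H W : V →ₗ[k] V} {p r c : ℕ → V} {Z : Submodule k V}

theorem St.pow (hZ : St N H W Z) (j : ℕ) {v : V} (hv : v ∈ Z) : (N ^ j) v ∈ Z := by
  induction j generalizing v with
  | zero => exact hv
  | succ j ih =>
    rw [pow_succ, Module.End.mul_apply]
    exact ih (hZ.N _ hv)

theorem St.powH (hZ : St N H W Z) (j : ℕ) {v : V} (hv : v ∈ Z) : (H ^ j) v ∈ Z := by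
  induction j generalizing v with
  | zero => exact hv
  | succ j ih =>
    rw [pow_succ, Module.End.mul_apply]
    exact ih (hZ.H _ hv)

theorem St.chain (hZ : St N H W Z) {q : ℕ → V} (hq : ∀ n, N (q n) = q (n + 1)) {m n : ℕ} (hm : q m ∈ Z) (hmn : m ≤ n) :
    q n ∈ Z := by
  obtain ⟨d, rfl⟩ := Nat.exists_eq_add_of_le hmn
  rw [← pow_chain hq]
  exact hZ.pow d hm

/-- the projection on the eigenspace of `4 ^ s` -/
def pj (H : V →ₗ[k] V) (s : ℕ) : V →ₗ[k] V := ∑ j ∈ Finset.range 5, ((4 : k) ^ (4 * s * j)) • H ^ j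

theorem pj_apply (s : ℕ) (v : V) : pj H s v = ∑ j ∈ Finset.range 5, ((4 : k) ^ (4 * s * j)) • (H ^ j) v := by
  unfold pj
  rw [LinearMap.sum_apply]
  rfl

theorem St.pj (hZ : St N H W Z) (s : ℕ) {v : V} (hv : v ∈ Z) : pj H s v ∈ Z := by
  rw [pj_apply]
  exact Submodule.sum_mem _ fun j _ => Submodule.smul_mem _ _ (hZ.powH j hv)

theorem H_pow {i : ℕ} {v : V} (hv : H v = (4 : k) ^ i • v) (j : ℕ) : (H ^ j) v = (4 : k) ^ (i * j) • v := by
  induction j with
  | zero => simp
  | succ j ih =>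
    rw [pow_succ', Module.End.mul_apply, ih, map_smul, hv, smul_smul, ← pow_add, mul_add, mul_one]

/-- geometric sums -/
theorem geo (i : ℕ) : ∑ j ∈ Finset.range 5, (4 : k) ^ (i * j) = if i % 5 = 0 then 5 else 0 := by
  have h1 : ∀ j, (4 : k) ^ (i * j) = ((4 : k) ^ (i % 5)) ^ j := fun j => by rw [pow_mul, ← four_mod]
  rw [Finset.sum_congr rfl fun j _ => h1 j]
  have hi := Nat.mod_lt i (show 0 < 5 by norm_num)
  have e := e11 k
  generalize i % 5 = i at *
  interval_cases i
  · simp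
  all_goals
    rw [if_neg (by norm_num)]
    simp only [Finset.sum_range_succ, Finset.sum_range_zero]
  · linear_combination 31 * e
  · linear_combination 6355 * e
  · linear_combination 1549411 * e
  · linear_combination 391982755 * e

theorem pj_eig {i : ℕ} {v : V} (hv : H v = (4 : k) ^ i • v) (s : ℕ) :
    pj H s v = (if i % 5 = s % 5 then (5 : k) else 0) • v := by
  rw [pj_apply]
  have h1 : ∀ j ∈ Finset.range 5, ((4 : k) ^ (4 * s * j)) • (H ^ j) v = ((4 : k) ^ ((4 * s + i) * j)) • v := by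
    intro j _
    rw [H_pow hv, smul_smul, ← pow_add, add_mul]
  rw [Finset.sum_congr rfl h1, ← Finset.sum_smul, geo]
  by_cases h : i % 5 = s % 5
  · rw [if_pos h, if_pos (by omega)]
  · rw [if_neg h, if_neg (by omega)]

theorem five_ne : (5 : k) ≠ 0 := by exact_mod_cast ne_of (k := k) 5 (by decide)

theorem pj_p (h : Bs N H W p r c) (s n : ℕ) : pj H s (p n) = (if (n + 1) % 5 = s % 5 then (5 : k) else 0) • p n :=
  pj_eig (h.Hp n) s

theorem pj_r (h : Bs N H W p r c) (s n : ℕ) : pj H s (r n) = (if (n + 4) % 5 = s % 5 then (5 : k) else 0) • r n :=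
  pj_eig (h.Hr n) s

theorem pj_c (h : Bs N H W p r c) (s n : ℕ) : pj H s (c n) = (if (n + 3) % 5 = s % 5 then (5 : k) else 0) • c n :=
  pj_eig (h.Hc n) s

theorem Bs.p0_r (h : Bs N H W p r c) (hZ : St N H W Z) (h10 : p 10 ∈ Z) : ∀ n, r n ∈ Z := by
  have h1 := hZ.W _ h10
  rw [h.Wp10] at h1
  have h2 : r 0 ∈ Z := (Submodule.smul_mem_iff _ (by exact_mod_cast ne_of (k := k) 10 (by decide))).1 h1
  exact fun n => hZ.chain h.Nr h2 (Nat.zero_le n)

/-- **every nonzero submodule contains `r 10` or `c 4`** -/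
theorem Bs.dich (h : Bs N H W p r c) (hZ : St N H W Z) {v : V} (hv : v ∈ Z) (hv0 : v ≠ 0) : r 10 ∈ Z ∨ c 4 ∈ Z := by
  have hnil : (N ^ 11) v = 0 := by
    have h1 : N ^ 11 = 0 := by
      refine h.ext (fun n => ?_) (fun n => ?_) fun n => ?_
      · rw [pow_chain h.Np, h.p0 (by omega), LinearMap.zero_apply]
      · rw [pow_chain h.Nr, h.r0 (by omega), LinearMap.zero_apply]
      · rw [pow_chain h.Nc, h.c0 (by omega), LinearMap.zero_apply]
    rw [h1, LinearMap.zero_apply]
  obtain ⟨w, hw, hw0, hNw⟩ : ∃ w ∈ Z, w ≠ 0 ∧ N w = 0 := by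
    classical
    have hex : ∃ j, (N ^ j) v = 0 := ⟨11, hnil⟩
    have h1 := Nat.find_spec hex
    have h2 : Nat.find hex ≠ 0 := by
      intro h0
      rw [h0, pow_zero, Module.End.one_apply] at h1
      exact hv0 h1
    obtain ⟨m, hm⟩ := Nat.exists_eq_succ_of_ne_zero h2
    refine ⟨(N ^ m) v, hZ.pow m hv, Nat.find_min hex (by omega), ?_⟩
    rw [hm, Nat.succ_eq_add_one, pow_succ', Module.End.mul_apply] at h1
    exact h1
  have h3 := h.ker_N hNw
  have e1 := hZ.pj 1 hw
  have e2 := hZ.pj 4 hw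
  have e3 := hZ.pj 2 hw
  rw [h3] at e1 e2 e3
  simp only [map_add, map_smul, pj_p h, pj_r h, pj_c h] at e1 e2 e3
  norm_num at e1 e2 e3
  by_cases hA : h.A 10 w = 0
  · by_cases hB : h.B 10 w = 0
    · right
      have hC : h.C 4 w ≠ 0 := by
        intro hC
        rw [hA, hB, hC, zero_smul, zero_smul, zero_smul, zero_add, zero_add] at h3
        exact hw0 h3
      exact (Submodule.smul_mem_iff _ five_ne).1 ((Submodule.smul_mem_iff _ hC).1 e3)
    · left
      exact (Submodule.smul_mem_iff _ five_ne).1 ((Submodule.smul_mem_iff _ hB).1 e2)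
  · left
    exact h.p0_r hZ ((Submodule.smul_mem_iff _ five_ne).1 ((Submodule.smul_mem_iff _ hA).1 e1)) 10

theorem Bs.c4 (h : Bs N H W p r c) (hZ : St N H W Z) (h4 : c 4 ∈ Z) (n : ℕ) : c n ∈ Z := by
  have h1 := hZ.W _ h4
  rw [h.Wc4] at h1
  exact hZ.chain h.Nc ((Submodule.smul_mem_iff _ two_ne).1 h1) (Nat.zero_le n)

theorem Bs.r10 (h : Bs N H W p r c) (hZ : St N H W Z) (h10 : r 10 ∈ Z) {n : ℕ} (hn : 3 ≤ n) : r n ∈ Z := by
  have h1 := hZ.N _ (hZ.W _ h10)
  rw [h.Wr10, map_add, map_smul, map_smul, h.Np, h.Nr, h.zp, smul_zero, zero_add] at h1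
  exact hZ.chain h.Nr ((Submodule.smul_mem_iff _ five_ne).1 h1) hn

/-- **a submodule with a vector outside of `A = 0`** -/
theorem Bs.top (h : Bs N H W p r c) (hZ : St N H W Z) {v : V} (hv : v ∈ Z) {m : ℕ} (hm : m ≤ 8) (hA : h.A m v ≠ 0) :
    (∀ n, p n ∈ Z) ∧ ∀ n, r n ∈ Z := by
  classical
  have hex : ∃ m, h.A m v ≠ 0 := ⟨m, hA⟩
  obtain ⟨m, hmin⟩ : ∃ m, m = Nat.find hex := ⟨_, rfl⟩
  have hm8 : m ≤ 8 := by
    rw [hmin]
    exact (Nat.find_min' hex hA).trans hm
  have hA1 : h.A m v ≠ 0 := by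
    rw [hmin]
    exact Nat.find_spec hex
  have hA2 : ∀ j < m, h.A j v = 0 := by
    intro j hj
    rw [hmin] at hj
    by_contra h0
    exact Nat.find_min hex hj h0
  -- shift
  obtain ⟨w, hw, hw8, hw3⟩ : ∃ w ∈ Z, h.A 8 w ≠ 0 ∧ h.A 3 w = 0 := by
    refine ⟨(N ^ (8 - m)) v, hZ.pow _ hv, ?_, ?_⟩
    · have h1 := h.A_pow (8 - m) (n := m) (by omega) v
      rw [show m + (8 - m) = 8 by omega] at h1
      rw [h1]
      exact hA1
    · by_cases h3 : 8 - m ≤ 3
      · have h1 := h.A_pow (8 - m) (n := 3 - (8 - m)) (by omega) v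
        rw [show 3 - (8 - m) + (8 - m) = 3 by omega] at h1
        rw [h1]
        exact hA2 _ (by omega)
      · -- the coordinate vanishes
        have h1 : ∀ u : V, h.A 3 ((N ^ (8 - m)) u) = 0 := by
          have h2 : (h.A 3).comp (N ^ (8 - m)) = 0 := by
            refine h.ext (fun n => ?_) (fun n => ?_) fun n => ?_
            · rw [LinearMap.comp_apply, pow_chain h.Np, h.A_p, if_neg (by omega), LinearMap.zero_apply]
            · rw [LinearMap.comp_apply, pow_chain h.Nr, h.A_r, LinearMap.zero_apply]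
            · rw [LinearMap.comp_apply, pow_chain h.Nc, h.A_c, LinearMap.zero_apply]
          exact fun u => LinearMap.congr_fun h2 u
        exact h1 v
  -- projection
  have e1 := hZ.pj 4 hw
  have e2 : pj H 4 w = (5 * h.A 8 w) • p 8 + (5 * h.B 0 w) • r 0 + (5 * h.B 5 w) • r 5 + (5 * h.B 10 w) • r 10 +
      (5 * h.C 1 w) • c 1 := by
    conv_lhs => rw [h.expand w]
    simp only [Finset.sum_range_succ, Finset.sum_range_zero, zero_add, map_add, map_smul, pj_p h, pj_r h, pj_c h, hw3]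
    norm_num
    module
  rw [e2] at e1
  have e3 := hZ.W _ e1
  simp only [map_add, map_smul, h.Wp8, h.Wr0, h.Wr5, h.Wr10, h.Wc1] at e3
  have p10 : p 10 ∈ Z := by
    have e4 := hZ.pow 10 e3
    simp only [map_add, map_smul, pow_chain h.Np, pow_chain h.Nr, pow_chain h.Nc] at e4
    rw [h.p0 (n := 10 + 10) (by norm_num), h.r0 (n := 2 + 10) (by norm_num), h.r0 (n := 7 + 10) (by norm_num),
      h.c0 (n := 3 + 10) (by norm_num)] at e4
    simp only [smul_zero, add_zero, zero_add] at e4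
    exact (Submodule.smul_mem_iff _ five_ne).1 ((Submodule.smul_mem_iff _ (mul_ne_zero five_ne hw8)).1 e4)
  have hr := h.p0_r hZ p10
  have p9 : p 9 ∈ Z := by
    have e4 := hZ.pow 9 e3
    simp only [map_add, map_smul, pow_chain h.Np, pow_chain h.Nr, pow_chain h.Nc] at e4
    rw [h.p0 (n := 10 + 9) (by norm_num), h.r0 (n := 2 + 9) (by norm_num), h.r0 (n := 7 + 9) (by norm_num),
      h.c0 (n := 3 + 9) (by norm_num)] at e4
    simp only [smul_zero, add_zero, zero_add] at e4
    exact (Submodule.smul_mem_iff _ five_ne).1 ((Submodule.smul_mem_iff _ (mul_ne_zero five_ne hw8)).1 e4)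
  have p8 : p 8 ∈ Z := by
    have e4 := hZ.pow 8 e3
    simp only [map_add, map_smul, pow_chain h.Np, pow_chain h.Nr, pow_chain h.Nc] at e4
    rw [h.p0 (n := 10 + 8) (by norm_num), h.r0 (n := 7 + 8) (by norm_num), h.c0 (n := 3 + 8) (by norm_num)] at e4
    simp only [smul_zero, add_zero, zero_add] at e4
    have e5 : (5 * h.A 8 w) • ((5 : k) • p 8) ∈ Z := by
      have e6 : (5 * h.A 8 w) • ((5 : k) • p 8) = ((5 * h.A 8 w) • ((5 : k) • p 8 + (9 : k) • r (2 + 8)) +
          (5 * h.B 10 w) • (5 : k) • r (2 + 8)) - ((5 * h.A 8 w) • (9 : k) • r (2 + 8) +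
          (5 * h.B 10 w) • (5 : k) • r (2 + 8)) := by module
      rw [e6]
      exact Submodule.sub_mem _ e4 (Submodule.add_mem _ (Submodule.smul_mem _ _ (Submodule.smul_mem _ _ (hr _)))
        (Submodule.smul_mem _ _ (Submodule.smul_mem _ _ (hr _))))
    exact (Submodule.smul_mem_iff _ five_ne).1 ((Submodule.smul_mem_iff _ (mul_ne_zero five_ne hw8)).1 e5)
  have p0 : p 0 ∈ Z := by
    have e4 := hZ.W _ p8
    rw [h.Wp8] at e4
    have e5 : (5 : k) • p 0 ∈ Z := by
      have e6 : (5 : k) • p 0 = ((5 : k) • p 0 + (7 : k) • p 10 + (9 : k) • r 2) - ((7 : k) • p 10 + (9 : k) • r 2) := by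
        module
      rw [e6]
      exact Submodule.sub_mem _ e4 (Submodule.add_mem _ (Submodule.smul_mem _ _ p10) (Submodule.smul_mem _ _ (hr 2)))
    exact (Submodule.smul_mem_iff _ five_ne).1 e5
  exact ⟨fun n => hZ.chain h.Np p0 (Nat.zero_le n), hr⟩

/-! ### the three submodules -/

/-- the span of the `c n` -/
def spC (_h : Bs N H W p r c) : Submodule k V := Submodule.span k (Set.range fun i : Fin 5 => c i)

/-- the span of the `p n` and the `r n` -/
def spY (_h : Bs N H W p r c) : Submodule k V :=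
  Submodule.span k (Set.range (Sum.elim (fun i : Fin 11 => p i) fun i : Fin 11 => r i))

/-- the vectors with `A n = 0`, `n ≤ 8` -/
noncomputable def spL (h : Bs N H W p r c) : Submodule k V := ⨅ n : Fin 9, LinearMap.ker (h.A n)

theorem mem_spL {h : Bs N H W p r c} {v : V} : v ∈ spL h ↔ ∀ n < 9, h.A n v = 0 := by
  unfold spL
  rw [Submodule.mem_iInf]
  exact ⟨fun h1 n hn => h1 ⟨n, hn⟩, fun h1 n => h1 n n.2⟩

theorem c_mem_spC (h : Bs N H W p r c) (n : ℕ) : c n ∈ spC h := by
  by_cases hn : n < 5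
  · exact Submodule.subset_span ⟨⟨n, hn⟩, rfl⟩
  · rw [h.c0 (by omega)]
    exact Submodule.zero_mem _

theorem p_mem_spY (h : Bs N H W p r c) (n : ℕ) : p n ∈ spY h := by
  by_cases hn : n < 11
  · exact Submodule.subset_span ⟨Sum.inl ⟨n, hn⟩, rfl⟩
  · rw [h.p0 (by omega)]
    exact Submodule.zero_mem _

theorem r_mem_spY (h : Bs N H W p r c) (n : ℕ) : r n ∈ spY h := by
  by_cases hn : n < 11
  · exact Submodule.subset_span ⟨Sum.inr ⟨n, hn⟩, rfl⟩
  · rw [h.r0 (by omega)]
    exact Submodule.zero_mem _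

theorem finrank_spC (h : Bs N H W p r c) : finrank k (spC h) = 5 := by
  have h1 : LinearIndependent k fun i : Fin 5 => c i :=
    (fam_li h).comp (fun i => Sum.inr (Sum.inr i)) fun i j hij => by simpa using hij
  unfold spC
  rw [finrank_span_eq_card h1, Fintype.card_fin]

theorem finrank_spY (h : Bs N H W p r c) : finrank k (spY h) = 22 := by
  have h1 : LinearIndependent k (Sum.elim (fun i : Fin 11 => p i) fun i : Fin 11 => r i) := by
    have h2 := (fam_li h).comp (Sum.elim (fun i : Fin 11 => (Sum.inl i : Fin 11 ⊕ Fin 11 ⊕ Fin 5))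
      fun i : Fin 11 => Sum.inr (Sum.inl i)) (by rintro (i | i) (j | j) hij <;> simpa using hij)
    convert h2 using 1
    ext i
    rcases i with i | i <;> rfl
  unfold spY
  rw [finrank_span_eq_card h1]
  simp

theorem finite_bs (h : Bs N H W p r c) : Module.Finite k V := Module.Finite.of_basis h.bas

theorem finrank_spL_le (h : Bs N H W p r c) : finrank k (spL h) ≤ 18 := by
  have := finite_bs h
  have h1 : spL h ≤ Submodule.span k (Set.range (Sum.elim (fun i : Fin 2 => p (9 + i)) (Sum.elim (fun i : Fin 11 => r i)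
      fun i : Fin 5 => c i))) := by
    intro v hv
    rw [mem_spL] at hv
    rw [h.expand v]
    refine Submodule.add_mem _ (Submodule.add_mem _ ?_ ?_) ?_
    · refine Submodule.sum_mem _ fun n hn => ?_
      rw [Finset.mem_range] at hn
      by_cases h9 : n < 9
      · rw [hv n h9, zero_smul]
        exact Submodule.zero_mem _
      · refine Submodule.smul_mem _ _ (Submodule.subset_span ⟨Sum.inl ⟨n - 9, by omega⟩, ?_⟩)
        show p (9 + (n - 9)) = p n
        rw [show 9 + (n - 9) = n by omega]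
    · exact Submodule.sum_mem _ fun n hn => Submodule.smul_mem _ _ (Submodule.subset_span
        ⟨Sum.inr (Sum.inl ⟨n, Finset.mem_range.1 hn⟩), rfl⟩)
    · exact Submodule.sum_mem _ fun n hn => Submodule.smul_mem _ _ (Submodule.subset_span
        ⟨Sum.inr (Sum.inr ⟨n, Finset.mem_range.1 hn⟩), rfl⟩)
  refine (Submodule.finrank_mono h1).trans ((finrank_range_le_card _).trans ?_)
  simp

theorem finrank_spL_ge (h : Bs N H W p r c) : 18 ≤ finrank k (spL h) := by
  have := finite_bs h
  have h1 : LinearIndependent k (Sum.elim (fun i : Fin 2 => p (9 + i)) (Sum.elim (fun i : Fin 11 => r i)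
      fun i : Fin 5 => c i)) := by
    have h2 := (fam_li h).comp (Sum.elim (fun i : Fin 2 => (Sum.inl ⟨9 + i, by omega⟩ : Fin 11 ⊕ Fin 11 ⊕ Fin 5))
      (fun i : Fin 11 ⊕ Fin 5 => Sum.inr i)) (by
        rintro (i | i) (j | j) hij
        · simp at hij
          rw [Fin.ext hij]
        · simp at hij
        · simp at hij
        · simpa using hij)
    convert h2 using 1
    ext i
    rcases i with i | i | i <;> rfl
  have h2 := (finrank_span_eq_card h1)
  simp only [Fintype.card_sum, Fintype.card_fin] at h2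
  rw [show (2 + (11 + 5) : ℕ) = 18 by norm_num] at h2
  rw [← h2]
  refine Submodule.finrank_mono (Submodule.span_le.2 ?_)
  rintro _ ⟨i, rfl⟩
  rw [SetLike.mem_coe, mem_spL]
  intro n hn
  rcases i with i | i | i
  · show h.A n (p (9 + i)) = 0
    rw [h.A_p, if_neg (by omega)]
  · exact h.A_r _ _
  · exact h.A_c _ _

theorem finrank_spL (h : Bs N H W p r c) : finrank k (spL h) = 18 := le_antisymm (finrank_spL_le h) (finrank_spL_ge h)

/-- **the submodule of dimension 5** -/
theorem eq_spC (h : Bs N H W p r c) (hZ : St N H W Z) (hd : finrank k Z = 5) : Z = spC h := by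
  have := finite_bs h
  obtain ⟨v, hv, hv0⟩ : ∃ v ∈ Z, v ≠ 0 := by
    by_contra hno
    push Not at hno
    rw [(Submodule.eq_bot_iff Z).2 hno, finrank_bot] at hd
    norm_num at hd
  rcases h.dich hZ hv hv0 with h1 | h1
  · exfalso
    have h2 : LinearIndependent k fun i : Fin 8 => r (3 + i) := by
      have h3 := (fam_li h).comp (fun i : Fin 8 => (Sum.inr (Sum.inl ⟨3 + i, by omega⟩) : Fin 11 ⊕ Fin 11 ⊕ Fin 5))
        fun i j hij => by
          simp at hij
          exact Fin.ext hij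
      exact h3
    have h3 := finrank_span_eq_card h2
    rw [Fintype.card_fin] at h3
    have h4 : Submodule.span k (Set.range fun i : Fin 8 => r (3 + i)) ≤ Z := by
      rw [Submodule.span_le]
      rintro _ ⟨i, rfl⟩
      exact h.r10 hZ h1 (by omega)
    have h5 := Submodule.finrank_mono h4
    omega
  · refine (Submodule.eq_of_le_of_finrank_eq ?_ ?_).symm
    · unfold spC
      rw [Submodule.span_le]
      rintro _ ⟨i, rfl⟩
      exact h.c4 hZ h1 i
    · rw [finrank_spC, hd]

theorem spY_le (h : Bs N H W p r c) (h1 : (∀ n, p n ∈ Z) ∧ ∀ n, r n ∈ Z) : spY h ≤ Z := by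
  unfold spY
  rw [Submodule.span_le]
  rintro _ ⟨i, rfl⟩
  rcases i with i | i
  · exact h1.1 _
  · exact h1.2 _

/-- **the submodule of dimension 22** -/
theorem eq_spY (h : Bs N H W p r c) (hZ : St N H W Z) (hd : finrank k Z = 22) : Z = spY h := by
  have := finite_bs h
  by_cases hL : Z ≤ spL h
  · have h1 := Submodule.finrank_mono hL
    rw [finrank_spL, hd] at h1
    norm_num at h1
  · rw [SetLike.not_le_iff_exists] at hL
    obtain ⟨v, hv, hv'⟩ := hL
    rw [mem_spL] at hv'
    push Not at hv'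
    obtain ⟨n, hn, hA⟩ := hv'
    exact (Submodule.eq_of_le_of_finrank_eq (spY_le h (h.top hZ hv (by omega) hA)) (by rw [finrank_spY, hd])).symm

/-- **the submodule of dimension 18** -/
theorem eq_spL (h : Bs N H W p r c) (hZ : St N H W Z) (hd : finrank k Z = 18) : Z = spL h := by
  have := finite_bs h
  refine Submodule.eq_of_le_of_finrank_eq ?_ (by rw [finrank_spL, hd])
  intro v hv
  rw [mem_spL]
  intro n hn
  by_contra hA
  have h1 := Submodule.finrank_mono (spY_le h (h.top hZ hv (m := n) (by omega) hA))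
  rw [finrank_spY, hd] at h1
  norm_num at h1

end Cfsg.Agent.R2.H14.E11
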