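import Cfsg.Agent.R2.H14.E11.Link
import Cfsg.Agent.R2.H14.E11.Expl
import Cfsg.Agent.R2.H14.E11.Sub
import Cfsg.Agent.R2.H9.E6.Fr6
import Cfsg.Agent.R2.H9.E6.MAct

/-!
# S5749, S5750, box E11: semilinear transport (helper14)

* `Au α` : the automorphism `α` of `SL(2, K)` normalizes the unipotent group and fixes `h 2`;
* `sem_x` : a semilinear map compatible with the products and with `SL(2, K)` (up to `α`) maps `x` to a multiple of `x`;
* `Ss ρ Z` : submodules for `SL(2, K)`; `ss_spC`, `ss_spY`, `ss_spL`; `Ss.map`.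
-/

set_option autoImplicit false
set_option linter.unusedSectionVars false
set_option linter.unusedSimpArgs false

namespace Cfsg.Agent.R2.H14.E11

open Module Matrix Cfsg.Lie Cfsg.Agent.H943.SL2Rel
open Cfsg.Agent.H952.F4 (sh cr tf)
open Cfsg.Agent.H952.F4.Jord
open Cfsg.Agent.R2.H9.E6.Gr (Cmp al al_u al_h al_w)
open Cfsg.Agent.ClassicalGeometry.AutPSL.Auto (cj fld)
open Cfsg.Agent.R2.H9.E6 (Dop Dop_apply tf_zero_left tf_zero_right cr_zero_left cr_zero_right tf_Dop Dop_add_left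
  Dop_add_right Dop_smul_left Dop_smul_right Dop_cr)

universe v w

variable {k : Type v} [Field k] [CharP k 11] {K : Type w} [Field K] [CharP K 11]

/-- the automorphisms -/
structure Au (α : SpecialLinearGroup (Fin 2) K ≃* SpecialLinearGroup (Fin 2) K) : Prop where
  su : ∀ t, ∃ t', α (u t') = u t
  hh : α (h tw) = h tw

theorem au_refl : Au (MulEquiv.refl (SpecialLinearGroup (Fin 2) K)) := ⟨fun t => ⟨t, rfl⟩, rfl⟩

/-- the automorphisms of `exists_conj` -/
def alE (c : Kˣ) (σ : K ≃+* K) : SpecialLinearGroup (Fin 2) K ≃* SpecialLinearGroup (Fin 2) K :=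
  (fld σ).trans (cj (Cfsg.Agent.R2.H9.E6.Gr.dg c))

theorem alE_apply (c : Kˣ) (σ : K ≃+* K) (s : SpecialLinearGroup (Fin 2) K) : alE c σ s = al c σ s := rfl

theorem au_alE (c : Kˣ) (σ : K ≃+* K) : Au (alE c σ) where
  su t := ⟨σ.symm ((c : K)⁻¹ * t), by
    rw [alE_apply, al_u, σ.apply_symm_apply, mul_inv_cancel_left₀ c.ne_zero]⟩
  hh := by
    rw [alE_apply, al_h]
    congr 1
    apply Units.ext
    show σ 2 = 2
    exact map_ofNat σ 2

section sem

variable {ι : K →+* k} {α : SpecialLinearGroup (Fin 2) K ≃* SpecialLinearGroup (Fin 2) K} {θ : k →+* k}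
variable {ρ ρ' : Representation k (SpecialLinearGroup (Fin 2) K) (I27 → k)} {F G : (I27 → k) →ₗ[k] (I27 → k)}
variable {p r c : ℕ → I27 → k} {a₁ b₁ c₁ d₁ e₁ : k} {y : I27 → k}
variable {ρ₂ ρ₂' : Representation k (SpecialLinearGroup (Fin 2) K) (I27 → k)} {F₂ G₂ : (I27 → k) →ₗ[k] (I27 → k)}
variable {p₂ r₂ c₂ : ℕ → I27 → k} {a₂ b₂ g₂ d₂ e₂ : k} {y₂ : I27 → k}

theorem sem_top {E E₂ : Type*} [AddCommGroup E] [Module k E] [AddCommGroup E₂] [Module k E₂]
    {ρ : Representation k (SpecialLinearGroup (Fin 2) K) E} {ρ₂ : Representation k (SpecialLinearGroup (Fin 2) K) E₂}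
    {F G : E →ₗ[k] E} {p r c : ℕ → E} {F₂ G₂ : E₂ →ₗ[k] E₂} {p₂ r₂ c₂ : ℕ → E₂}
    (hM : Ms ι ρ F G p r c) (hM₂ : Ms ι ρ₂ F₂ G₂ p₂ r₂ c₂) (hα : Au α) {f : E →ₛₗ[θ] E₂}
    (hinj : ∀ v, f v = 0 → v = 0) (hf : ∀ s v, f (ρ s v) = ρ₂ (α s) (f v)) : ∃ d : k, d ≠ 0 ∧ f (p 10) = d • p₂ 10 := by
  have hup : ∀ t, ρ (u t) (p 10) = p 10 := fun t => hM.ufix (by rw [hM.bs.Np, hM.bs.zp]) (hM.Fp _) (hM.Gp _) t
  have hHp : ρ (h tw) (p 10) = (4 : k) • p 10 := by
    rw [hM.bs.Hp, show 10 + 1 = 1 + 5 + 5 by norm_num, four_add, four_add, pow_one]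
  obtain ⟨d, hd⟩ := hM₂.bs.line (v := f (p 10)) (Nr_fix fun n => by
    obtain ⟨t', ht'⟩ := hα.su (n : K)
    rw [← ht', ← hf, hup]) (by
    have h1 := hf (h tw) (p 10)
    rw [hα.hh, hHp, map_smulₛₗ, map_ofNat] at h1
    exact h1.symm)
  refine ⟨d, ?_, hd⟩
  rintro rfl
  rw [zero_smul] at hd
  have h1 := hM.bs.A_p 10 10
  rw [hinj _ hd, map_zero] at h1
  simp at h1

variable (X : Cx ι ρ ρ' F G p r c a₁ b₁ c₁ d₁ e₁ y) (X₂ : Cx ι ρ₂ ρ₂' F₂ G₂ p₂ r₂ c₂ a₂ b₂ g₂ d₂ e₂ y₂)
include X X₂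

/-- **semilinear transport of `x`** -/
theorem sem_x (hα : Au α) {f f' : (I27 → k) →ₛₗ[θ] (I27 → k)} (hC : Cmp θ f f') (hinj : ∀ v, f v = 0 → v = 0)
    (hf : ∀ s v, f (ρ s v) = ρ₂ (α s) (f v)) (hf' : ∀ s v, f' (ρ' s v) = ρ₂' (α s) (f' v)) :
    ∃ κ : k, κ ≠ 0 ∧ ∀ v, f (Dop (p 10) y v) = κ • Dop (p₂ 10) y₂ (f v) := by
  obtain ⟨d, hd, hp⟩ := sem_top X.hM X₂.hM hα hinj hf
  obtain ⟨d', hd'⟩ := X₂.good (b' := f' y) (fun n hn => by
    obtain ⟨t', ht'⟩ := hα.su (n : K)
    obtain ⟨v0, hv0⟩ := X.yu t'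
    refine ⟨d • f v0, ?_⟩
    rw [← ht', ← hf', hv0, map_add, ← hC.cr, hp, cr_smul_left, cr_smul_right]) (by
    have h1 := hf' (h tw) y
    rw [hα.hh, X.yH, map_smulₛₗ, map_ofNat] at h1
    exact h1.symm)
  have h1 : ∀ v, f (Dop (p 10) y v) = (d * d') • Dop (p₂ 10) y₂ (f v) := by
    intro v
    rw [hC.Dop, hp, Dop_smul_left, hd', smul_smul]
  refine ⟨d * d', ?_, h1⟩
  intro h0
  apply X.x_ne
  apply hinj
  rw [h1, h0, zero_smul]

end sem

/-! ### submodules -/

section sub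

variable {ι : K →+* k} {E : Type*} [AddCommGroup E] [Module k E]
variable {ρ : Representation k (SpecialLinearGroup (Fin 2) K) E} {F G : E →ₗ[k] E} {p r c : ℕ → E}

/-- submodules -/
def Ss (ρ : Representation k (SpecialLinearGroup (Fin 2) K) E) (Z : Submodule k E) : Prop := ∀ g, ∀ v ∈ Z, ρ g v ∈ Z

theorem Ss.nr {Z : Submodule k E} (hZ : Ss ρ Z) {v : E} (hv : v ∈ Z) : Nr ρ v ∈ Z := by
  unfold Nr
  rw [Nop_apply]
  exact Submodule.neg_mem _ (Submodule.sum_mem _ fun n _ => Submodule.smul_mem _ _ (hZ _ _ hv))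

theorem Ss.st {Z : Submodule k E} (hZ : Ss ρ Z) : St (Nr ρ) (ρ (h tw)) (ρ Cfsg.Agent.H943.SL2Rel.w) Z :=
  ⟨fun _ hv => hZ.nr hv, fun _ hv => hZ _ _ hv, fun _ hv => hZ _ _ hv⟩

theorem Ms.ss [FiniteDimensional k E] (hM : Ms ι ρ F G p r c) {Z : Submodule k E} (hN : ∀ v ∈ Z, Nr ρ v ∈ Z)
    (hW : ∀ v ∈ Z, ρ Cfsg.Agent.H943.SL2Rel.w v ∈ Z) (hF : ∀ v ∈ Z, F v ∈ Z) (hG : ∀ v ∈ Z, G v ∈ Z) : Ss ρ Z := by
  have hpow : ∀ (j : ℕ), ∀ v ∈ Z, (Nr ρ ^ j) v ∈ Z := by
    intro j
    induction j with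
    | zero => exact fun v hv => hv
    | succ j ih =>
      intro v hv
      rw [pow_succ, Module.End.mul_apply]
      exact ih _ (hN v hv)
  have hu : ∀ t, ∀ v ∈ Z, ρ (Cfsg.Agent.H943.SL2Rel.u t) v ∈ Z := by
    intro t v hv
    rw [hM.u]
    refine Submodule.add_mem _ (Submodule.add_mem _ (Submodule.sum_mem _ fun j _ => Submodule.smul_mem _ _ (hpow j v hv))
      (Submodule.smul_mem _ _ (hF v hv))) (Submodule.smul_mem _ _ (hG v hv))
  let X : Subgroup (SpecialLinearGroup (Fin 2) K) :=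
    { carrier := {g | ∀ v ∈ Z, ρ g v ∈ Z}
      mul_mem' := by
        intro a b ha hb v hv
        rw [rho_mul]
        exact ha _ (hb _ hv)
      one_mem' := by
        intro v hv
        rw [map_one]
        exact hv
      inv_mem' := by
        intro g hg v hv
        let f : Z →ₗ[k] Z := (ρ g).restrict hg
        have hf : Function.Injective f := by
          intro x z hxz
          apply Subtype.ext
          have h1 : ρ g x = ρ g z := congrArg Subtype.val hxz
          rw [← rho_inv ρ g (x : E), h1, rho_inv]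
        obtain ⟨x, hx⟩ := LinearMap.surjective_of_injective hf ⟨v, hv⟩
        have h1 : ρ g x = v := congrArg Subtype.val hx
        rw [← h1, rho_inv]
        exact x.2 }
  exact fun g => gen_uw X hu hW g

theorem Ms.ss_spC [FiniteDimensional k E] (hM : Ms ι ρ F G p r c) : Ss ρ (spC hM.bs) := by
  have h := hM.bs
  have key : ∀ f : E →ₗ[k] E, (∀ n, f (c n) ∈ spC h) → ∀ v ∈ spC h, f v ∈ spC h := by
    intro f hf
    have h1 : spC h ≤ (spC h).comap f := by
      conv_lhs => rw [spC]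
      rw [Submodule.span_le]
      rintro _ ⟨i, rfl⟩
      exact hf i
    exact h1
  refine hM.ss (key _ fun n => ?_) (key _ fun n => ?_) (key _ fun n => ?_) (key _ fun n => ?_)
  · rw [h.Nc]
    exact c_mem_spC h _
  · by_cases hn : n < 5
    · interval_cases n
      · rw [h.Wc0]
        exact Submodule.smul_mem _ _ (c_mem_spC h _)
      · rw [h.Wc1]
        exact Submodule.smul_mem _ _ (c_mem_spC h _)
      · rw [h.Wc2]
        exact c_mem_spC h _
      · rw [h.Wc3]
        exact Submodule.smul_mem _ _ (c_mem_spC h _)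
      · rw [h.Wc4]
        exact Submodule.smul_mem _ _ (c_mem_spC h _)
    · rw [h.c0 (by omega), map_zero]
      exact Submodule.zero_mem _
  · rw [hM.Fc]
    exact Submodule.zero_mem _
  · rw [hM.Gc]
    exact Submodule.zero_mem _

theorem Ms.ss_spY [FiniteDimensional k E] (hM : Ms ι ρ F G p r c) : Ss ρ (spY hM.bs) := by
  have h := hM.bs
  have hp := p_mem_spY h
  have hr := r_mem_spY h
  have key : ∀ f : E →ₗ[k] E, (∀ n, f (p n) ∈ spY h) → (∀ n, f (r n) ∈ spY h) → ∀ v ∈ spY h, f v ∈ spY h := by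
    intro f hf hf'
    have h1 : spY h ≤ (spY h).comap f := by
      conv_lhs => rw [spY]
      rw [Submodule.span_le]
      rintro _ ⟨i, rfl⟩
      rcases i with i | i
      · exact hf i
      · exact hf' i
    exact h1
  have s : ∀ (a : k) {v : E}, v ∈ spY h → a • v ∈ spY h := fun a v hv => Submodule.smul_mem _ a hv
  have ad : ∀ {v w : E}, v ∈ spY h → w ∈ spY h → v + w ∈ spY h := fun hv hw => Submodule.add_mem _ hv hw
  refine hM.ss (key _ (fun n => ?_) fun n => ?_) (key _ (fun n => ?_) fun n => ?_) (key _ (fun n => ?_) fun n => ?_)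
    (key _ (fun n => ?_) fun n => ?_)
  · rw [h.Np]
    exact hp _
  · rw [h.Nr]
    exact hr _
  · by_cases hn : n < 11
    · interval_cases n
      · rw [h.Wp0]
        exact ad (s _ (hp _)) (s _ (hr _))
      · rw [h.Wp1]
        exact ad (s _ (hp _)) (s _ (hr _))
      · rw [h.Wp2]
        exact ad (s _ (hp _)) (s _ (hr _))
      · rw [h.Wp3]
        exact ad (s _ (hp _)) (s _ (hr _))
      · rw [h.Wp4]
        exact hp _
      · rw [h.Wp5]
        exact ad (s _ (hp _)) (s _ (hr _))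
      · rw [h.Wp6]
        exact ad (s _ (hp _)) (s _ (hr _))
      · rw [h.Wp7]
        exact ad (s _ (hp _)) (s _ (hr _))
      · rw [h.Wp8]
        exact ad (ad (s _ (hp _)) (s _ (hp _))) (s _ (hr _))
      · rw [h.Wp9]
        exact ad (hp _) (hr _)
      · rw [h.Wp10]
        exact s _ (hr _)
    · rw [h.p0 (by omega), map_zero]
      exact Submodule.zero_mem _
  · by_cases hn : n < 11
    · interval_cases n
      · rw [h.Wr0]
        exact s _ (hp _)
      · rw [h.Wr1]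
        exact s _ (hr _)
      · rw [h.Wr2]
        exact ad (s _ (hr _)) (s _ (hr _))
      · rw [h.Wr3]
        exact s _ (hr _)
      · rw [h.Wr4]
        exact s _ (hr _)
      · rw [h.Wr5]
        exact s _ (hr _)
      · rw [h.Wr6]
        exact hr _
      · rw [h.Wr7]
        exact s _ (hr _)
      · rw [h.Wr8]
        exact s _ (hr _)
      · rw [h.Wr9]
        exact s _ (hr _)
      · rw [h.Wr10]
        exact ad (s _ (hp _)) (s _ (hr _))
    · rw [h.r0 (by omega), map_zero]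
      exact Submodule.zero_mem _
  · rw [hM.Fp]
    exact Submodule.zero_mem _
  · rcases n with _ | _ | n
    · rw [hM.Fr0]
      exact s _ (hp _)
    · rw [hM.Fr1]
      exact s _ (hp _)
    · rw [hM.Fr _ (by omega)]
      exact Submodule.zero_mem _
  · rw [hM.Gp]
    exact Submodule.zero_mem _
  · rcases n with _ | n
    · rw [hM.Gr0]
      exact s _ (hp _)
    · rw [hM.Gr _ (by omega)]
      exact Submodule.zero_mem _

theorem p_mem_spL {N H W : E →ₗ[k] E} (h : Bs N H W p r c) {n : ℕ} (hn : 9 ≤ n) : p n ∈ spL h := by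
  rw [mem_spL]
  intro m hm
  rw [h.A_p, if_neg (by omega)]

theorem r_mem_spL {N H W : E →ₗ[k] E} (h : Bs N H W p r c) (n : ℕ) : r n ∈ spL h := by
  rw [mem_spL]
  intro m _
  rw [h.A_r]

theorem c_mem_spL {N H W : E →ₗ[k] E} (h : Bs N H W p r c) (n : ℕ) : c n ∈ spL h := by
  rw [mem_spL]
  intro m _
  rw [h.A_c]

theorem spL_ind {N H W : E →ₗ[k] E} (h : Bs N H W p r c) (f : E →ₗ[k] E) (h1 : f (p 9) ∈ spL h) (h2 : f (p 10) ∈ spL h)
    (h3 : ∀ n, f (r n) ∈ spL h) (h4 : ∀ n, f (c n) ∈ spL h) : ∀ v ∈ spL h, f v ∈ spL h := by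
  intro v hv
  rw [mem_spL] at hv
  rw [h.expand v, map_add, map_add, map_sum, map_sum, map_sum]
  refine Submodule.add_mem _ (Submodule.add_mem _ ?_ ?_) ?_
  · refine Submodule.sum_mem _ fun n hn => ?_
    rw [Finset.mem_range] at hn
    by_cases h9 : n < 9
    · rw [hv n h9, zero_smul, map_zero]
      exact Submodule.zero_mem _
    · rw [map_smul]
      refine Submodule.smul_mem _ _ ?_
      rcases Nat.lt_or_ge n 10 with h10 | h10
      · rw [show n = 9 by omega]
        exact h1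
      · rw [show n = 10 by omega]
        exact h2
  · refine Submodule.sum_mem _ fun n hn => ?_
    rw [map_smul]
    exact Submodule.smul_mem _ _ (h3 n)
  · refine Submodule.sum_mem _ fun n hn => ?_
    rw [map_smul]
    exact Submodule.smul_mem _ _ (h4 n)

theorem Ms.ss_spL [FiniteDimensional k E] (hM : Ms ι ρ F G p r c) : Ss ρ (spL hM.bs) := by
  have h := hM.bs
  have hp : ∀ {n}, 9 ≤ n → p n ∈ spL h := fun {n} hn => p_mem_spL h hn
  have hr := r_mem_spL h
  have hc := c_mem_spL h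
  have s : ∀ (a : k) {v : E}, v ∈ spL h → a • v ∈ spL h := fun a v hv => Submodule.smul_mem _ a hv
  have ad : ∀ {v w : E}, v ∈ spL h → w ∈ spL h → v + w ∈ spL h := fun hv hw => Submodule.add_mem _ hv hw
  refine hM.ss (spL_ind h _ ?_ ?_ (fun n => ?_) fun n => ?_) (spL_ind h _ ?_ ?_ (fun n => ?_) fun n => ?_)
    (spL_ind h _ ?_ ?_ (fun n => ?_) fun n => ?_) (spL_ind h _ ?_ ?_ (fun n => ?_) fun n => ?_)
  · rw [h.Np]
    exact hp (by norm_num)
  · rw [h.Np]
    exact hp (by norm_num)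
  · rw [h.Nr]
    exact hr _
  · rw [h.Nc]
    exact hc _
  · rw [h.Wp9]
    exact ad (hp (by norm_num)) (hr _)
  · rw [h.Wp10]
    exact s _ (hr _)
  · by_cases hn : n < 11
    · interval_cases n
      · rw [h.Wr0]
        exact s _ (hp (by norm_num))
      · rw [h.Wr1]
        exact s _ (hr _)
      · rw [h.Wr2]
        exact ad (s _ (hr _)) (s _ (hr _))
      · rw [h.Wr3]
        exact s _ (hr _)
      · rw [h.Wr4]
        exact s _ (hr _)
      · rw [h.Wr5]
        exact s _ (hr _)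
      · rw [h.Wr6]
        exact hr _
      · rw [h.Wr7]
        exact s _ (hr _)
      · rw [h.Wr8]
        exact s _ (hr _)
      · rw [h.Wr9]
        exact s _ (hr _)
      · rw [h.Wr10]
        exact ad (s _ (hp (by norm_num))) (s _ (hr _))
    · rw [h.r0 (by omega), map_zero]
      exact Submodule.zero_mem _
  · by_cases hn : n < 5
    · interval_cases n
      · rw [h.Wc0]
        exact s _ (hc _)
      · rw [h.Wc1]
        exact s _ (hc _)
      · rw [h.Wc2]
        exact hc _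
      · rw [h.Wc3]
        exact s _ (hc _)
      · rw [h.Wc4]
        exact s _ (hc _)
    · rw [h.c0 (by omega), map_zero]
      exact Submodule.zero_mem _
  · rw [hM.Fp]
    exact Submodule.zero_mem _
  · rw [hM.Fp]
    exact Submodule.zero_mem _
  · rcases n with _ | _ | n
    · rw [hM.Fr0]
      exact s _ (hp (by norm_num))
    · rw [hM.Fr1]
      exact s _ (hp (by norm_num))
    · rw [hM.Fr _ (by omega)]
      exact Submodule.zero_mem _
  · rw [hM.Fc]
    exact Submodule.zero_mem _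
  · rw [hM.Gp]
    exact Submodule.zero_mem _
  · rw [hM.Gp]
    exact Submodule.zero_mem _
  · rcases n with _ | n
    · rw [hM.Gr0]
      exact s _ (hp (by norm_num))
    · rw [hM.Gr _ (by omega)]
      exact Submodule.zero_mem _
  · rw [hM.Gc]
    exact Submodule.zero_mem _

/-- images of submodules -/
theorem Ss.map {E₂ : Type*} [AddCommGroup E₂] [Module k E₂] {ρ₂ : Representation k (SpecialLinearGroup (Fin 2) K) E₂}
    {Z : Submodule k E} (hZ : Ss ρ Z) {α : SpecialLinearGroup (Fin 2) K ≃* SpecialLinearGroup (Fin 2) K} {f : E →ₗ[k] E₂}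
    (hf : ∀ s v, f (ρ s v) = ρ₂ (α s) (f v)) : Ss ρ₂ (Z.map f) := by
  intro g v hv
  obtain ⟨v, hv, rfl⟩ := hv
  refine ⟨ρ (α.symm g) v, hZ _ _ hv, ?_⟩
  rw [hf, α.apply_symm_apply]

theorem finrank_map_inj {E₂ : Type*} [AddCommGroup E₂] [Module k E₂] {f : E →ₗ[k] E₂} (hf : Function.Injective f)
    (Z : Submodule k E) : finrank k (Z.map f) = finrank k Z :=
  (LinearEquiv.finrank_eq (Submodule.equivMapOfInjective f hf Z)).symm

/-- **the three submodules are invariant under normalizing maps** -/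
theorem Ms.inv3 [FiniteDimensional k E] (hM : Ms ι ρ F G p r c) {Z : Submodule k E}
    (hZ : Z = spC hM.bs ∨ Z = spY hM.bs ∨ Z = spL hM.bs)
    {α : SpecialLinearGroup (Fin 2) K ≃* SpecialLinearGroup (Fin 2) K} {f : E →ₗ[k] E} (hinj : Function.Injective f)
    (hf : ∀ s v, f (ρ s v) = ρ (α s) (f v)) : Ss ρ Z ∧ ∀ v ∈ Z, f v ∈ Z := by
  have h := hM.bs
  have hs : Ss ρ Z := by
    rcases hZ with rfl | rfl | rfl
    · exact hM.ss_spC
    · exact hM.ss_spY
    · exact hM.ss_spL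
  refine ⟨hs, fun v hv => ?_⟩
  have h1 := (hs.map hf).st
  have h2 := finrank_map_inj hinj Z
  have h3 : Z.map f = Z := by
    rcases hZ with rfl | rfl | rfl
    · exact eq_spC h h1 (by rw [h2, finrank_spC])
    · exact eq_spY h h1 (by rw [h2, finrank_spY])
    · exact eq_spL h h1 (by rw [h2, finrank_spL])
  have h4 : f v ∈ Z.map f := ⟨v, hv, rfl⟩
  rwa [h3] at h4

end sub

end Cfsg.Agent.R2.H14.E11
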