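import Cfsg.Agent.R2.H14.E11.Expl
import Cfsg.Agent.R2.H14.E11.Hm

/-!
# S5749, S5750, box E11: the invariant form for which `x` is skew (helper14)
-/

set_option autoImplicit false
set_option linter.unusedSectionVars false
set_option linter.unusedSimpArgs false

namespace Cfsg.Agent.R2.H14.E11

open Module

section gen

variable {k : Type*} [Field k] [CharP k 11] {V : Type*} [AddCommGroup V] [Module k V]
variable {N H W : V →ₗ[k] V} {p r c : ℕ → V} {B : V →ₗ[k] V →ₗ[k] k} {s₁ s₂ s₃ : k} {x : V →ₗ[k] V}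

/-- the shape of `x` -/
structure Xf (x : V →ₗ[k] V) (p r c : ℕ → V) (p1 p2 q1 q2 q3 s : k) : Prop where
  xp : ∀ n, x (p n) = p1 • p (n + 7) + p2 • r (n + 9)
  xr : ∀ n, x (r n) = q1 • p (n + 5) + q2 • r (n + 7) + q3 • c (n + 3)
  xc : ∀ n, x (c n) = s • p (n + 9)

variable {p1 p2 q1 q2 q3 s : k}

theorem Sf.skew_one (hB : Sf B p r c s₁ s₂ s₃) (hx : Xf x p r c p1 p2 q1 q2 q3 s)
    (h : ∀ v w, B (x v) w + B v (x w) = 0) : q1 * s₂ + q2 * s₁ = p1 * s₁ ∧ q3 * s₃ = s * s₁ := by
  constructor
  · have h1 := h (p 0) (r 3)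
    rw [hx.xp, hx.xr] at h1
    simp [hB.pp, hB.pr, hB.rr, hB.pc] at h1
    linear_combination h1
  · have h1 := h (r 0) (c 1)
    rw [hx.xr, hx.xc] at h1
    simp [hB.pc, hB.rc, hB.cc, hB.rp] at h1
    linear_combination -h1

theorem Sf.skew_two (h : Bs N H W p r c) (hB : Sf B p r c s₁ s₂ s₃) (hx : Xf x p r c p1 p2 q1 q2 q3 s)
    (h1 : q1 * s₂ + q2 * s₁ = p1 * s₁) (h2 : q3 * s₃ = s * s₁) (v w : V) : B (x v) w + B v (x w) = 0 := by
  have pp : ∀ i j, B (x (p i)) (p j) + B (p i) (x (p j)) = 0 := by
    intro i j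
    simp only [hx.xp, map_add, map_smul, LinearMap.add_apply, LinearMap.smul_apply, smul_eq_mul, hB.pp, hB.pr, hB.rp]
    by_cases hij : i + j = 1
    · rw [if_pos (by omega), if_pos (by omega), if_pos (by omega), if_pos (by omega)]
      ring
    · rw [if_neg (by omega), if_neg (by omega), if_neg (by omega), if_neg (by omega)]
      ring
  have pr : ∀ i j, B (x (p i)) (r j) + B (p i) (x (r j)) = 0 := by
    intro i j
    simp only [hx.xp, hx.xr, map_add, map_smul, LinearMap.add_apply, LinearMap.smul_apply, smul_eq_mul, hB.pp, hB.pr,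
      hB.rr, hB.pc]
    by_cases hij : i + j = 3
    · rw [if_pos (by omega), if_neg (by omega), if_pos (by omega), if_pos (by omega)]
      linear_combination (-1) ^ i * h1
    · rw [if_neg (by omega), if_neg (by omega), if_neg (by omega), if_neg (by omega)]
      ring
  have pc : ∀ i j, B (x (p i)) (c j) + B (p i) (x (c j)) = 0 := by
    intro i j
    simp only [hx.xp, hx.xc, map_add, map_smul, LinearMap.add_apply, LinearMap.smul_apply, smul_eq_mul, hB.pp, hB.pc,
      hB.rc]
    rw [if_neg (by omega)]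
    ring
  have rp : ∀ i j, B (x (r i)) (p j) + B (r i) (x (p j)) = 0 := by
    intro i j
    simp only [hx.xp, hx.xr, map_add, map_smul, LinearMap.add_apply, LinearMap.smul_apply, smul_eq_mul, hB.pp, hB.rp,
      hB.rr, hB.cp]
    by_cases hij : i + j = 3
    · rw [if_pos (by omega), if_pos (by omega), if_pos (by omega), if_neg (by omega)]
      linear_combination (-(-1) ^ i) * h1
    · rw [if_neg (by omega), if_neg (by omega), if_neg (by omega), if_neg (by omega)]
      ring
  have rr : ∀ i j, B (x (r i)) (r j) + B (r i) (x (r j)) = 0 := by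
    intro i j
    simp only [hx.xr, map_add, map_smul, LinearMap.add_apply, LinearMap.smul_apply, smul_eq_mul, hB.pr, hB.rp,
      hB.rr, hB.cr, hB.rc]
    by_cases hij : i + j = 5
    · rw [if_pos (by omega), if_neg (by omega), if_pos (by omega), if_neg (by omega)]
      ring
    · rw [if_neg (by omega), if_neg (by omega), if_neg (by omega), if_neg (by omega)]
      ring
  have rc : ∀ i j, B (x (r i)) (c j) + B (r i) (x (c j)) = 0 := by
    intro i j
    simp only [hx.xr, hx.xc, map_add, map_smul, LinearMap.add_apply, LinearMap.smul_apply, smul_eq_mul, hB.pc, hB.rc,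
      hB.cc, hB.rp]
    by_cases hij : i + j = 1
    · rw [if_pos (by omega), if_pos (by omega)]
      linear_combination (-(-1) ^ i) * h2
    · rw [if_neg (by omega), if_neg (by omega)]
      ring
  have cp : ∀ i j, B (x (c i)) (p j) + B (c i) (x (p j)) = 0 := by
    intro i j
    simp only [hx.xp, hx.xc, map_add, map_smul, LinearMap.add_apply, LinearMap.smul_apply, smul_eq_mul, hB.pp, hB.cp,
      hB.cr]
    rw [if_neg (by omega)]
    ring
  have cr : ∀ i j, B (x (c i)) (r j) + B (c i) (x (r j)) = 0 := by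
    intro i j
    simp only [hx.xr, hx.xc, map_add, map_smul, LinearMap.add_apply, LinearMap.smul_apply, smul_eq_mul, hB.pr, hB.cr,
      hB.cc, hB.cp]
    by_cases hij : i + j = 1
    · rw [if_pos (by omega), if_pos (by omega)]
      linear_combination (-1) ^ i * h2
    · rw [if_neg (by omega), if_neg (by omega)]
      ring
  have cc : ∀ i j, B (x (c i)) (c j) + B (c i) (x (c j)) = 0 := by
    intro i j
    simp only [hx.xc, map_smul, LinearMap.smul_apply, smul_eq_mul, hB.pc, hB.cp]
    ring
  have hf : ∀ w' : V, (∀ i, B (x (p i)) w' + B (p i) (x w') = 0) → (∀ i, B (x (r i)) w' + B (r i) (x w') = 0) →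
      (∀ i, B (x (c i)) w' + B (c i) (x w') = 0) → ∀ v', B (x v') w' + B v' (x w') = 0 := by
    intro w' e1 e2 e3 v'
    have e4 : (B.flip w').comp x + B.flip (x w') = 0 := h.ext (fun i => e1 i) (fun i => e2 i) fun i => e3 i
    exact LinearMap.congr_fun e4 v'
  have e4 : B (x v) + (B v).comp x = 0 := by
    refine h.ext (fun j => ?_) (fun j => ?_) fun j => ?_
    · exact hf (p j) (fun i => pp i j) (fun i => rp i j) (fun i => cp i j) v
    · exact hf (r j) (fun i => pr i j) (fun i => rr i j) (fun i => cr i j) v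
    · exact hf (c j) (fun i => pc i j) (fun i => rc i j) (fun i => cc i j) v
  exact LinearMap.congr_fun e4 w

/-- forms with zero coefficients vanish -/
theorem Sf.zero (h : Bs N H W p r c) (hB : Sf B p r c 0 0 0) : B = 0 := by
  refine h.ext (fun i => ?_) (fun i => ?_) fun i => ?_
  · rw [LinearMap.zero_apply]
    refine h.ext (fun j => ?_) (fun j => ?_) fun j => ?_
    · rw [hB.pp, mul_zero, ite_self, LinearMap.zero_apply]
    · rw [hB.pr, mul_zero, ite_self, LinearMap.zero_apply]
    · rw [hB.pc, LinearMap.zero_apply]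
  · rw [LinearMap.zero_apply]
    refine h.ext (fun j => ?_) (fun j => ?_) fun j => ?_
    · rw [hB.rp, mul_zero, ite_self, LinearMap.zero_apply]
    · rw [hB.rr, mul_zero, mul_zero, ite_self, LinearMap.zero_apply]
    · rw [hB.rc, LinearMap.zero_apply]
  · rw [LinearMap.zero_apply]
    refine h.ext (fun j => ?_) (fun j => ?_) fun j => ?_
    · rw [hB.cp, LinearMap.zero_apply]
    · rw [hB.cr, LinearMap.zero_apply]
    · rw [hB.cc, mul_zero, ite_self, LinearMap.zero_apply]

end gen

end Cfsg.Agent.R2.H14.E11
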