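import Cfsg.Agent.R2.H14.E11.Pa

/-!
# S5749, S5750, box E11: the canonical nilpotent derivation (helper14)

* `Ms.white`, `Ms.theta`, `Ms.delta`, `Ms.bf`;
* `Yv` : the vector `y ∈ V'`; `x = D(v₁₂, y)` commutes with the unipotent group, `x² = 0`, `x ≠ 0`; `Ms.uniq`.
-/

set_option autoImplicit false
set_option linter.unusedSectionVars false
set_option linter.unusedSimpArgs false

namespace Cfsg.Agent.R2.H14.E11

open Module Matrix Cfsg.Lie Cfsg.Agent.H943.SL2Rel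
open Cfsg.Agent.H952.F4 (sh cr tf)
open Cfsg.Agent.H952.F4.Jord
open Cfsg.Agent.R2.GEO (crB crB_apply tfB tfB_apply kr finrank_kr_white)
open Cfsg.Agent.R2.H9.E6 (Dop Dop_apply tf_zero_left tf_zero_right cr_zero_left cr_zero_right tf_Dop Dop_add_left
  Dop_add_right Dop_smul_left Dop_smul_right Dop_cr)

universe v w

variable {k : Type v} [Field k] [CharP k 11] {K : Type w} [Field K] [CharP K 11]
variable {ι : K →+* k} {ρ ρ' : Representation k (SpecialLinearGroup (Fin 2) K) (I27 → k)}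
variable {F G : (I27 → k) →ₗ[k] (I27 → k)} {p r c : ℕ → I27 → k}

/-- **the highest weight vector is white** -/
theorem Ms.white (hP : Pr ρ ρ') (hM : Ms ι ρ F G p r c) : sh (p 10) = 0 := by
  have hb := hM.bs.bf (bF_comm (p 10)) (hM.bN hP) (hM.bH hP)
  have h1 : cr (p 10) (p 10) = 0 := by
    rw [← bF_zero]
    refine hM.bs.ext (fun n => ?_) (fun n => ?_) fun n => ?_
    · rw [hb.pp, if_neg (by omega), LinearMap.zero_apply]
    · rw [hb.pr, if_neg (by omega), if_neg (by omega), LinearMap.zero_apply]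
    · rw [hb.pc, if_neg (by omega), LinearMap.zero_apply]
  rw [cr_self] at h1
  exact (smul_eq_zero.1 h1).resolve_left two_ne

theorem Ms.ker17 (hP : Pr ρ ρ') (hM : Ms ι ρ F G p r c) : finrank k (LinearMap.ker (bF (p 10))) = 17 := by
  rw [ker_bF]
  exact finrank_kr_white hM.p_ne (hM.white hP)

/-- the coefficients of the form -/
theorem Ms.bf (hP : Pr ρ ρ') (hM : Ms ι ρ F G p r c) : Bf (bF (p 10)) p r c (bF (p 10) (p 0) (p 2))
    (bF (p 10) (p 0) (r 4)) (bF (p 10) (r 0) (r 6)) (bF (p 10) (p 0) (c 0)) (bF (p 10) (r 0) (c 2)) 0 := by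
  have hb := hM.bs.bf (bF_comm (p 10)) (hM.bN hP) (hM.bH hP)
  have h1 := hb.theta hM.bs (by rw [hM.ker17 hP]; norm_num)
  rw [h1] at hb
  exact hb

/-- the datum: the form on `V` with its coefficients -/
structure Cx (ι : K →+* k) (ρ ρ' : Representation k (SpecialLinearGroup (Fin 2) K) (I27 → k))
    (F G : (I27 → k) →ₗ[k] (I27 → k)) (p r c : ℕ → I27 → k) (α β γ δ η : k) (y : I27 → k) : Prop where
  hP : Pr ρ ρ'
  hM : Ms ι ρ F G p r c
  hb : Bf (bF (p 10)) p r c α β γ δ η 0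
  hΔ : α * γ - β ^ 2 ≠ 0
  hy : ∀ v, tf y v = α * hM.bs.A 3 v + β * hM.bs.B 5 v + δ * hM.bs.C 1 v

theorem Ms.exists_cx (hP : Pr ρ ρ') (hM : Ms ι ρ F G p r c) : ∃ (α β γ δ η : k) (y : I27 → k),
    Cx ι ρ ρ' F G p r c α β γ δ η y := by
  have hb := hM.bf hP
  obtain ⟨y, hy⟩ := exists_tf (bF (p 10) (p 0) (p 2) • hM.bs.A 3 + bF (p 10) (p 0) (r 4) • hM.bs.B 5 +
    bF (p 10) (p 0) (c 0) • hM.bs.C 1)
  exact ⟨_, _, _, _, _, y, hP, hM, hb, hb.delta hM.bs (hM.ker17 hP).le, fun v => by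
    rw [hy]
    rfl⟩

variable {α β γ δ η : k} {y : I27 → k}

section cx

variable (X : Cx ι ρ ρ' F G p r c α β γ δ η y)
include X

theorem Cx.yN (v : I27 → k) : tf y (Nr ρ v) = bF (p 10) (p 0) v := by
  have h := X.hM.bs
  rw [X.hy, bF_comm, X.hb.v_p0 h, h.A_N (by norm_num), h.B_N (by norm_num), h.C_N (by norm_num)]

theorem Cx.yF (v : I27 → k) : tf y (F v) = 0 := by
  have h1 : (tfB k y).comp F = 0 := by
    refine X.hM.bs.ext (fun n => ?_) (fun n => ?_) fun n => ?_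
    · rw [LinearMap.comp_apply, X.hM.Fp, map_zero, LinearMap.zero_apply]
    · rw [LinearMap.comp_apply, LinearMap.zero_apply]
      rcases n with _ | _ | n
      · rw [X.hM.Fr0, map_smul, tfB_apply, X.hy, X.hM.bs.A_p, X.hM.bs.B_p, X.hM.bs.C_p, if_neg (by norm_num)]
        simp
      · rw [X.hM.Fr1, map_smul, tfB_apply, X.hy, X.hM.bs.A_p, X.hM.bs.B_p, X.hM.bs.C_p, if_neg (by norm_num)]
        simp
      · rw [X.hM.Fr _ (by omega), map_zero]
    · rw [LinearMap.comp_apply, X.hM.Fc, map_zero, LinearMap.zero_apply]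
  exact LinearMap.congr_fun h1 v

theorem Cx.yG (v : I27 → k) : tf y (G v) = 0 := by
  have h1 : (tfB k y).comp G = 0 := by
    refine X.hM.bs.ext (fun n => ?_) (fun n => ?_) fun n => ?_
    · rw [LinearMap.comp_apply, X.hM.Gp, map_zero, LinearMap.zero_apply]
    · rw [LinearMap.comp_apply, LinearMap.zero_apply]
      rcases n with _ | n
      · rw [X.hM.Gr0, map_smul, tfB_apply, X.hy, X.hM.bs.A_p, X.hM.bs.B_p, X.hM.bs.C_p, if_neg (by norm_num)]
        simp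
      · rw [X.hM.Gr _ (by omega), map_zero]
    · rw [LinearMap.comp_apply, X.hM.Gc, map_zero, LinearMap.zero_apply]
  exact LinearMap.congr_fun h1 v

theorem Cx.bpow (j : ℕ) (v : I27 → k) : bF (p 10) (p 0) ((Nr ρ ^ j) v) = (-1) ^ j * bF (p 10) (p j) v := by
  induction j generalizing v with
  | zero => rw [pow_zero, pow_zero, one_mul, Module.End.one_apply]
  | succ j ih =>
    rw [pow_succ, Module.End.mul_apply, ih, ← neg_neg (bF (p 10) (p j) (Nr ρ v)), ← X.hM.bN X.hP, X.hM.bs.Np, pow_succ]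
    ring

/-- `u(t) y - y ∈ v₁₂ × V` -/
theorem Cx.yu (t : K) : ∃ v0, ρ' (Cfsg.Agent.H943.SL2Rel.u t) y = y + cr (p 10) v0 := by
  refine ⟨∑ j ∈ Finset.range 10, (-(ι t ^ (j + 1) * (((j + 1).factorial : k))⁻¹)) • p j, ?_⟩
  have h2 : ∀ v, tf (ρ' (Cfsg.Agent.H943.SL2Rel.u t) y) v = tf (y + cr (p 10) (∑ j ∈ Finset.range 10,
      (-(ι t ^ (j + 1) * (((j + 1).factorial : k))⁻¹)) • p j)) v := by
    intro v
    have h3 : tf (ρ' (Cfsg.Agent.H943.SL2Rel.u t) y) v = tf y (ρ (Cfsg.Agent.H943.SL2Rel.u (-t)) v) := by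
      rw [← X.hP.swap.pt (Cfsg.Agent.H943.SL2Rel.u t) y, ← rho_mul, ← u_add, add_neg_cancel, u_zero, map_one,
        Module.End.one_apply]
    have e := congrArg (tfB k y) (X.hM.u (-t) v)
    rw [map_add, map_add, map_smul, map_smul, map_sum] at e
    simp only [map_smul, tfB_apply] at e
    rw [h3, e, X.yF, X.yG, smul_zero, smul_zero, add_zero, add_zero, tf_add_left, ← bF_apply, map_sum,
      LinearMap.sum_apply, Finset.sum_range_succ', add_comm]
    congr 1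
    · simp
    · refine Finset.sum_congr rfl fun j _ => ?_
      rw [pow_succ' (Nr ρ), Module.End.mul_apply, X.yN, X.bpow, map_smul, LinearMap.smul_apply,
        smul_eq_mul, smul_eq_mul, map_neg, neg_pow]
      have h4 : ((-1 : k)) ^ (j + 1) * (-1) ^ j = -1 := by
        rw [← pow_add, show j + 1 + j = 2 * j + 1 by ring, pow_add, pow_mul]
        simp
      linear_combination (ι t ^ (j + 1) * (((j + 1).factorial : k))⁻¹ * bF (p 10) (p j) v) * h4
  exact sub_eq_zero.1 (tf_nondeg fun v => by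
    rw [sub_eq_add_neg, tf_add_left, ← neg_one_smul k (y + _), tf_smul_left, h2]
    ring)

/-- **`x` commutes with the unipotent group** -/
theorem Cx.xu (t : K) (v : I27 → k) : Dop (p 10) y (ρ (Cfsg.Agent.H943.SL2Rel.u t) v) =
    ρ (Cfsg.Agent.H943.SL2Rel.u t) (Dop (p 10) y v) := by
  obtain ⟨v0, hv0⟩ := X.yu t
  rw [X.hP.dop, X.hM.up, hv0, Dop_add_right, Dop_cr (X.hM.white X.hP), add_zero]

theorem Cx.xN (v : I27 → k) : Dop (p 10) y (Nr ρ v) = Nr ρ (Dop (p 10) y v) :=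
  Nr_comm (s := RingHom.id k) (Dop (p 10) y) (fun n _ v => X.xu (n : K) v) v

theorem Cx.yH : ρ' (h tw) y = (4 : k) • y := by
  have h2 : ∀ v, tf (ρ' (h tw) y) v = tf ((4 : k) • y) v := by
    intro v
    rw [← rho_inv' ρ (h tw) v, X.hP.swap.pt, tf_smul_left]
    generalize ρ (h tw)⁻¹ v = v
    have h := X.hM.bs
    have h5 := four_five (k := k)
    rw [X.hy, X.hy, h.A_H, h.B_H, h.C_H]
    have h6 : (4 : k) ^ (5 + 4) = 4 ^ 4 := by rw [show 5 + 4 = 4 + 5 by norm_num, four_add]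
    rw [h6]
    linear_combination (-(α * h.A 3 v + β * h.B 5 v + δ * h.C 1 v)) * h5
  exact sub_eq_zero.1 (tf_nondeg fun v => by
    rw [sub_eq_add_neg, tf_add_left, ← neg_one_smul k ((4 : k) • y), tf_smul_left, h2]
    ring)

/-- **`x` has weight 14** -/
theorem Cx.xH (v : I27 → k) : ρ (h tw) (Dop (p 10) y v) = (4 : k) ^ 2 • Dop (p 10) y (ρ (h tw) v) := by
  rw [X.hP.dop, X.hM.Hp, X.yH, Dop_smul_left, Dop_smul_right, smul_smul, ← sq]

theorem Cx.p_ne : p 10 ≠ 0 := X.hM.p_ne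

theorem Cx.x_ker {v : I27 → k} (hv : bF (p 10) v = 0) : Dop (p 10) y v = tf y v • p 10 := by
  rw [Dop_apply, bF_zero.1 hv, cr_zero_right, sub_zero]

/-- **`x ≠ 0`** -/
theorem Cx.x_ne : Dop (p 10) y (γ • p 3 - β • r 5) ≠ 0 := by
  have h := X.hM.bs
  have h1 : bF (p 10) (γ • p 3 - β • r 5) = 0 := by
    refine X.hb.mem_ker h ?_ ?_ ?_ ?_ ?_ ?_ ?_ ?_ ?_ ?_
    · simp [h.A_p, h.A_r]
    · simp [h.B_p, h.B_r]
    · simp [h.B_p, h.B_r]
    · simp [h.B_p, h.B_r]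
    · rw [X.hb.v_r0 h]
      simp [h.A_p, h.A_r, h.B_p, h.B_r, h.C_p, h.C_r]
    · rw [X.hb.v_r1 h]
      simp [h.A_p, h.A_r, h.B_p, h.B_r, h.C_p, h.C_r]
      ring
    · rw [X.hb.v_r2 h]
      simp [h.A_p, h.A_r, h.B_p, h.B_r, h.C_p, h.C_r]
    · rw [X.hb.v_p0 h]
      simp [h.A_p, h.A_r, h.B_p, h.B_r, h.C_p, h.C_r]
    · rw [X.hb.v_p1 h]
      simp [h.A_p, h.A_r, h.B_p, h.B_r, h.C_p, h.C_r]
    · rw [X.hb.v_r3 h]
      simp [h.A_p, h.A_r, h.B_p, h.B_r, h.C_p, h.C_r]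
  rw [X.x_ker h1, X.hy]
  intro h2
  have h3 := (smul_eq_zero.1 h2).resolve_right X.p_ne
  apply X.hΔ
  rw [← h3]
  simp [h.A_p, h.A_r, h.B_p, h.B_r, h.C_p, h.C_r]
  ring

theorem Cx.yp (n : ℕ) (hn : n ≠ 3) : tf y (p n) = 0 := by
  have h := X.hM.bs
  rw [X.hy, h.A_p, h.B_p, h.C_p, if_neg (by omega)]
  simp

theorem Cx.yr (n : ℕ) (hn : n ≠ 5) : tf y (r n) = 0 := by
  have h := X.hM.bs
  rw [X.hy, h.A_r, h.B_r, h.C_r, if_neg (by omega)]
  simp

theorem Cx.yc (n : ℕ) (hn : n ≠ 1) : tf y (c n) = 0 := by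
  have h := X.hM.bs
  rw [X.hy, h.A_c, h.B_c, h.C_c, if_neg (by omega)]
  simp

theorem Cx.xp {n : ℕ} (hn : 5 ≤ n) : Dop (p 10) y (p n) = 0 := by
  rw [X.x_ker, X.yp n (by omega), zero_smul]
  exact LinearMap.ext fun w => by rw [bF_comm, X.hb.v_p X.hM.bs w hn, LinearMap.zero_apply]

theorem Cx.xr {n : ℕ} (hn : 7 ≤ n) : Dop (p 10) y (r n) = 0 := by
  rw [X.x_ker, X.yr n (by omega), zero_smul]
  exact LinearMap.ext fun w => by rw [bF_comm, X.hb.v_r X.hM.bs w hn, LinearMap.zero_apply]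

theorem Cx.xc {n : ℕ} (hn : 3 ≤ n) : Dop (p 10) y (c n) = 0 := by
  rw [X.x_ker, X.yc n (by omega), zero_smul]
  exact LinearMap.ext fun w => by rw [bF_comm, X.hb.v_c X.hM.bs w hn, LinearMap.zero_apply]

theorem Cx.tfpy : tf (p 10) y = 0 := by rw [tf_comm, X.yp 10 (by norm_num)]

/-- `v₁₂ × (y × (v₁₂ × v)) = 0` -/
theorem Cx.pyp (v : I27 → k) : cr (p 10) (cr y (cr (p 10) v)) = 0 := by
  refine tf_nondeg fun w => ?_
  have h1 := Dop_cr (X.hM.white X.hP) w v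
  rw [Dop_apply, sub_eq_zero] at h1
  rw [cr_comm, tf_cr, tf_cr, ← tf_cr]
  rw [tf_cr, cr_comm (cr (p 10) v), ← h1, tf_smul_right, tf_comm y, X.tfpy, mul_zero]

/-- **`x² = 0`** -/
theorem Cx.xx (v : I27 → k) : Dop (p 10) y (Dop (p 10) y v) = 0 := by
  have h := X.hM.bs
  let φ : (I27 → k) →ₗ[k] k := bF (p 10) (sh y)
  have key : ∀ v, Dop (p 10) y (Dop (p 10) y v) = (-(2 * φ v)) • p 10 := by
    intro v
    rw [Dop_apply (p 10) y v, map_sub, map_smul, X.xp (by norm_num), smul_zero, zero_sub, Dop_apply, X.pyp, cr_zero_right,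
      sub_zero, ← neg_smul]
    congr 1
    rw [← tf_cr, cr_self, tf_smul_left, cr_comm (p 10) v, ← tf_cr, bF_comm]
    show -(2 * tf (cr (sh y) v) (p 10)) = -(2 * tf (cr (p 10) v) (sh y))
    rw [cr_comm (p 10) v, tf_cr, tf_comm (sh y)]
  have hN : ∀ v, φ (Nr ρ v) = 0 := by
    intro v
    have h1 := key (Nr ρ v)
    rw [X.xN, X.xN, key, map_smul, h.Np, h.zp, smul_zero] at h1
    have h2 := (smul_eq_zero.1 h1.symm).resolve_right X.p_ne
    rw [neg_eq_zero] at h2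
    exact (mul_eq_zero.1 h2).resolve_left two_ne
  have hH : ∀ v, φ (ρ (Cfsg.Agent.H943.SL2Rel.h tw) v) = 4 ^ 2 * φ v := by
    intro v
    have h1 := key (ρ (Cfsg.Agent.H943.SL2Rel.h tw) v)
    have h2 := congrArg (ρ (Cfsg.Agent.H943.SL2Rel.h tw)) (key v)
    rw [X.xH, X.xH, map_smul, h1, map_smul, X.hM.Hp, smul_smul, smul_smul, smul_smul] at h2
    have h3 := smul_left_injective k X.p_ne h2
    have h4 : (2 : k) * (4 ^ 4 * φ (ρ (Cfsg.Agent.H943.SL2Rel.h tw) v) - 4 * φ v) = 0 := by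
      linear_combination -h3
    have h5 := (mul_eq_zero.1 h4).resolve_left two_ne
    have h6 := four_five (k := k)
    linear_combination 4 * h5 - φ (ρ (Cfsg.Agent.H943.SL2Rel.h tw) v) * h6
  have hz : ∀ {x : I27 → k} {s : ℕ}, ρ (Cfsg.Agent.H943.SL2Rel.h tw) x = (4 : k) ^ s • x → s % 5 ≠ 2 → φ x = 0 := by
    intro x s hs h4
    have h1 := hH x
    rw [hs, map_smul, smul_eq_mul] at h1
    have h2 : ((4 : k) ^ s - 4 ^ 2) * φ x = 0 := by rw [sub_mul, h1, sub_self]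
    exact (mul_eq_zero.1 h2).resolve_left (sub_ne_zero.2 (four_ne h4))
  have h0 : φ = 0 := by
    refine h.ext (fun n => ?_) (fun n => ?_) fun n => ?_
    · rw [LinearMap.zero_apply]
      rcases n with _ | n
      · exact hz (h.Hp 0) (by norm_num)
      · rw [← h.Np]
        exact hN _
    · rw [LinearMap.zero_apply]
      rcases n with _ | n
      · exact hz (h.Hr 0) (by norm_num)
      · rw [← h.Nr]
        exact hN _
    · rw [LinearMap.zero_apply]
      rcases n with _ | n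
      · exact hz (h.Hc 0) (by norm_num)
      · rw [← h.Nc]
        exact hN _
  rw [key, h0, LinearMap.zero_apply, mul_zero, neg_zero, zero_smul]

/-- **uniqueness** -/
theorem Cx.uniq {b' : I27 → k} (hN : ∀ v, Dop (p 10) b' (Nr ρ v) = Nr ρ (Dop (p 10) b' v))
    (hH : ∀ v, ρ (h tw) (Dop (p 10) b' v) = (4 : k) ^ 2 • Dop (p 10) b' (ρ (h tw) v)) :
    ∃ d : k, ∀ v, Dop (p 10) b' v = d • Dop (p 10) y v := by
  have h := X.hM.bs
  have hk : ∀ v, bF (p 10) v = 0 → Dop (p 10) b' v = tf b' v • p 10 := by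
    intro v hv
    rw [Dop_apply, bF_zero.1 hv, cr_zero_right, sub_zero]
  have kN : ∀ v, bF (p 10) v = 0 → bF (p 10) (Nr ρ v) = 0 := by
    intro v hv
    rw [bF_zero] at hv ⊢
    rw [X.hM.crN X.hP, hv, map_zero]
  have kH : ∀ v, bF (p 10) v = 0 → bF (p 10) (ρ (Cfsg.Agent.H943.SL2Rel.h tw) v) = 0 := by
    intro v hv
    rw [bF_zero] at hv ⊢
    have h1 := X.hM.crH X.hP v
    rw [hv, map_zero] at h1
    exact (smul_eq_zero.1 h1.symm).resolve_left four_ne0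
  obtain ⟨d, hd⟩ := X.hb.uniq h X.hΔ (f := tfB k b') (by
    intro v hv
    have h1 := hN v
    rw [hk _ (kN v hv), hk _ hv, map_smul, h.Np, h.zp, smul_zero] at h1
    exact (smul_eq_zero.1 h1).resolve_right X.p_ne) (by
    intro v hv
    have h1 := hH v
    rw [hk _ (kH v hv), hk _ hv, map_smul, X.hM.Hp, smul_smul, smul_smul] at h1
    have h2 := smul_left_injective k X.p_ne h1
    have h6 := four_five (k := k)
    show tf b' (ρ (Cfsg.Agent.H943.SL2Rel.h tw) v) = 4 ^ 4 * tf b' v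
    have h7 : (4 : k) * (tf b' (ρ (Cfsg.Agent.H943.SL2Rel.h tw) v) - 4 ^ 4 * tf b' v) = 0 := by
      have h8 : (4 : k) * (4 * tf b' (ρ (Cfsg.Agent.H943.SL2Rel.h tw) v) - tf b' v) = 0 := by linear_combination -h2
      have h9 := (mul_eq_zero.1 h8).resolve_left four_ne0
      linear_combination h9 - tf b' v * h6
    exact sub_eq_zero.1 ((mul_eq_zero.1 h7).resolve_left four_ne0))
  refine ⟨d, fun v => ?_⟩
  obtain ⟨v0, hv0⟩ := exists_cr (P := p 10) (z := b' - d • y) (by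
    intro v hv
    have h1 := hd v (bF_zero.2 hv)
    rw [sub_eq_add_neg, tf_add_left, ← neg_one_smul k (d • y), tf_smul_left, tf_smul_left, X.hy]
    rw [tfB_apply] at h1
    rw [h1]
    ring)
  have h2 : b' = d • y + cr (p 10) v0 := by rw [← hv0]; abel
  rw [h2, Dop_add_right, Dop_cr (X.hM.white X.hP), add_zero, Dop_smul_right]

end cx

end Cfsg.Agent.R2.H14.E11
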