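import Cfsg.Agent.R2.H28.SL2.SplitE
import Cfsg.Agent.R2.H14.E11.Hm

/-!
# S5749, S5750, box E11: vectors which generate `V₁₀` (helper14)

* `ss_inv` : `x + S x` is fixed by `SL(2, K)` if `x` is fixed by the Borel group;
* `wE` : `w E₁₁ w x = - E_{q - 2} w x`;
* `lift10` : vectors of weight 10 which are the image of the highest weight vector of `V₁₀`.
-/

set_option autoImplicit false
set_option linter.unusedSectionVars false

namespace Cfsg.Agent.R2.H14.E11

open Module Matrix Cfsg.Agent.H943.SL2Rel Cfsg.Agent.H943.SL2Mod Cfsg.Agent.H943.RepAdd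
open Cfsg.Agent.R2.H28.SL2

universe u v w

variable {k : Type u} [Field k] {K : Type w} [Field K] [Fintype K] [DecidableEq K] (τ : K →+* k)

/-- weight vectors -/
def Wt {V : Type*} [AddCommGroup V] [Module k V] (ρ : Representation k (SpecialLinearGroup (Fin 2) K) V) (e : ℕ) (v : V) :
    Prop := ∀ c : Kˣ, ρ (h c) v = τ c ^ e • v

/-- fixed by the unipotent group -/
def Uf {V : Type*} [AddCommGroup V] [Module k V] (ρ : Representation k (SpecialLinearGroup (Fin 2) K) V) (v : V) :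
    Prop := ∀ t : K, ρ (u t) v = v

/-- `t ↦ -1 / t` -/
def ne' (K : Type w) [Field K] : K ≃ K where
  toFun t := -t⁻¹
  invFun t := -t⁻¹
  left_inv t := by
    show -(-t⁻¹)⁻¹ = t
    rw [inv_neg, neg_neg, inv_inv]
  right_inv t := by
    show -(-t⁻¹)⁻¹ = t
    rw [inv_neg, neg_neg, inv_inv]

theorem ne'_apply (t : K) : ne' K t = -t⁻¹ := rfl

section gen

variable {V : Type*} [AddCommGroup V] [Module k V] (ρ : Representation k (SpecialLinearGroup (Fin 2) K) V)

theorem Wt.w {e : ℕ} {x : V} (hx : Wt τ ρ e x) (c : Kˣ) :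
    ρ (h c) (ρ Cfsg.Agent.H943.SL2Rel.w x) = τ (c⁻¹ : Kˣ) ^ e • ρ Cfsg.Agent.H943.SL2Rel.w x := by
  rw [apply_mul, h_w, ← apply_mul, hx, map_smul]

theorem wuw {x : V} (hu : Uf ρ x) {t : K} (ht : t ≠ 0) :
    ρ w (ρ (u t) (ρ w x)) = ρ (u (-t⁻¹)) (ρ (h (mi t ht)) (ρ w x)) := by
  rw [apply_mul3, w_u_w t ht, map_mul, Module.End.mul_apply, hu, apply_mul3]

/-- **the invariant vector** -/
theorem ss_inv {x : V} (hu : Uf ρ x) (hh : ∀ c, ρ (h c) x = x) (g : SpecialLinearGroup (Fin 2) K) :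
    ρ g (x + SS ρ x) = x + SS ρ x := by
  let X : Subgroup (SpecialLinearGroup (Fin 2) K) :=
    { carrier := {g | ρ g (x + SS ρ x) = x + SS ρ x}
      mul_mem' := by
        intro a b ha hb
        show ρ (a * b) _ = _
        rw [rho_mul, show ρ b (x + SS ρ x) = x + SS ρ x from hb, show ρ a (x + SS ρ x) = x + SS ρ x from ha]
      one_mem' := by
        show ρ 1 _ = _
        rw [map_one, Module.End.one_apply]
      inv_mem' := by
        intro a ha
        show ρ a⁻¹ _ = _
        conv_lhs => rw [← show ρ a (x + SS ρ x) = x + SS ρ x from ha]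
        rw [rho_inv] }
  refine gen_uw X (fun t => ?_) ?_ g
  · show ρ (u t) (x + SS ρ x) = x + SS ρ x
    rw [map_add, hu, SS_u]
  · show ρ w (x + SS ρ x) = x + SS ρ x
    rw [map_add, SS_apply, map_sum]
    have h1 : ∀ t : K, ρ w (ρ (u t) (ρ w x)) = ρ (u (ne' K t)) (ρ w x) + if t = 0 then x - ρ w x else 0 := by
      intro t
      by_cases ht : t = 0
      · subst ht
        rw [if_pos rfl, ne'_apply, _root_.inv_zero, neg_zero, u_zero, map_one, Module.End.one_apply,
          apply_mul, w_w, hh]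
        abel
      · rw [wuw ρ hu ht, if_neg ht, add_zero, ne'_apply]
        congr 1
        have h2 := hh (mi t ht)⁻¹
        rw [apply_mul, h_w, ← apply_mul, h2]
    rw [Finset.sum_congr rfl fun t _ => h1 t, Finset.sum_add_distrib, Finset.sum_ite_eq' Finset.univ (0 : K),
      if_pos (Finset.mem_univ _), Equiv.sum_comp (ne' K) fun s => ρ (u s) (ρ w x)]
    abel

/-- **the identity** -/
theorem wE {x : V} (hu : Uf ρ x) (hx : Wt τ ρ 10 x) (hq : 11 < Fintype.card K - 1) :
    ρ w (Dm τ ρ 11 (ρ w x)) = -Dm τ ρ (Fintype.card K - 1 - 1) (ρ w x) := by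
  obtain ⟨Q, hQ⟩ : ∃ Q, Q = Fintype.card K - 1 := ⟨_, rfl⟩
  rw [Dm_apply, Dm_apply, map_neg, map_sum, neg_neg, ← hQ, ← Finset.sum_neg_distrib]
  rw [← Equiv.sum_comp (ne' K) fun s => τ s ^ (Q - (Q - 1)) • ρ (u s) (ρ w x)]
  refine Finset.sum_congr rfl fun t _ => ?_
  rw [show Q - (Q - 1) = 1 by omega, pow_one, map_smul, ne'_apply]
  by_cases ht : t = 0
  · subst ht
    rw [map_zero, zero_pow (by omega), _root_.inv_zero, neg_zero, map_zero, zero_smul, zero_smul, neg_zero]
  · have ht' : τ t ≠ 0 := (map_ne_zero τ).2 ht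
    rw [wuw ρ hu ht, Wt.w τ ρ hx, map_smul, smul_smul, ← neg_smul]
    congr 1
    have h1 : ((mi t ht)⁻¹ : Kˣ) = -Units.mk0 t ht := by
      rw [inv_eq_iff_eq_inv]
      apply Units.ext
      show -t⁻¹ = ((-Units.mk0 t ht)⁻¹ : Kˣ)
      rw [Units.val_inv_eq_inv_val, Units.val_neg, Units.val_mk0, inv_neg]
    rw [h1, Units.val_neg, Units.val_mk0, map_neg, Even.neg_pow (by decide), ← pow_add, map_neg, map_inv₀]
    congr 1
    apply eq_inv_of_mul_eq_one_left
    rw [← pow_succ, show Q - 11 + 10 + 1 = Q by omega, hQ]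
    exact powQ τ ht

end gen

variable [DecidableEq k] [CharP k 11] [CharP K 11] [Fact (Nat.Prime 11)] {a : ℕ} (hK : Fintype.card K = 11 ^ a)

include hK

theorem Q_one (ha : a = 1) : Fintype.card K - 1 = 10 := by rw [hK, ha]; norm_num

theorem Q_two (ha : 2 ≤ a) : 120 ≤ Fintype.card K - 1 := by
  have h1 : 11 ^ 2 ≤ 11 ^ a := Nat.pow_le_pow_right (by norm_num) ha
  omega

theorem a_pos : 1 ≤ a := by
  rcases Nat.eq_zero_or_pos a with h | h
  · rw [h, pow_zero] at hK
    have := Fintype.one_lt_card (α := K)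
    omega
  · exact h

/-- `E₂₂ = 0` implies `E_n = 0` for `n = q - 1, q - 2` -/
theorem Dm_top {V : Type*} [AddCommGroup V] [Module k V] (ρ : Representation k (SpecialLinearGroup (Fin 2) K) V)
    (ha : 2 ≤ a) {x : V} (hx : Dm τ ρ 11 (Dm τ ρ 11 x) = 0) :
    Dm τ ρ (Fintype.card K - 1) x = 0 ∧ Dm τ ρ (Fintype.card K - 1 - 1) x = 0 := by
  have hQ := Q_two hK ha
  have e := e11 k
  have h22 : Dm τ ρ 22 x = 0 := by
    rw [Dm_mul' τ ρ 11 hK (by norm_num) (by norm_num) (by omega)] at hx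
    refine (smul_eq_zero.1 hx).resolve_left ?_
    exact ne_of (k := k) _ (by decide)
  have key : ∀ n : ℕ, n ≤ 1 → Dm τ ρ (Fintype.card K - 1 - n) x = 0 := by
    intro n hn
    have h1 := Dm_mul' τ ρ 11 hK (m := Fintype.card K - 1 - n - 22) (n := 22) (by omega) (by norm_num) (by omega) x
    rw [h22, map_zero, show Fintype.card K - 1 - n - 22 + 22 = Fintype.card K - 1 - n by omega] at h1
    refine (smul_eq_zero.1 h1.symm).resolve_left ?_
    rw [Nat.choose_symm (by omega)]
    have h2 := choose_shift (k := k) 11 (a := a) n 22 (by omega)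
    rw [hK]
    intro h0
    rw [h0, mul_zero] at h2
    interval_cases n
    · exact ne_of (k := k) ((0 + 22).choose 22) (by decide) h2.symm
    · exact ne_of (k := k) ((1 + 22).choose 22) (by decide) h2.symm
  exact ⟨key 0 (by norm_num), key 1 (by norm_num)⟩

/-- **vectors which generate `V₁₀`** -/
theorem lift10 {V₁ : Type*} [AddCommGroup V₁] [Module k V₁] {σ : Representation k (SpecialLinearGroup (Fin 2) K) V₁}
    (hσ : IsV τ 11 σ 10) {m : V₁} (hm0 : m ≠ 0) (hmu : ∀ t, σ (u t) m = m)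
    {V : Type*} [AddCommGroup V] [Module k V] (ρ : Representation k (SpecialLinearGroup (Fin 2) K) V) {x : V}
    (hu : Uf ρ x) (hx : Wt τ ρ 10 x) (h2 : 2 ≤ a → Dm τ ρ 11 (Dm τ ρ 11 (ρ w x)) = 0)
    (hi : ∀ i, 2 ≤ i → i < a → Dm τ ρ (11 ^ i) (ρ w x) = 0)
    (h1 : a = 1 → ∀ v, (∀ g, ρ g v = v) → v = 0) :
    ∃ f : V₁ →ₗ[k] V, (∀ g y, f (σ g y) = ρ g (f y)) ∧ f m = x := by
  have ha := a_pos hK
  refine gen_hw τ 11 ρ hK hσ hm0 hmu hu hx ?_ ?_
  · unfold cb
    rcases Nat.lt_or_ge 1 a with ha2 | ha1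
    · have hQ := Q_two hK ha2
      rw [if_pos (by omega), zero_smul]
      have h3 := (Dm_top τ hK ρ ha2 (h2 ha2)).1
      rw [Dm_apply, neg_eq_zero] at h3
      rw [SS_apply, ← h3]
      refine Finset.sum_congr rfl fun t _ => ?_
      rw [Nat.sub_self, pow_zero, one_smul]
    · have ha' : a = 1 := by omega
      have hQ := Q_one hK ha'
      rw [hQ, if_neg (by norm_num), neg_one_smul]
      have h3 := h1 ha' (x + SS ρ x) (ss_inv ρ hu fun c => by
        have h4 := hx c
        have h5 := powQ τ c.ne_zero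
        rw [hQ] at h5
        rw [h4, h5, one_smul])
      exact eq_neg_of_add_eq_zero_right h3
  · intro i hia hlt
    rcases Nat.eq_zero_or_pos i with h0 | h0
    · subst h0
      norm_num at hlt
    · have h3 : 10 / 11 ^ i = 0 := by
        apply Nat.div_eq_of_lt
        calc 10 < 11 ^ 1 := by norm_num
          _ ≤ 11 ^ i := Nat.pow_le_pow_right (by norm_num) h0
      have h4 : en 11 10 i = 11 ^ i := by
        unfold en
        rw [h3, Nat.zero_mod, zero_add, one_mul]
      rw [h4]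
      rcases Nat.lt_or_ge 1 i with h5 | h5
      · exact hi i h5 hia
      · obtain rfl : i = 1 := by omega
        have hQ := Q_two hK hia
        have h6 := wE τ ρ hu hx (by omega)
        rw [(Dm_top τ hK ρ hia (h2 hia)).2, neg_zero] at h6
        rw [pow_one, ← rho_inv ρ w (Dm τ ρ 11 (ρ w x)), h6, map_zero]

/-- the criterion for fixed vectors -/
theorem uf_of_Dm {V : Type*} [AddCommGroup V] [Module k V] (ρ : Representation k (SpecialLinearGroup (Fin 2) K) V) {x : V}
    (h : ∀ i < a, Dm τ ρ (11 ^ i) x = 0) : Uf ρ x := by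
  intro t
  have h1 : ∀ n ∈ Finset.Icc 1 (Fintype.card K - 1), τ t ^ n • Dm τ ρ n x = 0 := by
    intro n hn
    rw [Finset.mem_Icc] at hn
    have h2 : Dm τ ρ n x = 0 := by
      refine Dm_zero_of τ 11 ρ hK (c := 0) (fun i hi _ => ?_) hn.2 ?_
      · have : en 11 0 i = 11 ^ i := by
          unfold en
          rw [Nat.zero_div, Nat.zero_mod, zero_add, one_mul]
        rw [this]
        exact h i hi
      · rw [Nat.choose_eq_zero_of_lt (by omega)]
        exact dvd_zero _
    rw [h2, smul_zero]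
  rw [u_eq τ ρ 11 t x, Finset.sum_eq_zero h1, add_zero]

end Cfsg.Agent.R2.H14.E11
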