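import Cfsg.Agent.R2.H14.E11.ZGen

/-!
# S5749, S5750, box E11: the homomorphism `V₁₀ ⊗ V₂ → V` (helper14)

* `Zf τ ρ a L` : the facts on the module; `ZZ τ ρ z` : the images of the basis vectors of `V₁₀ ⊗ V₂`;
* `exists_zz`.
-/

set_option autoImplicit false
set_option linter.unusedSectionVars false

namespace Cfsg.Agent.R2.H14.E11

open Module Matrix Cfsg.Agent.H943.SL2Rel Cfsg.Agent.H943.SL2Mod Cfsg.Agent.H943.RepAdd
open Cfsg.Agent.R2.H28.SL2

universe u v w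

variable {k : Type u} [Field k] {K : Type w} [Field K] [Fintype K] [DecidableEq K] (τ : K →+* k)

/-- the images of the basis vectors -/
structure ZZ {V : Type*} [AddCommGroup V] [Module k V] (ρ : Representation k (SpecialLinearGroup (Fin 2) K) V)
    (z : ℕ → ℕ → V) : Prop where
  zs : ∀ s r, 10 < s → z s r = 0
  zr : ∀ s r, 2 < r → z s r = 0
  u : ∀ s ≤ 10, ∀ r ≤ 2, ∀ t, ρ (u t) (z s r) = ∑ i ∈ Finset.range (10 - s + 1), ∑ j ∈ Finset.range (2 - r + 1),
    (((10 - s).choose i : k) * ((2 - r).choose j : k) * τ t ^ (i + j)) • z (s + i) (r + j)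
  h : ∀ s ≤ 10, ∀ r ≤ 2, ∀ c : Kˣ, ρ (h c) (z s r) =
    ((τ c ^ s * (τ c)⁻¹ ^ (10 - s)) * (τ c ^ r * (τ c)⁻¹ ^ (2 - r))) • z s r
  w : ∀ s ≤ 10, ∀ r ≤ 2, ρ w (z s r) = ((-1 : k) ^ (s + r)) • z (10 - s) (2 - r)

variable [DecidableEq k] [CharP k 11] [CharP K 11] [Fact (Nat.Prime 11)]

/-- the facts on the module -/
structure Zf {V : Type*} [AddCommGroup V] [Module k V] (ρ : Representation k (SpecialLinearGroup (Fin 2) K) V) (a : ℕ)
    (L : Submodule k V) : Prop where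
  wt : 2 ≤ a → ∀ (e : ℕ) (v : V), v ≠ 0 → Wt τ ρ e v →
    ∃ j ≤ 12, (e + 12) % (Fintype.card K - 1) = (2 * j) % (Fintype.card K - 1)
  no10 : ∀ v, Uf ρ v → Wt τ ρ 10 v → v = 0
  hom2 : a = 1 → ∀ (hb : 2 ≤ Fintype.card K - 1) (φ : Vb τ 2 →ₗ[k] V), (∀ g y, φ (RB τ 11 hb g y) = ρ g (φ y)) → φ = 0
  top8 : ∀ (C : V) (y : ℕ → V), Uf ρ C → Wt τ ρ 8 C →
    (∀ t, ρ (u t) (ρ Cfsg.Agent.H943.SL2Rel.w C) = ∑ j ∈ Finset.range 9, τ t ^ j • y j) → C ∈ L

variable {a : ℕ} (hK : Fintype.card K = 11 ^ a)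
variable {V : Type*} [AddCommGroup V] [Module k V] {ρ : Representation k (SpecialLinearGroup (Fin 2) K) V}
  {L : Submodule k V}

section hom

theorem linHom_apply' {V₁ : Type*} [AddCommGroup V₁] [Module k V₁] (σ : Representation k (SpecialLinearGroup (Fin 2) K) V₁)
    (g : SpecialLinearGroup (Fin 2) K) (φ : V₁ →ₗ[k] V) (y : V₁) :
    Representation.linHom σ ρ g φ y = ρ g (φ (σ g⁻¹ y)) := rfl

theorem linHom_apply_mul {V₁ : Type*} [AddCommGroup V₁] [Module k V₁]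
    (σ : Representation k (SpecialLinearGroup (Fin 2) K) V₁)
    (g : SpecialLinearGroup (Fin 2) K) (φ : V₁ →ₗ[k] V) (y : V₁) :
    Representation.linHom σ ρ g φ (σ g y) = ρ g (φ y) := by
  rw [linHom_apply', rho_inv]

variable {V₂ : Type*} [AddCommGroup V₂] [Module k V₂] {σ : Representation k (SpecialLinearGroup (Fin 2) K) V₂}
  {e : ℕ → V₂} (he : BasS τ 11 σ 2 0 e)
include he

theorem ext3 {φ ψ : V₂ →ₗ[k] V} (h0 : φ (e 0) = ψ (e 0)) (h1 : φ (e 1) = ψ (e 1)) (h2 : φ (e 2) = ψ (e 2)) : φ = ψ := by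
  refine LinearMap.ext_on_range (v := fun s : Fin 3 => e s) (top_le_iff.1 he.sp) fun i => ?_
  fin_cases i
  · exact h0
  · exact h1
  · exact h2

theorem pw0 (x : k) (j : ℕ) : (x ^ 11 ^ 0) ^ j = x ^ j := by rw [pow_zero, pow_one]

/-- the weights -/
theorem wt_hom (h2 : 2 ≤ Fintype.card K - 1) {n : ℕ} {φ : V₂ →ₗ[k] V} (hφ : Wt τ (Representation.linHom σ ρ) n φ) :
    Wt τ ρ (n + (Fintype.card K - 1 - 2)) (φ (e 0)) ∧ Wt τ ρ n (φ (e 1)) ∧ Wt τ ρ (n + 2) (φ (e 2)) := by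
  have key : ∀ r ≤ 2, ∀ c : Kˣ, ρ (h c) (φ (e r)) = (τ c ^ n * (τ c ^ r * (τ c)⁻¹ ^ (2 - r))) • φ (e r) := by
    intro r hr c
    rw [← linHom_apply_mul σ, he.h r hr, map_smul, hφ, LinearMap.smul_apply, smul_smul, mul_comm]
    simp only [pow_zero, pow_one]
  have hc : ∀ c : Kˣ, τ c ≠ 0 := fun c => (map_ne_zero τ).2 c.ne_zero
  refine ⟨fun c => ?_, fun c => ?_, fun c => ?_⟩
  · rw [key 0 (by norm_num)]
    congr 1
    have h1 := powQ τ c.ne_zero
    rw [pow_add, pow_zero, one_mul, Nat.sub_zero]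
    congr 1
    rw [inv_pow]
    apply inv_eq_of_mul_eq_one_right
    rw [← pow_add, show 2 + (Fintype.card K - 1 - 2) = Fintype.card K - 1 by omega, h1]
  · rw [key 1 (by norm_num), pow_one, pow_one, mul_inv_cancel₀ (hc c), mul_one]
  · rw [key 2 (by norm_num), Nat.sub_self, pow_zero, mul_one, ← pow_add]

end hom

include hK

theorem zf_wt (Z : Zf τ ρ a L) {V₂ : Type*} [AddCommGroup V₂] [Module k V₂]
    {σ : Representation k (SpecialLinearGroup (Fin 2) K) V₂} {e : ℕ → V₂} (he : BasS τ 11 σ 2 0 e) (ha : 2 ≤ a) {n : ℕ}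
    {φ : V₂ →ₗ[k] V} (hφ : Wt τ (Representation.linHom σ ρ) n φ) (hne : ¬ ∃ j ≤ 14, (n + 14) % (Fintype.card K - 1) =
      (2 * j) % (Fintype.card K - 1)) : φ = 0 := by
  by_contra h0
  have hQ := Q_two hK ha
  obtain ⟨Q, hQ'⟩ : ∃ Q, Q = Fintype.card K - 1 := ⟨_, rfl⟩
  obtain ⟨h1, h2, h3⟩ := wt_hom τ he (by omega) hφ
  apply hne
  rw [← hQ'] at h1 ⊢
  rw [← hQ'] at hQ
  by_cases c0 : φ (e 0) = 0
  · by_cases c1 : φ (e 1) = 0
    · by_cases c2 : φ (e 2) = 0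
      · exact absurd (ext3 τ he (by rw [c0, LinearMap.zero_apply]) (by rw [c1, LinearMap.zero_apply])
          (by rw [c2, LinearMap.zero_apply])) h0
      · obtain ⟨j, hj, hj'⟩ := Z.wt ha _ _ c2 h3
        rw [← hQ'] at hj'
        exact ⟨j, by omega, by rw [← hj']⟩
    · obtain ⟨j, hj, hj'⟩ := Z.wt ha _ _ c1 h2
      rw [← hQ'] at hj'
      refine ⟨j + 1, by omega, ?_⟩
      rw [show n + 14 = (n + 12) + 2 by ring, Nat.add_mod, hj', ← Nat.add_mod, show 2 * j + 2 = 2 * (j + 1) by ring]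
  · obtain ⟨j, hj, hj'⟩ := Z.wt ha _ _ c0 h1
    rw [← hQ'] at hj'
    refine ⟨j + 2, by omega, ?_⟩
    have h4 : n + 14 + Q = (n + (Q - 2) + 12) + 4 := by omega
    rw [← Nat.add_mod_right (n + 14) Q, h4, Nat.add_mod, hj', ← Nat.add_mod, show 2 * j + 4 = 2 * (j + 2) by ring]

/-- **the homomorphism** -/
theorem exists_zz (Z : Zf τ ρ a L) {v : V} (hv : Wt τ ρ (Fintype.card K - 1 - 8) v) (hvL : Dm τ ρ 8 v ∉ L) :
    ∃ z, ZZ τ ρ z ∧ z 10 2 ≠ 0 ∧ z 9 2 = z 10 1 := by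
  have ha := a_pos hK
  have hQ10 : 10 ≤ Fintype.card K - 1 := by
    rcases Nat.lt_or_ge 1 a with h | h
    · have := Q_two hK h
      omega
    · have := Q_one hK (by omega)
      omega
  have hb2 : 2 ≤ Fintype.card K - 1 := by omega
  obtain ⟨Q, hQ⟩ : ∃ Q, Q = Fintype.card K - 1 := ⟨_, rfl⟩
  have hne : ∀ c : Kˣ, τ c ≠ 0 := fun c => (map_ne_zero τ).2 c.ne_zero
  have hcQ : ∀ c : Kˣ, τ c ^ Q = 1 := fun c => by rw [hQ]; exact powQ τ c.ne_zero
  have i2 : IsV τ 11 (RB τ 11 hb2) (2 * 11 ^ 0) := ⟨hb2, LinearEquiv.refl k _, fun _ _ => rfl⟩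
  have i10 : IsV τ 11 (RB τ 11 hQ10) (10 * 11 ^ 0) := ⟨hQ10, LinearEquiv.refl k _, fun _ _ => rfl⟩
  have i10' : IsV τ 11 (RB τ 11 hQ10) 10 := ⟨hQ10, LinearEquiv.refl k _, fun _ _ => rfl⟩
  obtain ⟨e, he⟩ := i2.basS τ 11 (by norm_num)
  obtain ⟨f, hf⟩ := i10.basS τ 11 (by norm_num)
  obtain ⟨σ, hσ⟩ : ∃ σ, σ = RB τ 11 hb2 := ⟨_, rfl⟩
  rw [← hσ] at he
  -- the vector `y`
  obtain ⟨y, y0, y1, y2⟩ : ∃ y : Vb τ 2 →ₗ[k] V, y (e 0) = 0 ∧ y (e 1) = 0 ∧ y (e 2) = v := by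
    let b : Basis (Fin 3) k (Vb τ 2) := Basis.mk he.li he.sp
    refine ⟨b.constr k ![0, 0, v], ?_, ?_, ?_⟩
    · have h1 : e 0 = b 0 := by rw [Basis.mk_apply]; rfl
      rw [h1, Basis.constr_basis]
      rfl
    · have h1 : e 1 = b 1 := by rw [Basis.mk_apply]; rfl
      rw [h1, Basis.constr_basis]
      rfl
    · have h1 : e 2 = b 2 := by rw [Basis.mk_apply]; rfl
      rw [h1, Basis.constr_basis]
      rfl
  have hy : Wt τ (Representation.linHom σ ρ) (Q - 10) y := by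
    intro c
    have hh : ∀ r ≤ 2, σ (h c)⁻¹ (e r) = ((τ c)⁻¹ ^ r * (τ c) ^ (2 - r)) • e r := by
      intro r hr
      have h1 := he.h r hr c⁻¹
      rw [h_inv] at h1
      rw [h1, Units.val_inv_eq_inv_val, map_inv₀]
      simp only [pow_zero, pow_one, inv_inv]
    refine ext3 τ he ?_ ?_ ?_
    · rw [linHom_apply', hh 0 (by norm_num), map_smul, y0, smul_zero, map_zero, LinearMap.smul_apply, y0, smul_zero]
    · rw [linHom_apply', hh 1 (by norm_num), map_smul, y1, smul_zero, map_zero, LinearMap.smul_apply, y1, smul_zero]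
    · rw [linHom_apply', hh 2 (by norm_num), map_smul, y2, map_smul, hv, LinearMap.smul_apply, y2, smul_smul, ← hQ,
        Nat.sub_self, pow_zero, mul_one, inv_pow]
      congr 1
      rw [inv_mul_eq_iff_eq_mul₀ (pow_ne_zero _ (hne c)), ← pow_add]
      congr 1
      omega
  obtain ⟨x, hx⟩ : ∃ x, x = Dm τ (Representation.linHom σ ρ) 10 y := ⟨_, rfl⟩
  have hxw : Wt τ (Representation.linHom σ ρ) 10 x := by
    intro c
    rw [hx, h_Dm τ _ (by omega), hy, map_smul, smul_smul, ← pow_add, show 2 * 10 + (Q - 10) = 10 + Q by omega, pow_add,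
      hcQ, mul_one]
  have hpow : ∀ i < a, 2 ≤ a → 2 * 11 ^ i + 30 < Q := by
    intro i hi ha2
    have h1 := Q_two hK ha2
    obtain ⟨b, rfl⟩ : ∃ b, a = b + 1 := ⟨a - 1, by omega⟩
    have h2 : 11 ^ i ≤ 11 ^ b := Nat.pow_le_pow_right (by norm_num) (by omega)
    have h3 : 11 ^ 1 ≤ 11 ^ b := Nat.pow_le_pow_right (by norm_num) (by omega)
    rw [pow_succ] at hK
    omega
  have hxu : Uf (Representation.linHom σ ρ) x := by
    refine uf_of_Dm τ hK _ fun i hi => ?_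
    rcases Nat.eq_zero_or_pos i with rfl | h0
    · rw [pow_zero, hx]
      rcases Nat.lt_or_ge Q 11 with h1 | h1
      · exact Dm_mul_zero τ _ (by norm_num) (by norm_num) (by omega) (by omega) (by omega) _
      · rw [Dm_mul' τ _ 11 hK (by norm_num) (by norm_num) (by omega)]
        have h2 : (((1 + 10 : ℕ).choose 1 : ℕ) : k) = 0 := by
          have := e11 k
          norm_num
          exact this
        rw [h2, zero_smul]
    · have ha2 : 2 ≤ a := by omega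
      refine zf_wt τ hK Z he ha2 (n := 2 * 11 ^ i + 10) (fun c => ?_) ?_
      · rw [h_Dm τ _ (by
          have := hpow i hi ha2
          omega), hxw, map_smul, smul_smul, ← pow_add]
      · rintro ⟨j, hj, hj'⟩
        have h1 := hpow i hi ha2
        have h2 : 11 ^ 1 ≤ 11 ^ i := Nat.pow_le_pow_right (by norm_num) h0
        rw [← hQ, Nat.mod_eq_of_lt (by omega), Nat.mod_eq_of_lt (by omega)] at hj'
        omega
  have hwx : Wt τ (Representation.linHom σ ρ) (Q - 10) (Representation.linHom σ ρ w x) := by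
    intro c
    rw [Wt.w τ _ hxw c]
    congr 1
    rw [Units.val_inv_eq_inv_val, map_inv₀, inv_pow]
    apply inv_eq_of_mul_eq_one_right
    rw [← pow_add, show 10 + (Q - 10) = Q by omega, hcQ]
  obtain ⟨T, hT, hTx⟩ := lift10 τ hK i10' (m := f 10) (hf.li.ne_zero (⟨10, by norm_num⟩ : Fin 11)) (fun t => by
      rw [hf.u 10 le_rfl]
      simp) (Representation.linHom σ ρ) hxu hxw
    (fun ha2 => by
      have h1 := Q_two hK ha2
      refine zf_wt τ hK Z he ha2 (n := 22 + (22 + (Q - 10))) (fun c => ?_) ?_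
      · rw [h_Dm τ _ (by omega), h_Dm τ _ (by omega), hwx]
        simp only [map_smul, smul_smul, ← pow_add]
      · rintro ⟨j, hj, hj'⟩
        rw [← hQ, show 22 + (22 + (Q - 10)) + 14 = 48 + Q by omega, Nat.add_mod_right, Nat.mod_eq_of_lt (by omega),
          Nat.mod_eq_of_lt (by omega)] at hj'
        omega)
    (fun i hi hia => by
      have ha2 : 2 ≤ a := by omega
      have h1 := hpow i hia ha2
      refine zf_wt τ hK Z he ha2 (n := 2 * 11 ^ i + (Q - 10)) (fun c => ?_) ?_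
      · rw [h_Dm τ _ (by omega), hwx, map_smul, smul_smul, ← pow_add]
      · rintro ⟨j, hj, hj'⟩
        have h2 : 11 ^ 2 ≤ 11 ^ i := Nat.pow_le_pow_right (by norm_num) hi
        rw [← hQ, show 2 * 11 ^ i + (Q - 10) + 14 = (2 * 11 ^ i + 4) + Q by omega, Nat.add_mod_right,
          Nat.mod_eq_of_lt (by omega), Nat.mod_eq_of_lt (by omega)] at hj'
        omega)
    (fun ha1 φ hφ => Z.hom2 ha1 hb2 φ fun g y => by
      conv_lhs => rw [← hφ g]
      rw [← hσ, linHom_apply_mul])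
  -- the vectors
  have hz : ZZ τ ρ fun s r => T (f s) (e r) := by
    refine ⟨fun s r hs => ?_, fun s r hr => ?_, fun s hs r hr t => ?_, fun s hs r hr c => ?_, fun s hs r hr => ?_⟩
    · rw [hf.zero s hs, map_zero, LinearMap.zero_apply]
    · rw [he.zero r hr, map_zero]
    · have h1 : ρ (Cfsg.Agent.H943.SL2Rel.u t) (T (f s) (e r)) =
          T (RB τ 11 hQ10 (Cfsg.Agent.H943.SL2Rel.u t) (f s)) (σ (Cfsg.Agent.H943.SL2Rel.u t) (e r)) := by
        rw [hT, linHom_apply_mul]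
      rw [h1, hf.u s hs, he.u r hr, map_sum T, LinearMap.sum_apply]
      refine Finset.sum_congr rfl fun i _ => ?_
      rw [map_smul, LinearMap.smul_apply, map_sum, Finset.smul_sum]
      refine Finset.sum_congr rfl fun j _ => ?_
      rw [map_smul, smul_smul]
      congr 1
      simp only [pow_zero, pow_one]
      rw [pow_add]
      ring
    · have h1 : ρ (Cfsg.Agent.H943.SL2Rel.h c) (T (f s) (e r)) =
          T (RB τ 11 hQ10 (Cfsg.Agent.H943.SL2Rel.h c) (f s)) (σ (Cfsg.Agent.H943.SL2Rel.h c) (e r)) := by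
        rw [hT, linHom_apply_mul]
      rw [h1, hf.h s hs, he.h r hr, map_smul, map_smul, LinearMap.smul_apply, smul_smul]
      congr 1
      simp only [pow_zero, pow_one]
      ring
    · have h1 : ρ Cfsg.Agent.H943.SL2Rel.w (T (f s) (e r)) =
          T (RB τ 11 hQ10 Cfsg.Agent.H943.SL2Rel.w (f s)) (σ Cfsg.Agent.H943.SL2Rel.w (e r)) := by
        rw [hT, linHom_apply_mul]
      rw [h1, hf.w s hs, he.w r hr, map_smul, map_smul, LinearMap.smul_apply, smul_smul, pow_add, mul_comm]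
  have hC : T (f 10) (e 0) = Dm τ ρ 8 v := by
    rw [hTx, hx, Dm_apply, Dm_apply, LinearMap.neg_apply, LinearMap.sum_apply]
    congr 1
    refine Finset.sum_congr rfl fun t _ => ?_
    rw [LinearMap.smul_apply, linHom_apply', ← u_neg, he.u 0 (by norm_num), ← hQ]
    simp only [Finset.sum_range_succ, Finset.sum_range_zero, zero_add, map_add, map_smul, y0, y1, y2, smul_zero]
    simp only [pow_zero, pow_one, Nat.sub_zero, Nat.choose_self, Nat.cast_one, one_mul, smul_smul]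
    congr 1
    rw [map_neg, Even.neg_pow (by decide), ← pow_add]
    congr 1
    omega
  obtain ⟨z, hzd⟩ : ∃ z : ℕ → ℕ → V, z = fun s r => T (f s) (e r) := ⟨_, rfl⟩
  rw [← hzd] at hz
  have hC' : z 10 0 = Dm τ ρ 8 v := by rw [hzd]; exact hC
  have u92 : ∀ t, ρ (u t) (z 9 2) = z 9 2 + τ t • z 10 2 := by
    intro t
    rw [hz.u 9 (by norm_num) 2 le_rfl]
    simp [Finset.sum_range_succ]
  have u101 : ∀ t, ρ (u t) (z 10 1) = z 10 1 + τ t • z 10 2 := by
    intro t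
    rw [hz.u 10 (by norm_num) 1 (by norm_num)]
    simp [Finset.sum_range_succ]
  have u100 : ∀ t, ρ (u t) (z 10 0) = z 10 0 + (2 * τ t) • z 10 1 + τ t ^ 2 • z 10 2 := by
    intro t
    rw [hz.u 10 (by norm_num) 0 (by norm_num)]
    simp [Finset.sum_range_succ]
  have w92 : Wt τ ρ 10 (z 9 2) := by
    intro c
    rw [hz.h 9 (by norm_num) 2 le_rfl]
    congr 1
    have := hne c
    show τ c ^ 9 * (τ c)⁻¹ ^ 1 * (τ c ^ 2 * (τ c)⁻¹ ^ 0) = τ c ^ 10
    field_simp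
  have w101 : Wt τ ρ 10 (z 10 1) := by
    intro c
    rw [hz.h 10 (by norm_num) 1 (by norm_num)]
    congr 1
    have := hne c
    show τ c ^ 10 * (τ c)⁻¹ ^ 0 * (τ c ^ 1 * (τ c)⁻¹ ^ 1) = τ c ^ 10
    field_simp
  have hD : z 9 2 = z 10 1 := by
    refine sub_eq_zero.1 (Z.no10 _ (fun t => ?_) fun c => ?_)
    · rw [map_sub, u92, u101]
      abel
    · rw [map_sub, w92, w101, smul_sub]
  refine ⟨z, hz, fun h0 => hvL ?_, hD⟩
  have h1 : z 10 1 = 0 := Z.no10 _ (fun t => by rw [u101, h0, smul_zero, add_zero]) w101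
  rw [← hC']
  refine Z.top8 _ (fun j => ((10 : ℕ).choose j : k) • z j 2) (fun t => ?_) (fun c => ?_) fun t => ?_
  · rw [u100, h0, h1, smul_zero, smul_zero, add_zero, add_zero]
  · rw [hz.h 10 le_rfl 0 (by norm_num)]
    congr 1
    have := hne c
    show τ c ^ 10 * (τ c)⁻¹ ^ 0 * (τ c ^ 0 * (τ c)⁻¹ ^ 2) = τ c ^ 8
    field_simp
  · rw [hz.w 10 le_rfl 0 (by norm_num), map_smul, hz.u 0 (by norm_num) 2 le_rfl]
    simp only [Finset.sum_range_succ, Finset.sum_range_zero, zero_add, hD, h0, h1, smul_zero, add_zero, Nat.sub_self,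
      Nat.sub_zero, Nat.choose_self, Nat.cast_one, mul_one, pow_zero, smul_smul]
    module

end Cfsg.Agent.R2.H14.E11
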