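import Cfsg.Agent.R2.H14.E11.ZTabC
import Cfsg.Agent.R2.H14.E11.Sub

/-!
# S5749, S5750, box E11: from the vectors `z s r` to the structure `Ms` (helper14)
-/

set_option autoImplicit false
set_option linter.unusedSectionVars false
set_option linter.unusedSimpArgs false
set_option linter.unreachableTactic false
set_option linter.unusedTactic false
set_option linter.unnecessarySeqFocus false

namespace Cfsg.Agent.R2.H14.E11

open Module Matrix Cfsg.Agent.H943.SL2Rel Cfsg.Agent.H943.SL2Mod

universe u v w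

section gen

variable {k : Type*} [Field k] [CharP k 11] {V : Type*} [AddCommGroup V] [Module k V]
variable {N H : V →ₗ[k] V} {p r c : ℕ → V}

/-- independence from the socle -/
theorem chain_li (hp : ∀ n, N (p n) = p (n + 1)) (hr : ∀ n, N (r n) = r (n + 1)) (hc : ∀ n, N (c n) = c (n + 1))
    (zp : p 11 = 0) (zr : r 11 = 0) (zc : c 5 = 0)
    (hs : ∀ x y z : k, x • p 10 + y • r 10 + z • c 4 = 0 → x = 0 ∧ y = 0 ∧ z = 0) (a b e : ℕ → k)
    (h : ∑ n ∈ Finset.range 11, a n • p n + ∑ n ∈ Finset.range 11, b n • r n + ∑ n ∈ Finset.range 5, e n • c n = 0) :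
    (∀ n < 11, a n = 0) ∧ (∀ n < 11, b n = 0) ∧ ∀ n < 5, e n = 0 := by
  have hp0 : ∀ n, 11 ≤ n → p n = 0 := fun n hn => chain_zero hp zp hn
  have hr0 : ∀ n, 11 ≤ n → r n = 0 := fun n hn => chain_zero hr zr hn
  have hc0 : ∀ n, 5 ≤ n → c n = 0 := fun n hn => chain_zero hc zc hn
  have key : ∀ j, j ≤ 10 → a j = 0 ∧ b j = 0 ∧ (6 ≤ j → e (j - 6) = 0) := by
    intro j
    induction j using Nat.strong_induction_on with
    | _ j ih =>
      intro hj
      have h1 := congrArg (N ^ (10 - j)) h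
      simp only [map_add, map_sum, map_smul, map_zero, pow_chain hp, pow_chain hr, pow_chain hc] at h1
      have e1 : ∑ n ∈ Finset.range 11, a n • p (n + (10 - j)) = a j • p 10 := by
        rw [Finset.sum_eq_single j]
        · rw [show j + (10 - j) = 10 by omega]
        · intro n _ hnj
          rcases Nat.lt_or_ge n j with h2 | h2
          · rw [(ih n h2 (by omega)).1, zero_smul]
          · rw [hp0 _ (by omega), smul_zero]
        · intro h2
          exact absurd (Finset.mem_range.2 (by omega)) h2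
      have e2 : ∑ n ∈ Finset.range 11, b n • r (n + (10 - j)) = b j • r 10 := by
        rw [Finset.sum_eq_single j]
        · rw [show j + (10 - j) = 10 by omega]
        · intro n _ hnj
          rcases Nat.lt_or_ge n j with h2 | h2
          · rw [(ih n h2 (by omega)).2.1, zero_smul]
          · rw [hr0 _ (by omega), smul_zero]
        · intro h2
          exact absurd (Finset.mem_range.2 (by omega)) h2
      have e3 : ∑ n ∈ Finset.range 5, e n • c (n + (10 - j)) = (if 6 ≤ j then e (j - 6) else 0) • c 4 := by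
        split_ifs with h6
        · rw [Finset.sum_eq_single (j - 6)]
          · rw [show j - 6 + (10 - j) = 4 by omega]
          · intro n _ hnj
            rcases Nat.lt_or_ge n (j - 6) with h2 | h2
            · have h3 := (ih (n + 6) (by omega) (by omega)).2.2 (by omega)
              rw [Nat.add_sub_cancel] at h3
              rw [h3, zero_smul]
            · rw [hc0 _ (by omega), smul_zero]
          · intro h2
            exact absurd (Finset.mem_range.2 (by omega)) h2
        · rw [zero_smul]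
          exact Finset.sum_eq_zero fun n _ => by rw [hc0 _ (by omega), smul_zero]
      rw [e1, e2, e3] at h1
      obtain ⟨h2, h3, h4⟩ := hs _ _ _ h1
      exact ⟨h2, h3, fun h6 => by rw [if_pos h6] at h4; exact h4⟩
  refine ⟨fun n hn => (key n (by omega)).1, fun n hn => (key n (by omega)).2.1, fun n hn => ?_⟩
  have h2 := (key (n + 6) (by omega)).2.2 (by omega)
  rwa [Nat.add_sub_cancel] at h2

theorem socle_li (hp : H (p 10) = (4 : k) ^ (10 + 1) • p 10) (hr : H (r 10) = (4 : k) ^ (10 + 4) • r 10)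
    (hc : H (c 4) = (4 : k) ^ (4 + 3) • c 4) (np : p 10 ≠ 0) (nr : r 10 ≠ 0) (nc : c 4 ≠ 0) (x y z : k)
    (h : x • p 10 + y • r 10 + z • c 4 = 0) : x = 0 ∧ y = 0 ∧ z = 0 := by
  have h5 : (5 : k) ≠ 0 := five_ne
  refine ⟨?_, ?_, ?_⟩
  · have h1 := congrArg (pj H 1) h
    simp only [map_add, map_smul, map_zero, pj_eig hp, pj_eig hr, pj_eig hc] at h1
    norm_num at h1
    exact (h1.resolve_right (by tauto))
  · have h1 := congrArg (pj H 4) h
    simp only [map_add, map_smul, map_zero, pj_eig hp, pj_eig hr, pj_eig hc] at h1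
    norm_num at h1
    exact (h1.resolve_right (by tauto))
  · have h1 := congrArg (pj H 2) h
    simp only [map_add, map_smul, map_zero, pj_eig hp, pj_eig hr, pj_eig hc] at h1
    norm_num at h1
    exact (h1.resolve_right (by tauto))

theorem sp_of_li [FiniteDimensional k V] (hV : finrank k V = 27)
    (li : ∀ a b e : ℕ → k, ∑ n ∈ Finset.range 11, a n • p n + ∑ n ∈ Finset.range 11, b n • r n +
      ∑ n ∈ Finset.range 5, e n • c n = 0 → (∀ n < 11, a n = 0) ∧ (∀ n < 11, b n = 0) ∧ ∀ n < 5, e n = 0) (v : V) :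
    ∃ a b e : ℕ → k, v = ∑ n ∈ Finset.range 11, a n • p n + ∑ n ∈ Finset.range 11, b n • r n +
      ∑ n ∈ Finset.range 5, e n • c n := by
  have h1 : LinearIndependent k (fam p r c) := by
    rw [Fintype.linearIndependent_iff]
    intro g hg
    rw [Fintype.sum_sum_type, Fintype.sum_sum_type] at hg
    have h1 := li (ex fun i => g (Sum.inl i)) (ex fun i => g (Sum.inr (Sum.inl i))) (ex fun i => g (Sum.inr (Sum.inr i))) (by
      rw [← sum_ex, ← sum_ex, ← sum_ex, ← hg, add_assoc]
      rfl)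
    rintro (i | i | i)
    · have := h1.1 i i.2
      rwa [ex_coe] at this
    · have := h1.2.1 i i.2
      rwa [ex_coe] at this
    · have := h1.2.2 i i.2
      rwa [ex_coe] at this
  have h2 := h1.span_eq_top_of_card_eq_finrank' (by rw [hV]; simp)
  have h3 : v ∈ Submodule.span k (Set.range (fam p r c)) := by rw [h2]; trivial
  obtain ⟨g, hg⟩ := (Submodule.mem_span_range_iff_exists_fun k).1 h3
  refine ⟨ex fun i => g (Sum.inl i), ex fun i => g (Sum.inr (Sum.inl i)), ex fun i => g (Sum.inr (Sum.inr i)), ?_⟩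
  rw [← sum_ex, ← sum_ex, ← sum_ex, ← hg, Fintype.sum_sum_type, Fintype.sum_sum_type, add_assoc]
  rfl

end gen

variable {k : Type u} [Field k] [CharP k 11] {K : Type w} [Field K] [Fintype K] [DecidableEq K] [CharP K 11] (τ : K →+* k)

/-- the chain of `C` -/
structure C4 {V : Type*} [AddCommGroup V] [Module k V] (ρ : Representation k (SpecialLinearGroup (Fin 2) K) V)
    (v : ℕ → V) : Prop where
  zero : ∀ s, 4 < s → v s = 0
  ne : v 4 ≠ 0
  u : ∀ s ≤ 4, ∀ t, ρ (u t) (v s) = ∑ j ∈ Finset.range (4 - s + 1), (((4 - s).choose j : k) * τ t ^ j) • v (s + j)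
  h : ∀ s ≤ 4, ∀ a : Kˣ, ρ (h a) (v s) = (τ a ^ s * (τ a)⁻¹ ^ (4 - s)) • v s
  w : ∀ s ≤ 4, ρ w (v s) = (-1 : k) ^ s • v (4 - s)

variable {V : Type*} [AddCommGroup V] [Module k V] {ρ : Representation k (SpecialLinearGroup (Fin 2) K) V}
variable {z : ℕ → ℕ → V} {v : ℕ → V}

variable {τ} in
theorem C4.nr (hv : C4 τ ρ v) {s : ℕ} (hs : s ≤ 4) : Nr ρ (v s) = ((4 - s : ℕ) : k) • v (s + 1) := by
  unfold Nr
  rw [Nop_apply]
  have h1 : ∀ n ∈ Finset.range 11, ((n : k) ^ 9) • ρ (Cfsg.Agent.H943.SL2Rel.u (n : K)) (v s) =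
      ∑ j ∈ Finset.range (4 - s + 1), (((4 - s).choose j : k) * (n : k) ^ (9 + j)) • v (s + j) := by
    intro n _
    rw [hv.u s hs, Finset.smul_sum]
    refine Finset.sum_congr rfl fun j _ => ?_
    rw [smul_smul, map_natCast, pow_add (n : k) 9]
    congr 1
    ring
  rw [Finset.sum_congr rfl h1, Finset.sum_comm, ← Finset.sum_neg_distrib]
  have h2 : ∀ j ∈ Finset.range (4 - s + 1), -∑ n ∈ Finset.range 11, (((4 - s).choose j : k) * (n : k) ^ (9 + j)) • v (s + j) =
      if j = 1 then ((4 - s : ℕ) : k) • v (s + 1) else 0 := by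
    intro j hj
    rw [Finset.mem_range] at hj
    rw [← Finset.sum_smul, ← Finset.mul_sum, psm (by omega), ← neg_smul]
    by_cases h3 : j = 1
    · subst h3
      rw [if_pos (Or.inl rfl), if_pos rfl, Nat.choose_one_right]
      congr 1
      ring
    · rw [if_neg (by omega), if_neg h3, mul_zero, neg_zero, zero_smul]
  rw [Finset.sum_congr rfl h2, Finset.sum_ite_eq']
  rcases Nat.lt_or_ge s 4 with h3 | h3
  · rw [if_pos (Finset.mem_range.2 (by omega))]
  · obtain rfl : s = 4 := by omega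
    rw [if_neg (by simp)]
    simp

variable {τ} in
/-- **the structure** -/
theorem ms_of_zz [FiniteDimensional k V] (hV : finrank k V = 27) (hz : ZZ τ ρ z) (hne : z 10 2 ≠ 0)
    (hD : z 9 2 = z 10 1) (hv : C4 τ ρ v)
    (hsm : ∀ Z : Submodule k V, (∀ g, ∀ x ∈ Z, ρ g x ∈ Z) → Z ≠ ⊥ → 5 ≤ finrank k Z) :
    ∃ (F G : V →ₗ[k] V) (p r c : ℕ → V), Ms τ ρ F G p r c := by
  have e := e11 k
  obtain ⟨N, hN⟩ : ∃ N, N = Nr ρ := ⟨_, rfl⟩
  obtain ⟨p, hpd⟩ : ∃ p : ℕ → V, ∀ n, p n = (N ^ n) (z 0 2) := ⟨fun n => (N ^ n) (z 0 2), fun _ => rfl⟩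
  obtain ⟨r, hrd⟩ : ∃ r : ℕ → V, ∀ n, r n = (N ^ n) (z 0 0) := ⟨fun n => (N ^ n) (z 0 0), fun _ => rfl⟩
  obtain ⟨c, hcd⟩ : ∃ c : ℕ → V, ∀ n, c n = (N ^ n) (v 0) := ⟨fun n => (N ^ n) (v 0), fun _ => rfl⟩
  have Np : ∀ n, N (p n) = p (n + 1) := fun n => by rw [hpd, hpd, pow_succ', Module.End.mul_apply]
  have Nr' : ∀ n, N (r n) = r (n + 1) := fun n => by rw [hrd, hrd, pow_succ', Module.End.mul_apply]
  have Nc : ∀ n, N (c n) = c (n + 1) := fun n => by rw [hcd, hcd, pow_succ', Module.End.mul_apply]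
  have hR : z 1 0 = z 0 1 := by
    have h1 := congrArg (ρ w) hD
    rw [hz.w 9 (by norm_num) 2 le_rfl, hz.w 10 le_rfl 1 (by norm_num)] at h1
    have h2 : (-1 : k) ^ (9 + 2) • (z 1 0 - z 0 1) = 0 := by
      rw [smul_sub]
      exact sub_eq_zero.2 h1
    refine sub_eq_zero.1 ((smul_eq_zero.1 h2).resolve_left ?_)
    exact pow_ne_zero _ (neg_ne_zero.2 one_ne_zero)
  have hNZ := hz.nz τ
  rw [← hN] at hNZ
  have hT : ZT k z p r := hNZ.zt hD hR (by rw [hpd, pow_zero, Module.End.one_apply]) (by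
    rw [hrd, pow_zero, Module.End.one_apply]) Np Nr'
  have hp0 : ∀ n, 11 ≤ n → p n = 0 := fun n hn => chain_zero Np hT.p11 hn
  have hr0 : ∀ n, 11 ≤ n → r n = 0 := fun n hn => chain_zero Nr' hT.r11 hn
  -- the chain `c`
  have c0 : c 0 = v 0 := by rw [hcd, pow_zero, Module.End.one_apply]
  have c1 : c 1 = (4 : k) • v 1 := by
    rw [← Nc, c0, hN, hv.nr (by norm_num)]
    norm_num
  have c2 : c 2 = v 2 := by
    rw [← Nc, c1, hN, map_smul, hv.nr (by norm_num)]
    match_scalars <;> (try ring_nf) <;> (try push_cast) <;> (try reduce_mod_char!) <;> (try ring_nf)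
  have c3 : c 3 = (2 : k) • v 3 := by
    rw [← Nc, c2, hN, hv.nr (by norm_num)]
    norm_num
  have c4 : c 4 = (2 : k) • v 4 := by
    rw [← Nc, c3, hN, map_smul, hv.nr (by norm_num)]
    norm_num
  have c5 : c 5 = 0 := by
    rw [← Nc, c4, hN, map_smul, hv.nr (by norm_num)]
    norm_num
  have hc0 : ∀ n, 5 ≤ n → c n = 0 := fun n hn => chain_zero Nc c5 hn
  have hHp : ∀ n, ρ (Cfsg.Agent.H943.SL2Rel.h tw) (p n) = (4 : k) ^ (n + 1) • p n := by
    intro n
    rcases Nat.lt_or_ge n 11 with h1 | h1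
    · exact hz.Hp hT n h1
    · rw [hp0 n h1, map_zero, smul_zero]
  have hHr : ∀ n, ρ (Cfsg.Agent.H943.SL2Rel.h tw) (r n) = (4 : k) ^ (n + 4) • r n := by
    intro n
    rcases Nat.lt_or_ge n 11 with h1 | h1
    · exact hz.Hr hT n h1
    · rw [hr0 n h1, map_zero, smul_zero]
  have hh2 : ∀ s ≤ 4, ρ (Cfsg.Agent.H943.SL2Rel.h tw) (v s) = ((2 : k) ^ s * 6 ^ (4 - s)) • v s := by
    intro s hs
    have h1 : τ ((tw : Kˣ) : K) = 2 := map_ofNat τ 2
    rw [hv.h s hs, h1, two_inv]
  have hHc : ∀ n, ρ (Cfsg.Agent.H943.SL2Rel.h tw) (c n) = (4 : k) ^ (n + 3) • c n := by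
    intro n
    rcases Nat.lt_or_ge n 5 with h1 | h1
    · interval_cases n
      · rw [c0, hh2 0 (by norm_num)]
        match_scalars <;> (try ring_nf) <;> (try reduce_mod_char!) <;> (try ring_nf)
      · rw [c1, map_smul, hh2 1 (by norm_num)]
        match_scalars <;> (try ring_nf) <;> (try reduce_mod_char!) <;> (try ring_nf)
      · rw [c2, hh2 2 (by norm_num)]
        match_scalars <;> (try ring_nf) <;> (try reduce_mod_char!) <;> (try ring_nf)
      · rw [c3, map_smul, hh2 3 (by norm_num)]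
        match_scalars <;> (try ring_nf) <;> (try reduce_mod_char!) <;> (try ring_nf)
      · rw [c4, map_smul, hh2 4 (by norm_num)]
        match_scalars <;> (try ring_nf) <;> (try reduce_mod_char!) <;> (try ring_nf)
    · rw [hc0 n h1, map_zero, smul_zero]
  -- the socle
  have np : p 10 ≠ 0 := by
    intro h0
    apply hne
    rw [hT.t10_2, h0, smul_zero]
  have nc : c 4 ≠ 0 := by
    rw [c4]
    exact smul_ne_zero two_ne hv.ne
  have hcomm : ∀ t x, ρ (Cfsg.Agent.H943.SL2Rel.u t) (N x) = N (ρ (Cfsg.Agent.H943.SL2Rel.u t) x) := by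
    intro t x
    rw [hN]
    exact Nr_comm (s := RingHom.id k) (ρ (Cfsg.Agent.H943.SL2Rel.u t)) (fun n _ y => by
      rw [← rho_mul, ← rho_mul, ← u_add, ← u_add, add_comm]) x
  have hcommj : ∀ t j x, ρ (Cfsg.Agent.H943.SL2Rel.u t) ((N ^ j) x) = (N ^ j) (ρ (Cfsg.Agent.H943.SL2Rel.u t) x) := by
    intro t j
    induction j with
    | zero => intro x; rfl
    | succ j ih => intro x; rw [pow_succ, Module.End.mul_apply, ih, hcomm, Module.End.mul_apply]
  have nr : r 10 ≠ 0 := by
    intro h0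
    obtain ⟨Z, hZd⟩ : ∃ Z : Submodule k V, Z = Submodule.span k (Set.range ![r 0, r 1, p 9, p 10]) := ⟨_, rfl⟩
    have m0 : r 0 ∈ Z := by rw [hZd]; exact Submodule.subset_span ⟨0, rfl⟩
    have m1 : r 1 ∈ Z := by rw [hZd]; exact Submodule.subset_span ⟨1, rfl⟩
    have m2 : p 9 ∈ Z := by rw [hZd]; exact Submodule.subset_span ⟨2, rfl⟩
    have m3 : p 10 ∈ Z := by rw [hZd]; exact Submodule.subset_span ⟨3, rfl⟩
    have h1 := hz.wr10 hT
    rw [h0, map_zero] at h1
    have h2 : (5 : k) • r 2 = -((10 : k) • p 10) := (eq_neg_of_add_eq_zero_right h1.symm)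
    have mr2 : r 2 ∈ Z := by
      refine (Submodule.smul_mem_iff _ (five_ne (k := k))).1 ?_
      rw [h2]
      exact Submodule.neg_mem _ (Submodule.smul_mem _ _ m3)
    have hr3 : r 3 = 0 := by
      have h3 := congrArg N h2
      rw [map_smul, Nr', map_neg, map_smul, Np, hp0 _ (by norm_num), smul_zero, neg_zero] at h3
      exact (smul_eq_zero.1 h3).resolve_left five_ne
    have mr : ∀ n, r n ∈ Z := by
      intro n
      rcases Nat.lt_or_ge n 3 with h3 | h3
      · interval_cases n
        · exact m0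
        · exact m1
        · exact mr2
      · rw [chain_zero Nr' hr3 h3]
        exact Submodule.zero_mem _
    have mp : ∀ n, 9 ≤ n → p n ∈ Z := by
      intro n hn
      rcases Nat.lt_or_ge n 11 with h3 | h3
      · interval_cases n
        · exact m2
        · exact m3
      · rw [hp0 n h3]
        exact Submodule.zero_mem _
    have key : ∀ f : V →ₗ[k] V, f (r 0) ∈ Z → f (r 1) ∈ Z → f (p 9) ∈ Z → f (p 10) ∈ Z → ∀ x ∈ Z, f x ∈ Z := by
      intro f a0 a1 a2 a3
      have h3 : Z ≤ Z.comap f := by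
        conv_lhs => rw [hZd]
        rw [Submodule.span_le]
        rintro _ ⟨i, rfl⟩
        fin_cases i
        · exact a0
        · exact a1
        · exact a2
        · exact a3
      exact h3
    have hjr : ∀ t j, ρ (Cfsg.Agent.H943.SL2Rel.u t) (r j) ∈ Z := by
      intro t j
      have h3 : r j = (N ^ j) (r 0) := by rw [pow_chain Nr', zero_add]
      rw [h3, hcommj, hz.ur hT]
      simp only [map_add, map_sum, map_smul, pow_chain Nr', pow_chain Np]
      refine Submodule.add_mem _ (Submodule.add_mem _ (Submodule.sum_mem _ fun i _ => Submodule.smul_mem _ _ (mr _)) ?_) ?_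
      · exact Submodule.smul_mem _ _ (Submodule.smul_mem _ _ (mp _ (by omega)))
      · exact Submodule.smul_mem _ _ (Submodule.smul_mem _ _ (mp _ (by omega)))
    have hjp : ∀ t j, 9 ≤ j → ρ (Cfsg.Agent.H943.SL2Rel.u t) (p j) ∈ Z := by
      intro t j hj
      have h3 : p j = (N ^ j) (p 0) := by rw [pow_chain Np, zero_add]
      rw [h3, hcommj, hz.up hT]
      simp only [map_sum, map_smul, pow_chain Np]
      exact Submodule.sum_mem _ fun i _ => Submodule.smul_mem _ _ (mp _ (by omega))
    have hstab : ∀ g, ∀ x ∈ Z, ρ g x ∈ Z := by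
      let X : Subgroup (SpecialLinearGroup (Fin 2) K) :=
        { carrier := {g | ∀ v ∈ Z, ρ g v ∈ Z}
          mul_mem' := by
            intro a b ha hb v hv
            rw [rho_mul]
            exact ha _ (hb _ hv)
          one_mem' := by
            intro v hv
            rw [map_one]
            exact hv
          inv_mem' := by
            intro g hg v hv
            let f : Z →ₗ[k] Z := (ρ g).restrict hg
            have hf : Function.Injective f := by
              intro x z hxz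
              apply Subtype.ext
              have h1 : ρ g x = ρ g z := congrArg Subtype.val hxz
              rw [← rho_inv ρ g (x : V), h1, rho_inv]
            obtain ⟨x, hx⟩ := LinearMap.surjective_of_injective hf ⟨v, hv⟩
            have h1 : ρ g x = v := congrArg Subtype.val hx
            rw [← h1, rho_inv]
            exact x.2 }
      refine fun g => gen_uw X (fun t => ?_) ?_ g
      · exact key _ (hjr t 0) (hjr t 1) (hjp t 9 (by norm_num)) (hjp t 10 (by norm_num))
      · refine key _ ?_ ?_ ?_ ?_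
        · rw [hz.wr0 hT]
          exact Submodule.smul_mem _ _ m3
        · rw [hz.wr1 hT]
          exact Submodule.smul_mem _ _ m1
        · rw [hz.wp9 hT]
          exact Submodule.add_mem _ m2 m1
        · rw [hz.wp10 hT]
          exact Submodule.smul_mem _ _ m0
    have h3 := hsm Z hstab (by
      rintro hbot
      rw [hbot, Submodule.mem_bot] at m3
      exact np m3)
    have h4 : finrank k Z ≤ 4 := by
      rw [hZd]
      refine (finrank_range_le_card _).trans ?_
      simp
    omega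
  have hli := chain_li Np Nr' Nc hT.p11 hT.r11 c5 (socle_li (hHp 10) (hHr 10) (hHc 4) np nr nc)
  have h : Bs (Nr ρ) (ρ (Cfsg.Agent.H943.SL2Rel.h tw)) (ρ Cfsg.Agent.H943.SL2Rel.w) p r c := by
    rw [← hN]
    exact {
      Np := Np
      Nr := Nr'
      Nc := Nc
      zp := hT.p11
      zr := hT.r11
      zc := c5
      Hp := hHp
      Hr := hHr
      Hc := hHc
      Wp0 := hz.wp0 hT
      Wp1 := hz.wp1 hT
      Wp2 := hz.wp2 hT
      Wp3 := hz.wp3 hT
      Wp4 := hz.wp4 hT
      Wp5 := hz.wp5 hT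
      Wp6 := hz.wp6 hT
      Wp7 := hz.wp7 hT
      Wp8 := hz.wp8 hT
      Wp9 := hz.wp9 hT
      Wp10 := hz.wp10 hT
      Wr0 := hz.wr0 hT
      Wr1 := hz.wr1 hT
      Wr2 := hz.wr2 hT
      Wr3 := hz.wr3 hT
      Wr4 := hz.wr4 hT
      Wr5 := hz.wr5 hT
      Wr6 := hz.wr6 hT
      Wr7 := hz.wr7 hT
      Wr8 := hz.wr8 hT
      Wr9 := hz.wr9 hT
      Wr10 := hz.wr10 hT
      Wc0 := by
        rw [c0, c4, hv.w 0 (by norm_num)]
        simp only [Nat.sub_zero]
        match_scalars <;> (try ring_nf) <;> (try reduce_mod_char!) <;> (try ring_nf)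
      Wc1 := by
        rw [c1, c3, map_smul, hv.w 1 (by norm_num)]
        simp only [Nat.reduceSub]
        match_scalars <;> (try ring_nf) <;> (try reduce_mod_char!) <;> (try ring_nf)
      Wc2 := by
        rw [c2, hv.w 2 (by norm_num)]
        simp only [Nat.reduceSub]
        match_scalars <;> (try ring_nf) <;> (try reduce_mod_char!) <;> (try ring_nf)
      Wc3 := by
        rw [c3, c1, map_smul, hv.w 3 (by norm_num)]
        simp only [Nat.reduceSub]
        match_scalars <;> (try ring_nf) <;> (try reduce_mod_char!) <;> (try ring_nf)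
      Wc4 := by
        rw [c4, c0, map_smul, hv.w 4 (by norm_num)]
        simp only [Nat.sub_self]
        match_scalars <;> (try ring_nf) <;> (try reduce_mod_char!) <;> (try ring_nf)
      li := hli
      sp := sp_of_li hV hli }
  -- the operators `F`, `G`
  obtain ⟨F, f1, f2, f3⟩ := h.lift (fun _ => 0) (fun n => if n = 0 then (10 : k) • p 9 else if n = 1 then (10 : k) • p 10 else 0)
    (fun _ => 0)
  obtain ⟨G, g1, g2, g3⟩ := h.lift (fun _ => 0) (fun n => if n = 0 then (10 : k) • p 10 else 0) (fun _ => 0)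
  have Fp : ∀ n, F (p n) = 0 := by
    intro n
    rcases Nat.lt_or_ge n 11 with h1 | h1
    · exact f1 n h1
    · rw [hp0 n h1, map_zero]
  have Fc : ∀ n, F (c n) = 0 := by
    intro n
    rcases Nat.lt_or_ge n 5 with h1 | h1
    · exact f3 n h1
    · rw [hc0 n h1, map_zero]
  have Fr0 : F (r 0) = (10 : k) • p 9 := by rw [f2 0 (by norm_num), if_pos rfl]
  have Fr1 : F (r 1) = (10 : k) • p 10 := by rw [f2 1 (by norm_num), if_neg (by norm_num), if_pos rfl]
  have Fr : ∀ n, 2 ≤ n → F (r n) = 0 := by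
    intro n hn
    rcases Nat.lt_or_ge n 11 with h1 | h1
    · rw [f2 n h1, if_neg (by omega), if_neg (by omega)]
    · rw [hr0 n h1, map_zero]
  have Gp : ∀ n, G (p n) = 0 := by
    intro n
    rcases Nat.lt_or_ge n 11 with h1 | h1
    · exact g1 n h1
    · rw [hp0 n h1, map_zero]
  have Gc : ∀ n, G (c n) = 0 := by
    intro n
    rcases Nat.lt_or_ge n 5 with h1 | h1
    · exact g3 n h1
    · rw [hc0 n h1, map_zero]
  have Gr0 : G (r 0) = (10 : k) • p 10 := by rw [g2 0 (by norm_num), if_pos rfl]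
  have Gr : ∀ n, 1 ≤ n → G (r n) = 0 := by
    intro n hn
    rcases Nat.lt_or_ge n 11 with h1 | h1
    · rw [g2 n h1, if_neg (by omega)]
    · rw [hr0 n h1, map_zero]
  have FN : ∀ x, F (N x) = N (F x) := by
    have h1 : F.comp N = N.comp F := by
      refine h.ext (fun n => ?_) (fun n => ?_) fun n => ?_
      · rw [LinearMap.comp_apply, LinearMap.comp_apply, Np, Fp, Fp, map_zero]
      · rw [LinearMap.comp_apply, LinearMap.comp_apply, Nr']
        rcases n with _ | _ | n
        · rw [zero_add, Fr1, Fr0, map_smul, Np]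
        · rw [zero_add, Fr 2 le_rfl, Fr1, map_smul, Np, hT.p11, smul_zero]
        · rw [Fr _ (by omega), Fr _ (by omega), map_zero]
      · rw [LinearMap.comp_apply, LinearMap.comp_apply, Nc, Fc, Fc, map_zero]
    exact fun x => LinearMap.congr_fun h1 x
  have GN : ∀ x, G (N x) = N (G x) := by
    have h1 : G.comp N = N.comp G := by
      refine h.ext (fun n => ?_) (fun n => ?_) fun n => ?_
      · rw [LinearMap.comp_apply, LinearMap.comp_apply, Np, Gp, Gp, map_zero]
      · rw [LinearMap.comp_apply, LinearMap.comp_apply, Nr']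
        rcases n with _ | n
        · rw [zero_add, Gr 1 le_rfl, Gr0, map_smul, Np, hT.p11, smul_zero]
        · rw [Gr _ (by omega), Gr _ (by omega), map_zero]
      · rw [LinearMap.comp_apply, LinearMap.comp_apply, Nc, Gc, Gc, map_zero]
    exact fun x => LinearMap.congr_fun h1 x
  refine ⟨F, G, p, r, c, ⟨h, ?_, Fp, Fr0, Fr1, Fr, Fc, Gp, Gr0, Gr, Gc⟩⟩
  intro t x
  obtain ⟨A, hA⟩ : ∃ A : V →ₗ[k] V, ∀ x, A x = ∑ j ∈ Finset.range 11, (τ t ^ j * ((j.factorial : k))⁻¹) • (N ^ j) x +
      (τ t ^ 11 - τ t) • F x + (τ t ^ 12 - τ t ^ 2) • G x :=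
    ⟨∑ j ∈ Finset.range 11, (τ t ^ j * ((j.factorial : k))⁻¹) • (N ^ j) + (τ t ^ 11 - τ t) • F + (τ t ^ 12 - τ t ^ 2) • G,
      fun x => by simp [LinearMap.sum_apply]⟩
  have hAN : ∀ x, A (N x) = N (A x) := by
    intro x
    rw [hA, hA, map_add, map_add, map_smul, map_smul, map_sum, FN, GN]
    have h1 : ∀ j ∈ Finset.range 11, (τ t ^ j * ((j.factorial : k))⁻¹) • (N ^ j) (N x) =
        N ((τ t ^ j * ((j.factorial : k))⁻¹) • (N ^ j) x) := by
      intro j _
      rw [map_smul, ← Module.End.mul_apply, ← pow_succ, pow_succ', Module.End.mul_apply]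
    rw [Finset.sum_congr rfl h1]
  have hchain : ∀ q : ℕ → V, (∀ n, N (q n) = q (n + 1)) → ρ (Cfsg.Agent.H943.SL2Rel.u t) (q 0) = A (q 0) →
      ∀ n, ρ (Cfsg.Agent.H943.SL2Rel.u t) (q n) = A (q n) := by
    intro q hq hq0 n
    induction n with
    | zero => exact hq0
    | succ n ih => rw [← hq, hcomm, ih, hAN]
  have hE : ρ (Cfsg.Agent.H943.SL2Rel.u t) = A := by
    refine h.ext (hchain p Np ?_) (hchain r Nr' ?_) (hchain c Nc ?_)
    · rw [hz.up hT, hA, Fp, Gp, smul_zero, smul_zero, add_zero, add_zero]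
      refine Finset.sum_congr rfl fun j _ => ?_
      rw [pow_chain Np, zero_add]
    · rw [hz.ur hT, hA, Fr0, Gr0]
      congr 2
      refine Finset.sum_congr rfl fun j _ => ?_
      rw [pow_chain Nr', zero_add]
    · rw [hA, Fc, Gc, smul_zero, smul_zero, add_zero, add_zero]
      have h1 : ∀ j ∈ Finset.range 11, (τ t ^ j * ((j.factorial : k))⁻¹) • (N ^ j) (c 0) =
          (τ t ^ j * ((j.factorial : k))⁻¹) • c j := fun j _ => by rw [pow_chain Nc, zero_add]
      rw [Finset.sum_congr rfl h1, c0, hv.u 0 (by norm_num)]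
      simp only [Finset.sum_range_succ, Finset.sum_range_zero, zero_add, if0, if1, if2, if3, if4,
        Nat.sub_zero, Nat.choose, Nat.reduceAdd, Nat.cast_ofNat, Nat.cast_one, add_zero, c0, c1, c2, c3, c4,
        hc0 5 (by norm_num), hc0 6 (by norm_num), hc0 7 (by norm_num), hc0 8 (by norm_num), hc0 9 (by norm_num),
        hc0 10 (by norm_num), smul_zero]
      generalize τ t = T
      match_scalars <;> (try ring_nf) <;> (try reduce_mod_char!) <;> (try ring_nf) <;> (try reduce_mod_char!) <;>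
        (try ring_nf)
  rw [hE, hA, hN]

end Cfsg.Agent.R2.H14.E11
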