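import Cfsg.Agent.R2.H14.E11.ZHom

/-!
# S5749, S5750, box E11: the table of the vectors `z s r` (helper14)
-/

set_option autoImplicit false
set_option linter.unusedSectionVars false

namespace Cfsg.Agent.R2.H14.E11

open Module Matrix Cfsg.Agent.H943.SL2Rel Cfsg.Agent.H943.SL2Mod

universe u v w

variable {k : Type u} [Field k] [CharP k 11] {K : Type w} [Field K] [Fintype K] [DecidableEq K] [CharP K 11] (τ : K →+* k)
variable {V : Type*} [AddCommGroup V] [Module k V] {ρ : Representation k (SpecialLinearGroup (Fin 2) K) V}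
variable {z : ℕ → ℕ → V}

/-- the power sums -/
theorem psm {m : ℕ} (hm : m ≤ 12) : ∑ n ∈ Finset.range 11, (n : k) ^ (9 + m) = if m = 1 ∨ m = 11 then -1 else 0 := by
  by_cases h1 : m = 1
  · subst h1
    rw [if_pos (Or.inl rfl)]
    exact psum10
  · by_cases h11 : m = 11
    · subst h11
      rw [if_pos (Or.inr rfl)]
      have h1 := (CharP.cast_eq_zero_iff k 11 (∑ n ∈ Finset.range 11, n ^ 20 + 1)).2 (by decide)
      push_cast at h1
      linear_combination h1
    · rw [if_neg (by tauto)]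
      apply psum
      interval_cases m
      all_goals first | omega | decide

include τ in
/-- **the action of `N`** -/
theorem ZZ.nr (hz : ZZ τ ρ z) {s r : ℕ} (hs : s ≤ 10) (hr : r ≤ 2) : Nr ρ (z s r) =
    ∑ i ∈ Finset.range (10 - s + 1), ∑ j ∈ Finset.range (2 - r + 1),
      (((10 - s).choose i : k) * ((2 - r).choose j : k) * if i + j = 1 ∨ i + j = 11 then 1 else 0) • z (s + i) (r + j) := by
  unfold Nr
  rw [Nop_apply]
  have h1 : ∀ n ∈ Finset.range 11, ((n : k) ^ 9) • ρ (Cfsg.Agent.H943.SL2Rel.u (n : K)) (z s r) =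
      ∑ i ∈ Finset.range (10 - s + 1), ∑ j ∈ Finset.range (2 - r + 1),
        (((10 - s).choose i : k) * ((2 - r).choose j : k) * (n : k) ^ (9 + (i + j))) • z (s + i) (r + j) := by
    intro n _
    rw [hz.u s hs r hr, Finset.smul_sum]
    refine Finset.sum_congr rfl fun i _ => ?_
    rw [Finset.smul_sum]
    refine Finset.sum_congr rfl fun j _ => ?_
    rw [smul_smul, map_natCast, pow_add (n : k) 9]
    congr 1
    ring
  rw [Finset.sum_congr rfl h1, Finset.sum_comm, ← Finset.sum_neg_distrib]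
  refine Finset.sum_congr rfl fun i hi => ?_
  rw [Finset.sum_comm, ← Finset.sum_neg_distrib]
  refine Finset.sum_congr rfl fun j hj => ?_
  rw [Finset.mem_range] at hi hj
  rw [← Finset.sum_smul, ← Finset.mul_sum, psm (by omega), ← neg_smul]
  congr 1
  split_ifs <;> ring

theorem slv {c c' : k} (hc : c' * c = 1) {x A B : V} (h : A = c • x + B) : x = c' • (A - B) := by
  rw [h, add_sub_cancel_right, smul_smul, hc, one_smul]

/-- the explicit action of `N` -/
structure NZ (N : V →ₗ[k] V) (z : ℕ → ℕ → V) : Prop where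
  n00 : N (z 0 0) = (10 : k) • z 1 0 + ((2 : k) • z 0 1 + (2 : k) • z 10 1 + (10 : k) • z 9 2)
  n10 : N (z 1 0) = (9 : k) • z 2 0 + ((2 : k) • z 1 1 + z 10 2)
  n01 : N (z 0 1) = (10 : k) • z 1 1 + (z 0 2 + z 10 2)
  n0 : ∀ s, 2 ≤ s → s ≤ 9 → N (z s 0) = ((10 - s : ℕ) : k) • z (s + 1) 0 + (2 : k) • z s 1
  n1 : ∀ s, 1 ≤ s → s ≤ 9 → N (z s 1) = ((10 - s : ℕ) : k) • z (s + 1) 1 + z s 2
  n2 : ∀ s, s ≤ 9 → N (z s 2) = ((10 - s : ℕ) : k) • z (s + 1) 2
  e0 : N (z 10 0) = (2 : k) • z 10 1
  e2 : N (z 10 2) = 0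

include τ in
theorem ZZ.nz (hz : ZZ τ ρ z) : NZ (Nr ρ) z := by
  constructor
  · rw [hz.nr τ (by norm_num) (by norm_num)]
    simp [Finset.sum_range_succ, Nat.choose]
    module
  · rw [hz.nr τ (by norm_num) (by norm_num)]
    simp [Finset.sum_range_succ, Nat.choose]
    module
  · rw [hz.nr τ (by norm_num) (by norm_num)]
    simp [Finset.sum_range_succ, Nat.choose]
    module
  · intro s h1 h2
    rw [hz.nr τ (by omega) (by norm_num)]
    interval_cases s <;> simp [Finset.sum_range_succ, Nat.choose] <;> module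
  · intro s h1 h2
    rw [hz.nr τ (by omega) (by norm_num)]
    interval_cases s <;> simp [Finset.sum_range_succ, Nat.choose] <;> module
  · intro s h2
    rw [hz.nr τ (by omega) (by norm_num)]
    interval_cases s <;> simp [Finset.sum_range_succ, Nat.choose]
  · rw [hz.nr τ (by norm_num) (by norm_num)]
    simp [Finset.sum_range_succ, Nat.choose]
  · rw [hz.nr τ (by norm_num) (by norm_num)]
    simp [Finset.sum_range_succ, Nat.choose]

end Cfsg.Agent.R2.H14.E11
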