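import Cfsg.Agent.R2.H14.E11.ZTab

/-!
# S5749, S5750, box E11: the table of the vectors `z s r`, continued (helper14)
-/

set_option autoImplicit false
set_option linter.unusedSectionVars false
set_option linter.unusedSimpArgs false
set_option linter.unreachableTactic false
set_option linter.unusedTactic false

namespace Cfsg.Agent.R2.H14.E11

open Module

variable {k : Type*} [Field k] [CharP k 11] {V : Type*} [AddCommGroup V] [Module k V]

/-- the table -/
structure ZT (k : Type*) [Field k] {V : Type*} [AddCommGroup V] [Module k V] (z : ℕ → ℕ → V) (p r : ℕ → V) : Prop where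
  t0_0 : z 0 0 = r 0
  t0_1 : z 0 1 = p 9 + r 1
  t0_2 : z 0 2 = p 0
  t1_0 : z 1 0 = p 9 + r 1
  t1_1 : z 1 1 = p 0 + (9 : k) • p 10 + (10 : k) • r 2
  t1_2 : z 1 2 = (10 : k) • p 1
  t2_0 : z 2 0 = p 0 + (8 : k) • p 10 + (4 : k) • r 2
  t2_1 : z 2 1 = (10 : k) • p 1 + (6 : k) • r 3
  t2_2 : z 2 2 = (6 : k) • p 2
  t3_0 : z 3 0 = (10 : k) • p 1 + (10 : k) • r 3
  t3_1 : z 3 1 = (6 : k) • p 2 + (9 : k) • r 4
  t3_2 : z 3 2 = (9 : k) • p 3
  t4_0 : z 4 0 = (6 : k) • p 2 + (2 : k) • r 4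
  t4_1 : z 4 1 = (9 : k) • p 3 + (6 : k) • r 5
  t4_2 : z 4 2 = (6 : k) • p 4
  t5_0 : z 5 0 = (9 : k) • p 3 + (2 : k) • r 5
  t5_1 : z 5 1 = (6 : k) • p 4 + r 6
  t5_2 : z 5 2 = p 5
  t6_0 : z 6 0 = (6 : k) • p 4
  t6_1 : z 6 1 = p 5 + (9 : k) • r 7
  t6_2 : z 6 2 = (9 : k) • p 6
  t7_0 : z 7 0 = p 5 + r 7
  t7_1 : z 7 1 = (9 : k) • p 6 + (5 : k) • r 8
  t7_2 : z 7 2 = (5 : k) • p 7
  t8_0 : z 8 0 = (9 : k) • p 6 + (8 : k) • r 8
  t8_1 : z 8 1 = (5 : k) • p 7 + (9 : k) • r 9
  t8_2 : z 8 2 = (9 : k) • p 8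
  t9_0 : z 9 0 = (5 : k) • p 7 + (6 : k) • r 9
  t9_1 : z 9 1 = (9 : k) • p 8 + (10 : k) • r 10
  t9_2 : z 9 2 = (10 : k) • p 9
  t10_0 : z 10 0 = (9 : k) • p 8 + (8 : k) • r 10
  t10_1 : z 10 1 = (10 : k) • p 9
  t10_2 : z 10 2 = (10 : k) • p 10
  p11 : p 11 = 0
  r11 : r 11 = 0

theorem NZ.zt {N : V →ₗ[k] V} {z : ℕ → ℕ → V} (h : NZ N z) (hD : z 9 2 = z 10 1) (hR : z 1 0 = z 0 1) {p r : ℕ → V}
    (hp0 : p 0 = z 0 2) (hr0 : r 0 = z 0 0) (hp : ∀ n, N (p n) = p (n + 1)) (hr : ∀ n, N (r n) = r (n + 1)) :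
    ZT k z p r := by
  have e : (11 : k) = 0 := e11 k
  have n0 := h.n0
  have n1 := h.n1
  have n2 := h.n2
  have t0_2 : z 0 2 = p 0 := hp0.symm
  have t0_0 : z 0 0 = r 0 := hr0.symm
  have h0_2 := n2 0 (by norm_num)
  have t1_2 : z 1 2 = (10 : k) • p 1 := by
    rw [slv (c := ((10 : ℕ) : k)) (c' := 10) (by push_cast; linear_combination 9 * e)
      (show N (z 0 2) = ((10 : ℕ) : k) • z (0 + 1) 2 + 0 by rw [h0_2, add_zero]), t0_2]
    simp only [map_add, map_smul, hp, hr]
    match_scalars <;> (try ring_nf) <;> (try reduce_mod_char!) <;> (try ring_nf)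
  have h1_2 := n2 1 (by norm_num)
  have t2_2 : z 2 2 = (6 : k) • p 2 := by
    rw [slv (c := ((9 : ℕ) : k)) (c' := 5) (by push_cast; linear_combination 4 * e)
      (show N (z 1 2) = ((9 : ℕ) : k) • z (1 + 1) 2 + 0 by rw [h1_2, add_zero]), t1_2]
    simp only [map_add, map_smul, hp, hr]
    match_scalars <;> (try ring_nf) <;> (try reduce_mod_char!) <;> (try ring_nf)
  have h2_2 := n2 2 (by norm_num)
  have t3_2 : z 3 2 = (9 : k) • p 3 := by
    rw [slv (c := ((8 : ℕ) : k)) (c' := 7) (by push_cast; linear_combination 5 * e)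
      (show N (z 2 2) = ((8 : ℕ) : k) • z (2 + 1) 2 + 0 by rw [h2_2, add_zero]), t2_2]
    simp only [map_add, map_smul, hp, hr]
    match_scalars <;> (try ring_nf) <;> (try reduce_mod_char!) <;> (try ring_nf)
  have h3_2 := n2 3 (by norm_num)
  have t4_2 : z 4 2 = (6 : k) • p 4 := by
    rw [slv (c := ((7 : ℕ) : k)) (c' := 8) (by push_cast; linear_combination 5 * e)
      (show N (z 3 2) = ((7 : ℕ) : k) • z (3 + 1) 2 + 0 by rw [h3_2, add_zero]), t3_2]
    simp only [map_add, map_smul, hp, hr]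
    match_scalars <;> (try ring_nf) <;> (try reduce_mod_char!) <;> (try ring_nf)
  have h4_2 := n2 4 (by norm_num)
  have t5_2 : z 5 2 = p 5 := by
    rw [slv (c := ((6 : ℕ) : k)) (c' := 2) (by push_cast; linear_combination 1 * e)
      (show N (z 4 2) = ((6 : ℕ) : k) • z (4 + 1) 2 + 0 by rw [h4_2, add_zero]), t4_2]
    simp only [map_add, map_smul, hp, hr]
    match_scalars <;> (try ring_nf) <;> (try reduce_mod_char!) <;> (try ring_nf)
  have h5_2 := n2 5 (by norm_num)
  have t6_2 : z 6 2 = (9 : k) • p 6 := by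
    rw [slv (c := ((5 : ℕ) : k)) (c' := 9) (by push_cast; linear_combination 4 * e)
      (show N (z 5 2) = ((5 : ℕ) : k) • z (5 + 1) 2 + 0 by rw [h5_2, add_zero]), t5_2]
    simp only [map_add, map_smul, hp, hr]
    match_scalars <;> (try ring_nf) <;> (try reduce_mod_char!) <;> (try ring_nf)
  have h6_2 := n2 6 (by norm_num)
  have t7_2 : z 7 2 = (5 : k) • p 7 := by
    rw [slv (c := ((4 : ℕ) : k)) (c' := 3) (by push_cast; linear_combination 1 * e)
      (show N (z 6 2) = ((4 : ℕ) : k) • z (6 + 1) 2 + 0 by rw [h6_2, add_zero]), t6_2]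
    simp only [map_add, map_smul, hp, hr]
    match_scalars <;> (try ring_nf) <;> (try reduce_mod_char!) <;> (try ring_nf)
  have h7_2 := n2 7 (by norm_num)
  have t8_2 : z 8 2 = (9 : k) • p 8 := by
    rw [slv (c := ((3 : ℕ) : k)) (c' := 4) (by push_cast; linear_combination 1 * e)
      (show N (z 7 2) = ((3 : ℕ) : k) • z (7 + 1) 2 + 0 by rw [h7_2, add_zero]), t7_2]
    simp only [map_add, map_smul, hp, hr]
    match_scalars <;> (try ring_nf) <;> (try reduce_mod_char!) <;> (try ring_nf)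
  have h8_2 := n2 8 (by norm_num)
  have t9_2 : z 9 2 = (10 : k) • p 9 := by
    rw [slv (c := ((2 : ℕ) : k)) (c' := 6) (by push_cast; linear_combination 1 * e)
      (show N (z 8 2) = ((2 : ℕ) : k) • z (8 + 1) 2 + 0 by rw [h8_2, add_zero]), t8_2]
    simp only [map_add, map_smul, hp, hr]
    match_scalars <;> (try ring_nf) <;> (try reduce_mod_char!) <;> (try ring_nf)
  have h9_2 := n2 9 (by norm_num)
  have t10_2 : z 10 2 = (10 : k) • p 10 := by
    rw [slv (c := ((1 : ℕ) : k)) (c' := 1) (by push_cast; linear_combination 0 * e)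
      (show N (z 9 2) = ((1 : ℕ) : k) • z (9 + 1) 2 + 0 by rw [h9_2, add_zero]), t9_2]
    simp only [map_add, map_smul, hp, hr]
    match_scalars <;> (try ring_nf) <;> (try reduce_mod_char!) <;> (try ring_nf)
  have p11 : p 11 = 0 := by
    have h1 := h.e2
    rw [t10_2, map_smul, hp] at h1
    refine (smul_eq_zero.1 h1).resolve_left ?_
    exact_mod_cast ne_of (k := k) 10 (by decide)
  have t10_1 : z 10 1 = (10 : k) • p 9 := by rw [← hD, t9_2]
  have t1_0 : z 1 0 = p 9 + r 1 := by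
    have h0 := h.n00
    rw [← hR, t9_2, t10_1, t0_0, hr] at h0
    have h1 : r (0 + 1) = (12 : k) • z 1 0 + (120 : k) • p 9 := by
      rw [h0]
      module
    rw [slv (c := (12 : k)) (c' := 1) (by linear_combination e) h1]
    match_scalars <;> (try ring_nf) <;> (try reduce_mod_char!) <;> (try ring_nf)
  have t0_1 : z 0 1 = p 9 + r 1 := by rw [← hR, t1_0]
  have t1_1 : z 1 1 = p 0 + (9 : k) • p 10 + (10 : k) • r 2 := by
    rw [slv (c := (10 : k)) (c' := 10) (by linear_combination 9 * e) h.n01, t0_1, t0_2, t10_2]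
    simp only [map_add, map_smul, hp, hr]
    match_scalars <;> (try ring_nf) <;> (try reduce_mod_char!) <;> (try ring_nf)
  have t2_0 : z 2 0 = p 0 + (8 : k) • p 10 + (4 : k) • r 2 := by
    rw [slv (c := (9 : k)) (c' := 5) (by linear_combination 4 * e) h.n10, t1_0, t1_1, t10_2]
    simp only [map_add, map_smul, hp, hr]
    match_scalars <;> (try ring_nf) <;> (try reduce_mod_char!) <;> (try ring_nf)
  have t2_1 : z 2 1 = (10 : k) • p 1 + (6 : k) • r 3 := by
    rw [slv (c := ((9 : ℕ) : k)) (c' := 5) (by push_cast; linear_combination 4 * e)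
      (n1 1 (by norm_num) (by norm_num)), t1_1, t1_2]
    simp only [map_add, map_smul, hp, hr, Nat.reduceAdd, p11, smul_zero, add_zero, zero_add]
    match_scalars <;> (try ring_nf) <;> (try reduce_mod_char!) <;> (try ring_nf)
  have t3_1 : z 3 1 = (6 : k) • p 2 + (9 : k) • r 4 := by
    rw [slv (c := ((8 : ℕ) : k)) (c' := 7) (by push_cast; linear_combination 5 * e)
      (n1 2 (by norm_num) (by norm_num)), t2_1, t2_2]
    simp only [map_add, map_smul, hp, hr, Nat.reduceAdd, p11, smul_zero, add_zero, zero_add]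
    match_scalars <;> (try ring_nf) <;> (try reduce_mod_char!) <;> (try ring_nf)
  have t4_1 : z 4 1 = (9 : k) • p 3 + (6 : k) • r 5 := by
    rw [slv (c := ((7 : ℕ) : k)) (c' := 8) (by push_cast; linear_combination 5 * e)
      (n1 3 (by norm_num) (by norm_num)), t3_1, t3_2]
    simp only [map_add, map_smul, hp, hr, Nat.reduceAdd, p11, smul_zero, add_zero, zero_add]
    match_scalars <;> (try ring_nf) <;> (try reduce_mod_char!) <;> (try ring_nf)
  have t5_1 : z 5 1 = (6 : k) • p 4 + r 6 := by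
    rw [slv (c := ((6 : ℕ) : k)) (c' := 2) (by push_cast; linear_combination 1 * e)
      (n1 4 (by norm_num) (by norm_num)), t4_1, t4_2]
    simp only [map_add, map_smul, hp, hr, Nat.reduceAdd, p11, smul_zero, add_zero, zero_add]
    match_scalars <;> (try ring_nf) <;> (try reduce_mod_char!) <;> (try ring_nf)
  have t6_1 : z 6 1 = p 5 + (9 : k) • r 7 := by
    rw [slv (c := ((5 : ℕ) : k)) (c' := 9) (by push_cast; linear_combination 4 * e)
      (n1 5 (by norm_num) (by norm_num)), t5_1, t5_2]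
    simp only [map_add, map_smul, hp, hr, Nat.reduceAdd, p11, smul_zero, add_zero, zero_add]
    match_scalars <;> (try ring_nf) <;> (try reduce_mod_char!) <;> (try ring_nf)
  have t7_1 : z 7 1 = (9 : k) • p 6 + (5 : k) • r 8 := by
    rw [slv (c := ((4 : ℕ) : k)) (c' := 3) (by push_cast; linear_combination 1 * e)
      (n1 6 (by norm_num) (by norm_num)), t6_1, t6_2]
    simp only [map_add, map_smul, hp, hr, Nat.reduceAdd, p11, smul_zero, add_zero, zero_add]
    match_scalars <;> (try ring_nf) <;> (try reduce_mod_char!) <;> (try ring_nf)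
  have t8_1 : z 8 1 = (5 : k) • p 7 + (9 : k) • r 9 := by
    rw [slv (c := ((3 : ℕ) : k)) (c' := 4) (by push_cast; linear_combination 1 * e)
      (n1 7 (by norm_num) (by norm_num)), t7_1, t7_2]
    simp only [map_add, map_smul, hp, hr, Nat.reduceAdd, p11, smul_zero, add_zero, zero_add]
    match_scalars <;> (try ring_nf) <;> (try reduce_mod_char!) <;> (try ring_nf)
  have t9_1 : z 9 1 = (9 : k) • p 8 + (10 : k) • r 10 := by
    rw [slv (c := ((2 : ℕ) : k)) (c' := 6) (by push_cast; linear_combination 1 * e)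
      (n1 8 (by norm_num) (by norm_num)), t8_1, t8_2]
    simp only [map_add, map_smul, hp, hr, Nat.reduceAdd, p11, smul_zero, add_zero, zero_add]
    match_scalars <;> (try ring_nf) <;> (try reduce_mod_char!) <;> (try ring_nf)
  have t3_0 : z 3 0 = (10 : k) • p 1 + (10 : k) • r 3 := by
    rw [slv (c := ((8 : ℕ) : k)) (c' := 7) (by push_cast; linear_combination 5 * e)
      (n0 2 (by norm_num) (by norm_num)), t2_0, t2_1]
    simp only [map_add, map_smul, hp, hr, Nat.reduceAdd, p11, smul_zero, add_zero, zero_add]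
    match_scalars <;> (try ring_nf) <;> (try reduce_mod_char!) <;> (try ring_nf)
  have t4_0 : z 4 0 = (6 : k) • p 2 + (2 : k) • r 4 := by
    rw [slv (c := ((7 : ℕ) : k)) (c' := 8) (by push_cast; linear_combination 5 * e)
      (n0 3 (by norm_num) (by norm_num)), t3_0, t3_1]
    simp only [map_add, map_smul, hp, hr, Nat.reduceAdd, p11, smul_zero, add_zero, zero_add]
    match_scalars <;> (try ring_nf) <;> (try reduce_mod_char!) <;> (try ring_nf)
  have t5_0 : z 5 0 = (9 : k) • p 3 + (2 : k) • r 5 := by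
    rw [slv (c := ((6 : ℕ) : k)) (c' := 2) (by push_cast; linear_combination 1 * e)
      (n0 4 (by norm_num) (by norm_num)), t4_0, t4_1]
    simp only [map_add, map_smul, hp, hr, Nat.reduceAdd, p11, smul_zero, add_zero, zero_add]
    match_scalars <;> (try ring_nf) <;> (try reduce_mod_char!) <;> (try ring_nf)
  have t6_0 : z 6 0 = (6 : k) • p 4 := by
    rw [slv (c := ((5 : ℕ) : k)) (c' := 9) (by push_cast; linear_combination 4 * e)
      (n0 5 (by norm_num) (by norm_num)), t5_0, t5_1]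
    simp only [map_add, map_smul, hp, hr, Nat.reduceAdd, p11, smul_zero, add_zero, zero_add]
    match_scalars <;> (try ring_nf) <;> (try reduce_mod_char!) <;> (try ring_nf)
  have t7_0 : z 7 0 = p 5 + r 7 := by
    rw [slv (c := ((4 : ℕ) : k)) (c' := 3) (by push_cast; linear_combination 1 * e)
      (n0 6 (by norm_num) (by norm_num)), t6_0, t6_1]
    simp only [map_add, map_smul, hp, hr, Nat.reduceAdd, p11, smul_zero, add_zero, zero_add]
    match_scalars <;> (try ring_nf) <;> (try reduce_mod_char!) <;> (try ring_nf)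
  have t8_0 : z 8 0 = (9 : k) • p 6 + (8 : k) • r 8 := by
    rw [slv (c := ((3 : ℕ) : k)) (c' := 4) (by push_cast; linear_combination 1 * e)
      (n0 7 (by norm_num) (by norm_num)), t7_0, t7_1]
    simp only [map_add, map_smul, hp, hr, Nat.reduceAdd, p11, smul_zero, add_zero, zero_add]
    match_scalars <;> (try ring_nf) <;> (try reduce_mod_char!) <;> (try ring_nf)
  have t9_0 : z 9 0 = (5 : k) • p 7 + (6 : k) • r 9 := by
    rw [slv (c := ((2 : ℕ) : k)) (c' := 6) (by push_cast; linear_combination 1 * e)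
      (n0 8 (by norm_num) (by norm_num)), t8_0, t8_1]
    simp only [map_add, map_smul, hp, hr, Nat.reduceAdd, p11, smul_zero, add_zero, zero_add]
    match_scalars <;> (try ring_nf) <;> (try reduce_mod_char!) <;> (try ring_nf)
  have t10_0 : z 10 0 = (9 : k) • p 8 + (8 : k) • r 10 := by
    rw [slv (c := ((1 : ℕ) : k)) (c' := 1) (by push_cast; linear_combination 0 * e)
      (n0 9 (by norm_num) (by norm_num)), t9_0, t9_1]
    simp only [map_add, map_smul, hp, hr, Nat.reduceAdd, p11, smul_zero, add_zero, zero_add]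
    match_scalars <;> (try ring_nf) <;> (try reduce_mod_char!) <;> (try ring_nf)
  have r11 : r 11 = 0 := by
    have h1 := h.e0
    rw [t10_0, t10_1, map_add, map_smul, map_smul, hp, hr] at h1
    have h2 : (8 : k) • r (10 + 1) = ((2 : k) • (10 : k) • p 9 - (9 : k) • p (8 + 1)) := by
      rw [← h1]
      module
    have h3 : (2 : k) • (10 : k) • p 9 - (9 : k) • p (8 + 1) = 0 := by
      match_scalars <;> (try ring_nf) <;> (try reduce_mod_char!)
    rw [h3] at h2
    refine (smul_eq_zero.1 h2).resolve_left ?_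
    exact_mod_cast ne_of (k := k) 8 (by decide)
  exact ⟨t0_0, t0_1, t0_2, t1_0, t1_1, t1_2, t2_0, t2_1, t2_2, t3_0, t3_1, t3_2, t4_0, t4_1, t4_2, t5_0, t5_1, t5_2, t6_0, t6_1, t6_2, t7_0, t7_1, t7_2, t8_0, t8_1, t8_2, t9_0, t9_1, t9_2, t10_0, t10_1, t10_2, p11, r11⟩

end Cfsg.Agent.R2.H14.E11
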