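import Cfsg.Agent.R2.H14.E11.ZTabB

/-!
# S5749, S5750, box E11: the table for `w`, `h 2`, `u t` on the chains (helper14)
-/

set_option autoImplicit false
set_option linter.unusedSectionVars false
set_option linter.unusedSimpArgs false
set_option linter.unreachableTactic false
set_option linter.unusedTactic false
set_option linter.unnecessarySeqFocus false

namespace Cfsg.Agent.R2.H14.E11

open Module Matrix Cfsg.Agent.H943.SL2Rel

universe u v w

section a

variable {k : Type*} [Field k] [CharP k 11]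

theorem if0 : (((0 : ℕ).factorial : ℕ) : k)⁻¹ = 1 := by
  apply inv_eq_of_mul_eq_one_right
  have e := e11 k
  simp only [Nat.factorial]
  push_cast
  linear_combination 0 * e

theorem if1 : (((1 : ℕ).factorial : ℕ) : k)⁻¹ = 1 := by
  apply inv_eq_of_mul_eq_one_right
  have e := e11 k
  simp only [Nat.factorial]
  push_cast
  linear_combination 0 * e

theorem if2 : (((2 : ℕ).factorial : ℕ) : k)⁻¹ = 6 := by
  apply inv_eq_of_mul_eq_one_right
  have e := e11 k
  simp only [Nat.factorial]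
  push_cast
  linear_combination 1 * e

theorem if3 : (((3 : ℕ).factorial : ℕ) : k)⁻¹ = 2 := by
  apply inv_eq_of_mul_eq_one_right
  have e := e11 k
  simp only [Nat.factorial]
  push_cast
  linear_combination 1 * e

theorem if4 : (((4 : ℕ).factorial : ℕ) : k)⁻¹ = 6 := by
  apply inv_eq_of_mul_eq_one_right
  have e := e11 k
  simp only [Nat.factorial]
  push_cast
  linear_combination 13 * e

theorem if5 : (((5 : ℕ).factorial : ℕ) : k)⁻¹ = 10 := by
  apply inv_eq_of_mul_eq_one_right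
  have e := e11 k
  simp only [Nat.factorial]
  push_cast
  linear_combination 109 * e

theorem if6 : (((6 : ℕ).factorial : ℕ) : k)⁻¹ = 9 := by
  apply inv_eq_of_mul_eq_one_right
  have e := e11 k
  simp only [Nat.factorial]
  push_cast
  linear_combination 589 * e

theorem if7 : (((7 : ℕ).factorial : ℕ) : k)⁻¹ = 6 := by
  apply inv_eq_of_mul_eq_one_right
  have e := e11 k
  simp only [Nat.factorial]
  push_cast
  linear_combination 2749 * e

theorem if8 : (((8 : ℕ).factorial : ℕ) : k)⁻¹ = 9 := by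
  apply inv_eq_of_mul_eq_one_right
  have e := e11 k
  simp only [Nat.factorial]
  push_cast
  linear_combination 32989 * e

theorem if9 : (((9 : ℕ).factorial : ℕ) : k)⁻¹ = 1 := by
  apply inv_eq_of_mul_eq_one_right
  have e := e11 k
  simp only [Nat.factorial]
  push_cast
  linear_combination 32989 * e

theorem if10 : (((10 : ℕ).factorial : ℕ) : k)⁻¹ = 10 := by
  apply inv_eq_of_mul_eq_one_right
  have e := e11 k
  simp only [Nat.factorial]
  push_cast
  linear_combination 3298909 * e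

variable {V : Type*} [AddCommGroup V] [Module k V] {z : ℕ → ℕ → V} {p r : ℕ → V}

theorem ZT.p0 (h : ZT k z p r) : p 0 = (1 : k) • z 0 2 := by
  rw [h.t0_2]
  match_scalars <;> (try ring_nf) <;> (try reduce_mod_char!) <;> (try ring_nf)

theorem ZT.p1 (h : ZT k z p r) : p 1 = (10 : k) • z 1 2 := by
  rw [h.t1_2]
  match_scalars <;> (try ring_nf) <;> (try reduce_mod_char!) <;> (try ring_nf)

theorem ZT.p2 (h : ZT k z p r) : p 2 = (2 : k) • z 2 2 := by
  rw [h.t2_2]
  match_scalars <;> (try ring_nf) <;> (try reduce_mod_char!) <;> (try ring_nf)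

theorem ZT.p3 (h : ZT k z p r) : p 3 = (5 : k) • z 3 2 := by
  rw [h.t3_2]
  match_scalars <;> (try ring_nf) <;> (try reduce_mod_char!) <;> (try ring_nf)

theorem ZT.p4 (h : ZT k z p r) : p 4 = (2 : k) • z 4 2 := by
  rw [h.t4_2]
  match_scalars <;> (try ring_nf) <;> (try reduce_mod_char!) <;> (try ring_nf)

theorem ZT.p5 (h : ZT k z p r) : p 5 = (1 : k) • z 5 2 := by
  rw [h.t5_2]
  match_scalars <;> (try ring_nf) <;> (try reduce_mod_char!) <;> (try ring_nf)

theorem ZT.p6 (h : ZT k z p r) : p 6 = (5 : k) • z 6 2 := by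
  rw [h.t6_2]
  match_scalars <;> (try ring_nf) <;> (try reduce_mod_char!) <;> (try ring_nf)

theorem ZT.p7 (h : ZT k z p r) : p 7 = (9 : k) • z 7 2 := by
  rw [h.t7_2]
  match_scalars <;> (try ring_nf) <;> (try reduce_mod_char!) <;> (try ring_nf)

theorem ZT.p8 (h : ZT k z p r) : p 8 = (5 : k) • z 8 2 := by
  rw [h.t8_2]
  match_scalars <;> (try ring_nf) <;> (try reduce_mod_char!) <;> (try ring_nf)

theorem ZT.p9 (h : ZT k z p r) : p 9 = (10 : k) • z 9 2 := by
  rw [h.t9_2]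
  match_scalars <;> (try ring_nf) <;> (try reduce_mod_char!) <;> (try ring_nf)

theorem ZT.p10 (h : ZT k z p r) : p 10 = (10 : k) • z 10 2 := by
  rw [h.t10_2]
  match_scalars <;> (try ring_nf) <;> (try reduce_mod_char!) <;> (try ring_nf)

theorem ZT.r0 (h : ZT k z p r) : r 0 = z 0 0 := by
  rw [h.t0_0]

theorem ZT.r1 (h : ZT k z p r) : r 1 = z 0 1 + z 9 2 := by
  rw [h.t0_1, h.t9_2]
  match_scalars <;> (try ring_nf) <;> (try reduce_mod_char!) <;> (try ring_nf)

theorem ZT.r2 (h : ZT k z p r) : r 2 = z 0 2 + (10 : k) • z 1 1 + (2 : k) • z 10 2 := by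
  rw [h.t1_1, h.t0_2, h.t10_2]
  match_scalars <;> (try ring_nf) <;> (try reduce_mod_char!) <;> (try ring_nf)

theorem ZT.r3 (h : ZT k z p r) : r 3 = (9 : k) • z 1 2 + (2 : k) • z 2 1 := by
  rw [h.t2_1, h.t1_2]
  match_scalars <;> (try ring_nf) <;> (try reduce_mod_char!) <;> (try ring_nf)

theorem ZT.r4 (h : ZT k z p r) : r 4 = (6 : k) • z 2 2 + (5 : k) • z 3 1 := by
  rw [h.t3_1, h.t2_2]
  match_scalars <;> (try ring_nf) <;> (try reduce_mod_char!) <;> (try ring_nf)

theorem ZT.r5 (h : ZT k z p r) : r 5 = (9 : k) • z 3 2 + (2 : k) • z 4 1 := by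
  rw [h.t4_1, h.t3_2]
  match_scalars <;> (try ring_nf) <;> (try reduce_mod_char!) <;> (try ring_nf)

theorem ZT.r6 (h : ZT k z p r) : r 6 = (10 : k) • z 4 2 + z 5 1 := by
  rw [h.t5_1, h.t4_2]
  match_scalars <;> (try ring_nf) <;> (try reduce_mod_char!) <;> (try ring_nf)

theorem ZT.r7 (h : ZT k z p r) : r 7 = (6 : k) • z 5 2 + (5 : k) • z 6 1 := by
  rw [h.t6_1, h.t5_2]
  match_scalars <;> (try ring_nf) <;> (try reduce_mod_char!) <;> (try ring_nf)

theorem ZT.r8 (h : ZT k z p r) : r 8 = (2 : k) • z 6 2 + (9 : k) • z 7 1 := by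
  rw [h.t7_1, h.t6_2]
  match_scalars <;> (try ring_nf) <;> (try reduce_mod_char!) <;> (try ring_nf)

theorem ZT.r9 (h : ZT k z p r) : r 9 = (6 : k) • z 7 2 + (5 : k) • z 8 1 := by
  rw [h.t8_1, h.t7_2]
  match_scalars <;> (try ring_nf) <;> (try reduce_mod_char!) <;> (try ring_nf)

theorem ZT.r10 (h : ZT k z p r) : r 10 = z 8 2 + (10 : k) • z 9 1 := by
  rw [h.t9_1, h.t8_2]
  match_scalars <;> (try ring_nf) <;> (try reduce_mod_char!) <;> (try ring_nf)

end a

variable {k : Type u} [Field k] [CharP k 11] {K : Type w} [Field K] [Fintype K] [DecidableEq K] [CharP K 11] {τ : K →+* k}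
variable {V : Type*} [AddCommGroup V] [Module k V] {ρ : Representation k (SpecialLinearGroup (Fin 2) K) V}
variable {z : ℕ → ℕ → V} {p r : ℕ → V}

theorem two_inv : (2 : k)⁻¹ = 6 := by
  apply inv_eq_of_mul_eq_one_right
  have e := e11 k
  linear_combination e

theorem ZZ.h2 (hz : ZZ τ ρ z) {s r : ℕ} (hs : s ≤ 10) (hr : r ≤ 2) : ρ (Cfsg.Agent.H943.SL2Rel.h tw) (z s r) =
    ((2 : k) ^ s * 6 ^ (10 - s) * (2 ^ r * 6 ^ (2 - r))) • z s r := by
  have h1 : τ ((tw : Kˣ) : K) = 2 := map_ofNat τ 2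
  rw [hz.h s hs r hr, h1, two_inv]

/-- the eigenvectors -/
theorem ZZ.Hp (hz : ZZ τ ρ z) (h : ZT k z p r) : ∀ n < 11, ρ (Cfsg.Agent.H943.SL2Rel.h tw) (p n) = (4 : k) ^ (n + 1) • p n := by
  intro n hn
  interval_cases n
  · rw [h.p0, map_smul, hz.h2 (by norm_num) (by norm_num)]
    match_scalars <;> (try ring_nf) <;> (try reduce_mod_char!) <;> (try ring_nf)
  · rw [h.p1, map_smul, hz.h2 (by norm_num) (by norm_num)]
    match_scalars <;> (try ring_nf) <;> (try reduce_mod_char!) <;> (try ring_nf)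
  · rw [h.p2, map_smul, hz.h2 (by norm_num) (by norm_num)]
    match_scalars <;> (try ring_nf) <;> (try reduce_mod_char!) <;> (try ring_nf)
  · rw [h.p3, map_smul, hz.h2 (by norm_num) (by norm_num)]
    match_scalars <;> (try ring_nf) <;> (try reduce_mod_char!) <;> (try ring_nf)
  · rw [h.p4, map_smul, hz.h2 (by norm_num) (by norm_num)]
    match_scalars <;> (try ring_nf) <;> (try reduce_mod_char!) <;> (try ring_nf)
  · rw [h.p5, map_smul, hz.h2 (by norm_num) (by norm_num)]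
    match_scalars <;> (try ring_nf) <;> (try reduce_mod_char!) <;> (try ring_nf)
  · rw [h.p6, map_smul, hz.h2 (by norm_num) (by norm_num)]
    match_scalars <;> (try ring_nf) <;> (try reduce_mod_char!) <;> (try ring_nf)
  · rw [h.p7, map_smul, hz.h2 (by norm_num) (by norm_num)]
    match_scalars <;> (try ring_nf) <;> (try reduce_mod_char!) <;> (try ring_nf)
  · rw [h.p8, map_smul, hz.h2 (by norm_num) (by norm_num)]
    match_scalars <;> (try ring_nf) <;> (try reduce_mod_char!) <;> (try ring_nf)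
  · rw [h.p9, map_smul, hz.h2 (by norm_num) (by norm_num)]
    match_scalars <;> (try ring_nf) <;> (try reduce_mod_char!) <;> (try ring_nf)
  · rw [h.p10, map_smul, hz.h2 (by norm_num) (by norm_num)]
    match_scalars <;> (try ring_nf) <;> (try reduce_mod_char!) <;> (try ring_nf)

theorem ZZ.Hr (hz : ZZ τ ρ z) (h : ZT k z p r) : ∀ n < 11, ρ (Cfsg.Agent.H943.SL2Rel.h tw) (r n) = (4 : k) ^ (n + 4) • r n := by
  intro n hn
  interval_cases n
  · rw [h.r0]
    try simp only [map_add, map_smul]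
    rw [hz.h2 (s := 0) (r := 0) (by norm_num) (by norm_num)]
    match_scalars <;> (try ring_nf) <;> (try reduce_mod_char!) <;> (try ring_nf)
  · rw [h.r1]
    try simp only [map_add, map_smul]
    rw [hz.h2 (s := 0) (r := 1) (by norm_num) (by norm_num), hz.h2 (s := 9) (r := 2) (by norm_num) (by norm_num)]
    match_scalars <;> (try ring_nf) <;> (try reduce_mod_char!) <;> (try ring_nf)
  · rw [h.r2]
    try simp only [map_add, map_smul]
    rw [hz.h2 (s := 1) (r := 1) (by norm_num) (by norm_num), hz.h2 (s := 0) (r := 2) (by norm_num) (by norm_num), hz.h2 (s := 10) (r := 2) (by norm_num) (by norm_num)]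
    match_scalars <;> (try ring_nf) <;> (try reduce_mod_char!) <;> (try ring_nf)
  · rw [h.r3]
    try simp only [map_add, map_smul]
    rw [hz.h2 (s := 2) (r := 1) (by norm_num) (by norm_num), hz.h2 (s := 1) (r := 2) (by norm_num) (by norm_num)]
    match_scalars <;> (try ring_nf) <;> (try reduce_mod_char!) <;> (try ring_nf)
  · rw [h.r4]
    try simp only [map_add, map_smul]
    rw [hz.h2 (s := 3) (r := 1) (by norm_num) (by norm_num), hz.h2 (s := 2) (r := 2) (by norm_num) (by norm_num)]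
    match_scalars <;> (try ring_nf) <;> (try reduce_mod_char!) <;> (try ring_nf)
  · rw [h.r5]
    try simp only [map_add, map_smul]
    rw [hz.h2 (s := 4) (r := 1) (by norm_num) (by norm_num), hz.h2 (s := 3) (r := 2) (by norm_num) (by norm_num)]
    match_scalars <;> (try ring_nf) <;> (try reduce_mod_char!) <;> (try ring_nf)
  · rw [h.r6]
    try simp only [map_add, map_smul]
    rw [hz.h2 (s := 5) (r := 1) (by norm_num) (by norm_num), hz.h2 (s := 4) (r := 2) (by norm_num) (by norm_num)]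
    match_scalars <;> (try ring_nf) <;> (try reduce_mod_char!) <;> (try ring_nf)
  · rw [h.r7]
    try simp only [map_add, map_smul]
    rw [hz.h2 (s := 6) (r := 1) (by norm_num) (by norm_num), hz.h2 (s := 5) (r := 2) (by norm_num) (by norm_num)]
    match_scalars <;> (try ring_nf) <;> (try reduce_mod_char!) <;> (try ring_nf)
  · rw [h.r8]
    try simp only [map_add, map_smul]
    rw [hz.h2 (s := 7) (r := 1) (by norm_num) (by norm_num), hz.h2 (s := 6) (r := 2) (by norm_num) (by norm_num)]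
    match_scalars <;> (try ring_nf) <;> (try reduce_mod_char!) <;> (try ring_nf)
  · rw [h.r9]
    try simp only [map_add, map_smul]
    rw [hz.h2 (s := 8) (r := 1) (by norm_num) (by norm_num), hz.h2 (s := 7) (r := 2) (by norm_num) (by norm_num)]
    match_scalars <;> (try ring_nf) <;> (try reduce_mod_char!) <;> (try ring_nf)
  · rw [h.r10]
    try simp only [map_add, map_smul]
    rw [hz.h2 (s := 9) (r := 1) (by norm_num) (by norm_num), hz.h2 (s := 8) (r := 2) (by norm_num) (by norm_num)]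
    match_scalars <;> (try ring_nf) <;> (try reduce_mod_char!) <;> (try ring_nf)

theorem ZZ.wp0 (hz : ZZ τ ρ z) (h : ZT k z p r) : ρ Cfsg.Agent.H943.SL2Rel.w (p 0) = (9 : k) • p 8 + (8 : k) • r 10 := by
  conv_lhs => rw [h.p0, map_smul, hz.w 0 (by norm_num) 2 (by norm_num)]
  simp only [Nat.reduceSub, Nat.reduceAdd, h.t10_0]
  match_scalars <;> (try ring_nf) <;> (try reduce_mod_char!) <;> (try ring_nf)

theorem ZZ.wp1 (hz : ZZ τ ρ z) (h : ZT k z p r) : ρ Cfsg.Agent.H943.SL2Rel.w (p 1) = (5 : k) • p 7 + (6 : k) • r 9 := by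
  conv_lhs => rw [h.p1, map_smul, hz.w 1 (by norm_num) 2 (by norm_num)]
  simp only [Nat.reduceSub, Nat.reduceAdd, h.t9_0]
  match_scalars <;> (try ring_nf) <;> (try reduce_mod_char!) <;> (try ring_nf)

theorem ZZ.wp2 (hz : ZZ τ ρ z) (h : ZT k z p r) : ρ Cfsg.Agent.H943.SL2Rel.w (p 2) = (7 : k) • p 6 + (5 : k) • r 8 := by
  conv_lhs => rw [h.p2, map_smul, hz.w 2 (by norm_num) 2 (by norm_num)]
  simp only [Nat.reduceSub, Nat.reduceAdd, h.t8_0]
  match_scalars <;> (try ring_nf) <;> (try reduce_mod_char!) <;> (try ring_nf)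

theorem ZZ.wp3 (hz : ZZ τ ρ z) (h : ZT k z p r) : ρ Cfsg.Agent.H943.SL2Rel.w (p 3) = (6 : k) • p 5 + (6 : k) • r 7 := by
  conv_lhs => rw [h.p3, map_smul, hz.w 3 (by norm_num) 2 (by norm_num)]
  simp only [Nat.reduceSub, Nat.reduceAdd, h.t7_0]
  match_scalars <;> (try ring_nf) <;> (try reduce_mod_char!) <;> (try ring_nf)

theorem ZZ.wp4 (hz : ZZ τ ρ z) (h : ZT k z p r) : ρ Cfsg.Agent.H943.SL2Rel.w (p 4) = p 4 := by
  conv_lhs => rw [h.p4, map_smul, hz.w 4 (by norm_num) 2 (by norm_num)]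
  simp only [Nat.reduceSub, Nat.reduceAdd, h.t6_0]
  match_scalars <;> (try ring_nf) <;> (try reduce_mod_char!) <;> (try ring_nf)

theorem ZZ.wp5 (hz : ZZ τ ρ z) (h : ZT k z p r) : ρ Cfsg.Agent.H943.SL2Rel.w (p 5) = (2 : k) • p 3 + (9 : k) • r 5 := by
  conv_lhs => rw [h.p5, map_smul, hz.w 5 (by norm_num) 2 (by norm_num)]
  simp only [Nat.reduceSub, Nat.reduceAdd, h.t5_0]
  match_scalars <;> (try ring_nf) <;> (try reduce_mod_char!) <;> (try ring_nf)

theorem ZZ.wp6 (hz : ZZ τ ρ z) (h : ZT k z p r) : ρ Cfsg.Agent.H943.SL2Rel.w (p 6) = (8 : k) • p 2 + (10 : k) • r 4 := by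
  conv_lhs => rw [h.p6, map_smul, hz.w 6 (by norm_num) 2 (by norm_num)]
  simp only [Nat.reduceSub, Nat.reduceAdd, h.t4_0]
  match_scalars <;> (try ring_nf) <;> (try reduce_mod_char!) <;> (try ring_nf)

theorem ZZ.wp7 (hz : ZZ τ ρ z) (h : ZT k z p r) : ρ Cfsg.Agent.H943.SL2Rel.w (p 7) = (9 : k) • p 1 + (9 : k) • r 3 := by
  conv_lhs => rw [h.p7, map_smul, hz.w 7 (by norm_num) 2 (by norm_num)]
  simp only [Nat.reduceSub, Nat.reduceAdd, h.t3_0]
  match_scalars <;> (try ring_nf) <;> (try reduce_mod_char!) <;> (try ring_nf)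

theorem ZZ.wp8 (hz : ZZ τ ρ z) (h : ZT k z p r) : ρ Cfsg.Agent.H943.SL2Rel.w (p 8) = (5 : k) • p 0 + (7 : k) • p 10 + (9 : k) • r 2 := by
  conv_lhs => rw [h.p8, map_smul, hz.w 8 (by norm_num) 2 (by norm_num)]
  simp only [Nat.reduceSub, Nat.reduceAdd, h.t2_0]
  match_scalars <;> (try ring_nf) <;> (try reduce_mod_char!) <;> (try ring_nf)

theorem ZZ.wp9 (hz : ZZ τ ρ z) (h : ZT k z p r) : ρ Cfsg.Agent.H943.SL2Rel.w (p 9) = p 9 + r 1 := by
  conv_lhs => rw [h.p9, map_smul, hz.w 9 (by norm_num) 2 (by norm_num)]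
  simp only [Nat.reduceSub, Nat.reduceAdd, h.t1_0]
  match_scalars <;> (try ring_nf) <;> (try reduce_mod_char!) <;> (try ring_nf)

theorem ZZ.wp10 (hz : ZZ τ ρ z) (h : ZT k z p r) : ρ Cfsg.Agent.H943.SL2Rel.w (p 10) = (10 : k) • r 0 := by
  conv_lhs => rw [h.p10, map_smul, hz.w 10 (by norm_num) 2 (by norm_num)]
  simp only [Nat.reduceSub, Nat.reduceAdd, h.t0_0]
  match_scalars <;> (try ring_nf) <;> (try reduce_mod_char!) <;> (try ring_nf)

theorem ZZ.wr0 (hz : ZZ τ ρ z) (h : ZT k z p r) : ρ Cfsg.Agent.H943.SL2Rel.w (r 0) = (10 : k) • p 10 := by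
  conv_lhs => rw [h.r0]
  try simp only [map_add, map_smul]
  rw [hz.w 0 (by norm_num) 0 (by norm_num)]
  simp only [Nat.reduceSub, Nat.reduceAdd, h.t10_2]
  match_scalars <;> (try ring_nf) <;> (try reduce_mod_char!) <;> (try ring_nf)

theorem ZZ.wr1 (hz : ZZ τ ρ z) (h : ZT k z p r) : ρ Cfsg.Agent.H943.SL2Rel.w (r 1) = (10 : k) • r 1 := by
  conv_lhs => rw [h.r1]
  try simp only [map_add, map_smul]
  rw [hz.w 0 (by norm_num) 1 (by norm_num), hz.w 9 (by norm_num) 2 (by norm_num)]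
  simp only [Nat.reduceSub, Nat.reduceAdd, h.t10_1, h.t1_0]
  match_scalars <;> (try ring_nf) <;> (try reduce_mod_char!) <;> (try ring_nf)

theorem ZZ.wr2 (hz : ZZ τ ρ z) (h : ZT k z p r) : ρ Cfsg.Agent.H943.SL2Rel.w (r 2) = (2 : k) • r 0 + (9 : k) • r 10 := by
  conv_lhs => rw [h.r2]
  try simp only [map_add, map_smul]
  rw [hz.w 1 (by norm_num) 1 (by norm_num), hz.w 0 (by norm_num) 2 (by norm_num), hz.w 10 (by norm_num) 2 (by norm_num)]
  simp only [Nat.reduceSub, Nat.reduceAdd, h.t9_1, h.t10_0, h.t0_0]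
  match_scalars <;> (try ring_nf) <;> (try reduce_mod_char!) <;> (try ring_nf)

theorem ZZ.wr3 (hz : ZZ τ ρ z) (h : ZT k z p r) : ρ Cfsg.Agent.H943.SL2Rel.w (r 3) = (5 : k) • r 9 := by
  conv_lhs => rw [h.r3]
  try simp only [map_add, map_smul]
  rw [hz.w 2 (by norm_num) 1 (by norm_num), hz.w 1 (by norm_num) 2 (by norm_num)]
  simp only [Nat.reduceSub, Nat.reduceAdd, h.t8_1, h.t9_0]
  match_scalars <;> (try ring_nf) <;> (try reduce_mod_char!) <;> (try ring_nf)

theorem ZZ.wr4 (hz : ZZ τ ρ z) (h : ZT k z p r) : ρ Cfsg.Agent.H943.SL2Rel.w (r 4) = (7 : k) • r 8 := by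
  conv_lhs => rw [h.r4]
  try simp only [map_add, map_smul]
  rw [hz.w 3 (by norm_num) 1 (by norm_num), hz.w 2 (by norm_num) 2 (by norm_num)]
  simp only [Nat.reduceSub, Nat.reduceAdd, h.t7_1, h.t8_0]
  match_scalars <;> (try ring_nf) <;> (try reduce_mod_char!) <;> (try ring_nf)

theorem ZZ.wr5 (hz : ZZ τ ρ z) (h : ZT k z p r) : ρ Cfsg.Agent.H943.SL2Rel.w (r 5) = (6 : k) • r 7 := by
  conv_lhs => rw [h.r5]
  try simp only [map_add, map_smul]
  rw [hz.w 4 (by norm_num) 1 (by norm_num), hz.w 3 (by norm_num) 2 (by norm_num)]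
  simp only [Nat.reduceSub, Nat.reduceAdd, h.t6_1, h.t7_0]
  match_scalars <;> (try ring_nf) <;> (try reduce_mod_char!) <;> (try ring_nf)

theorem ZZ.wr6 (hz : ZZ τ ρ z) (h : ZT k z p r) : ρ Cfsg.Agent.H943.SL2Rel.w (r 6) = r 6 := by
  conv_lhs => rw [h.r6]
  try simp only [map_add, map_smul]
  rw [hz.w 5 (by norm_num) 1 (by norm_num), hz.w 4 (by norm_num) 2 (by norm_num)]
  simp only [Nat.reduceSub, Nat.reduceAdd, h.t5_1, h.t6_0]
  match_scalars <;> (try ring_nf) <;> (try reduce_mod_char!) <;> (try ring_nf)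

theorem ZZ.wr7 (hz : ZZ τ ρ z) (h : ZT k z p r) : ρ Cfsg.Agent.H943.SL2Rel.w (r 7) = (2 : k) • r 5 := by
  conv_lhs => rw [h.r7]
  try simp only [map_add, map_smul]
  rw [hz.w 6 (by norm_num) 1 (by norm_num), hz.w 5 (by norm_num) 2 (by norm_num)]
  simp only [Nat.reduceSub, Nat.reduceAdd, h.t4_1, h.t5_0]
  match_scalars <;> (try ring_nf) <;> (try reduce_mod_char!) <;> (try ring_nf)

theorem ZZ.wr8 (hz : ZZ τ ρ z) (h : ZT k z p r) : ρ Cfsg.Agent.H943.SL2Rel.w (r 8) = (8 : k) • r 4 := by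
  conv_lhs => rw [h.r8]
  try simp only [map_add, map_smul]
  rw [hz.w 7 (by norm_num) 1 (by norm_num), hz.w 6 (by norm_num) 2 (by norm_num)]
  simp only [Nat.reduceSub, Nat.reduceAdd, h.t3_1, h.t4_0]
  match_scalars <;> (try ring_nf) <;> (try reduce_mod_char!) <;> (try ring_nf)

theorem ZZ.wr9 (hz : ZZ τ ρ z) (h : ZT k z p r) : ρ Cfsg.Agent.H943.SL2Rel.w (r 9) = (9 : k) • r 3 := by
  conv_lhs => rw [h.r9]
  try simp only [map_add, map_smul]
  rw [hz.w 8 (by norm_num) 1 (by norm_num), hz.w 7 (by norm_num) 2 (by norm_num)]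
  simp only [Nat.reduceSub, Nat.reduceAdd, h.t2_1, h.t3_0]
  match_scalars <;> (try ring_nf) <;> (try reduce_mod_char!) <;> (try ring_nf)

theorem ZZ.wr10 (hz : ZZ τ ρ z) (h : ZT k z p r) : ρ Cfsg.Agent.H943.SL2Rel.w (r 10) = (10 : k) • p 10 + (5 : k) • r 2 := by
  conv_lhs => rw [h.r10]
  try simp only [map_add, map_smul]
  rw [hz.w 9 (by norm_num) 1 (by norm_num), hz.w 8 (by norm_num) 2 (by norm_num)]
  simp only [Nat.reduceSub, Nat.reduceAdd, h.t1_1, h.t2_0]
  match_scalars <;> (try ring_nf) <;> (try reduce_mod_char!) <;> (try ring_nf)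

theorem ZZ.up (hz : ZZ τ ρ z) (h : ZT k z p r) (t : K) : ρ (Cfsg.Agent.H943.SL2Rel.u t) (p 0) =
    ∑ j ∈ Finset.range 11, (τ t ^ j * ((j.factorial : k))⁻¹) • p j := by
  rw [show p 0 = z 0 2 from h.t0_2.symm, hz.u 0 (by norm_num) 2 (by norm_num)]
  simp only [Finset.sum_range_succ, Finset.sum_range_zero, zero_add, if0, if1, if2, if3, if4, if5, if6, if7, if8, if9, if10,
    Nat.sub_self, Nat.sub_zero, Nat.choose, Nat.reduceAdd, Nat.cast_ofNat, Nat.cast_one, add_zero,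
    h.t0_2, h.t1_2, h.t2_2, h.t3_2, h.t4_2, h.t5_2, h.t6_2, h.t7_2, h.t8_2, h.t9_2, h.t10_2]
  generalize τ t = T
  match_scalars <;> (try ring_nf) <;> (try reduce_mod_char!) <;> (try ring_nf)

theorem ZZ.ur (hz : ZZ τ ρ z) (h : ZT k z p r) (t : K) : ρ (Cfsg.Agent.H943.SL2Rel.u t) (r 0) =
    ∑ j ∈ Finset.range 11, (τ t ^ j * ((j.factorial : k))⁻¹) • r j + (τ t ^ 11 - τ t) • (10 : k) • p 9 +
      (τ t ^ 12 - τ t ^ 2) • (10 : k) • p 10 := by
  rw [show r 0 = z 0 0 from h.t0_0.symm, hz.u 0 (by norm_num) 0 (by norm_num)]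
  simp only [Finset.sum_range_succ, Finset.sum_range_zero, zero_add, if0, if1, if2, if3, if4, if5, if6, if7, if8, if9, if10,
    Nat.sub_self, Nat.sub_zero, Nat.choose, Nat.reduceAdd, Nat.cast_ofNat, Nat.cast_one, add_zero,
    h.t0_2, h.t1_2, h.t2_2, h.t3_2, h.t4_2, h.t5_2, h.t6_2, h.t7_2, h.t8_2, h.t9_2, h.t10_2,
    h.t0_1, h.t1_1, h.t2_1, h.t3_1, h.t4_1, h.t5_1, h.t6_1, h.t7_1, h.t8_1, h.t9_1, h.t10_1,
    h.t0_0, h.t1_0, h.t2_0, h.t3_0, h.t4_0, h.t5_0, h.t6_0, h.t7_0, h.t8_0, h.t9_0, h.t10_0]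
  generalize τ t = T
  match_scalars <;> (try ring_nf) <;> (try reduce_mod_char!) <;> (try ring_nf) <;> (try reduce_mod_char!) <;> (try ring_nf)

end Cfsg.Agent.R2.H14.E11
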